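import Cfsg.Agent.Lib.MaxSub.TensorPowOrth.Zs
import Cfsg.Agent.Lib.MaxSub.TensorPow.Trace
import Mathlib.GroupTheory.GroupAction.Quotient

/-!
Sums over one-parameter groups of Eichler transformations, and the congruence for the sum of the
conjugates of an operator when the group need not act freely.
-/

set_option autoImplicit false
set_option maxHeartbeats 800000
set_option linter.unusedSectionVars false

namespace CfsgLib.MaxSub.TensorPow

open Matrix

variable {F : Type*} [Field F] [Fintype F] {ι : Type} [Fintype ι] [DecidableEq ι]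
  {M N : Type*} [AddCommGroup M] [Module F M] [AddCommGroup N] [Module F N]
  {ρ : GL ι F →* Module.End F M} {σ : GL ι F →* Module.End F N}
  {G H : Subgroup (GL ι F)} {e : M →ₗ[F] N}

/-- The congruence, when a fixed vector of one element is fixed by all of them. -/
theorem avg_sub_mem_fix {K : Type*} [AddCommGroup K] [Fintype K] {p n : ℕ} [Fact p.Prime] [CharP F p]
    (hK : Fintype.card K = p ^ n) (he : CommH ρ σ G H e)
    (u : K → GL ι F) (hu0 : u 0 = 1) (hmul : ∀ k l, u (k + l) = u k * u l)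
    (huG : ∀ k, u k ∈ G) (huH : ∀ k, u k ∈ H)
    (hfull : ∀ g ∈ G, (∀ k, g⁻¹ * u k * g ∈ H) → g ∈ H)
    (hext : ∀ k, k ≠ 0 → ∀ Z : N, σ (u k) Z = Z → ∀ l, σ (u l) Z = Z)
    {X : M} (hX : ∀ k, ρ (u k) X = X) :
    ∃ Y : N, avg ρ σ G H e X - e X = ∑ k, σ (u k) Y := by
  classical
  letI := Fintype.ofFinite (↥G ⧸ H.subgroupOf G)
  let W : Submodule F N := LinearMap.range (∑ k, σ (u k) : Module.End F N)
  suffices h : avg ρ σ G H e X - e X ∈ W by
    obtain ⟨Y, hY⟩ := h
    exact ⟨Y, by rw [← hY, LinearMap.sum_apply]⟩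
  let φ : Multiplicative K →* ↥G :=
    { toFun := fun k => ⟨u k.toAdd, huG _⟩
      map_one' := Subtype.ext hu0
      map_mul' := fun k l => Subtype.ext (hmul _ _) }
  letI : MulAction (Multiplicative K) (↥G ⧸ H.subgroupOf G) := MulAction.compHom _ φ
  have hsmul : ∀ (k : Multiplicative K) (q : ↥G ⧸ H.subgroupOf G), k • q = φ k • q := fun _ _ => rfl
  set q₀ : ↥G ⧸ H.subgroupOf G := ((1 : ↥G) : ↥G ⧸ H.subgroupOf G) with hq₀
  set c : (↥G ⧸ H.subgroupOf G) → N := fun q => σ (q.out : GL ι F) (e (ρ ((q.out : GL ι F))⁻¹ X))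
    with hc
  have hc₀ : c q₀ = e X := by
    simp only [hc]
    rw [← conj_const he (g := 1) (show ((1 : ↥G) : ↥G ⧸ H.subgroupOf G) = q₀.out from
      (QuotientGroup.out_eq' q₀).symm)]
    simp
  have hmove : ∀ (k : Multiplicative K) q, c (k • q) = σ (u k.toAdd) (c q) := by
    intro k q
    have hq : ((φ k * q.out : ↥G) : ↥G ⧸ H.subgroupOf G) = ((k • q).out : ↥G ⧸ H.subgroupOf G) := by
      rw [QuotientGroup.out_eq']
      conv_rhs => rw [hsmul, ← QuotientGroup.out_eq' q]
      rfl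
    have hk' : ρ (u k.toAdd)⁻¹ X = X := by conv_lhs => rw [← hX k.toAdd, rep_inv_cancel]
    simp only [hc]
    rw [← conj_const he hq, Subgroup.coe_mul, _root_.mul_inv_rev,
      show ((φ k : ↥G) : GL ι F) = u k.toAdd from rfl, rep_mul σ, rep_mul ρ, hk']
  have hfix₀ : ∀ k : Multiplicative K, k • q₀ = q₀ := by
    intro k
    refine (QuotientGroup.eq.2 ?_).symm
    rw [Subgroup.mem_subgroupOf]
    simpa [φ] using huH k.toAdd
  have hmoved : ∀ q, (∀ k : Multiplicative K, k • q = q) → q = q₀ := by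
    intro q
    induction q using QuotientGroup.induction_on with
    | _ g =>
      intro h
      refine (QuotientGroup.eq.2 ?_).symm
      rw [Subgroup.mem_subgroupOf]
      have hg : (g : GL ι F) ∈ H := hfull _ g.2 fun k => by
        have h2 := QuotientGroup.eq.1
          ((show ((φ (Multiplicative.ofAdd k) * g : ↥G) : ↥G ⧸ H.subgroupOf G) = g from h _).symm)
        rw [Subgroup.mem_subgroupOf, Subgroup.coe_mul, InvMemClass.coe_inv, Subgroup.coe_mul,
          ← mul_assoc] at h2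
        exact h2
      simpa using hg
  rw [avg_apply, ← hc₀]
  show ∑ q, c q - c q₀ ∈ W
  rw [← Finset.add_sum_erase _ _ (Finset.mem_univ q₀), add_sub_cancel_left]
  letI := Fintype.ofFinite (MulAction.orbitRel.Quotient (Multiplicative K) (↥G ⧸ H.subgroupOf G))
  rw [← Finset.sum_fiberwise (Finset.univ.erase q₀) (fun q => (Quotient.mk'' q :
    MulAction.orbitRel.Quotient (Multiplicative K) (↥G ⧸ H.subgroupOf G))) c]
  refine Submodule.sum_mem _ fun ω _ => ?_
  induction ω using Quotient.inductionOn' with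
  | h a =>
    by_cases ha : a = q₀
    · rw [Finset.sum_eq_zero]
      · exact W.zero_mem
      · intro q hq
        obtain ⟨hq1, hq2⟩ := Finset.mem_filter.1 hq
        obtain ⟨k, hk⟩ := (Quotient.eq''.1 hq2 : q ∈ MulAction.orbit (Multiplicative K) a)
        exact absurd (hk.symm.trans (ha ▸ hfix₀ k)) (Finset.mem_erase.1 hq1).1
    · have hset : (Finset.univ.erase q₀).filter (fun q => (Quotient.mk'' q :
          MulAction.orbitRel.Quotient (Multiplicative K) (↥G ⧸ H.subgroupOf G)) = Quotient.mk'' a) =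
          Finset.univ.image fun k : Multiplicative K => k • a := by
        ext q
        simp only [Finset.mem_filter, Finset.mem_erase, Finset.mem_univ, and_true, Finset.mem_image,
          true_and, Quotient.eq'']
        constructor
        · rintro ⟨-, k, hk⟩; exact ⟨k, hk⟩
        · rintro ⟨k, rfl⟩
          refine ⟨fun h => ha ?_, MulAction.mem_orbit a k⟩
          rw [← inv_smul_smul k a, h, hfix₀]
      rw [hset]
      by_cases hfree : ∀ k : Multiplicative K, k • a = a → k = 1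
      · rw [Finset.sum_image fun k _ l _ hkl => ?_]
        · refine ⟨c a, ?_⟩
          rw [LinearMap.sum_apply]
          refine Fintype.sum_equiv Multiplicative.ofAdd _ _ fun k => ?_
          rw [hmove]; rfl
        · have hkl' : (l⁻¹ * k) • a = a := by rw [mul_smul, hkl, inv_smul_smul]
          exact (inv_mul_eq_one.1 (hfree _ hkl')).symm
      · push Not at hfree
        obtain ⟨k₀, hk₀, hk₀1⟩ := hfree
        have hconst : ∀ l, σ (u l) (c a) = c a :=
          hext k₀.toAdd (fun h0 => hk₀1 (by simpa using h0)) (c a) (by rw [← hmove, hk₀])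
        rw [Finset.sum_eq_card_nsmul (b := c a) (fun q hq => by
          obtain ⟨k, -, rfl⟩ := Finset.mem_image.1 hq
          rw [hmove, hconst]), ← Nat.cast_smul_eq_nsmul F]
        have hcard : (Finset.univ.image fun k : Multiplicative K => k • a).card =
            Fintype.card (MulAction.orbit (Multiplicative K) a) := by
          rw [← Set.toFinset_card]
          congr 1
          ext q
          simp [MulAction.mem_orbit_iff]
        have hprod := MulAction.card_orbit_mul_card_stabilizer_eq_card_group (Multiplicative K) a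
        rw [Fintype.card_multiplicative, hK] at hprod
        obtain ⟨j, -, hj⟩ := (Nat.dvd_prime_pow (Fact.out : p.Prime)).1 ⟨_, hprod.symm⟩
        rw [hcard, hj]
        rcases Nat.eq_zero_or_pos j with hj0 | hj0
        · refine absurd (hmoved a fun k => ?_) ha
          rw [hj0, pow_zero, Fintype.card_eq_one_iff] at hj
          obtain ⟨x, hx⟩ := hj
          have h1 := hx ⟨k • a, MulAction.mem_orbit a k⟩
          have h2 := hx ⟨a, MulAction.mem_orbit_self a⟩
          exact congrArg Subtype.val (h1.trans h2.symm)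
        · rw [Nat.cast_pow, CharP.cast_eq_zero, zero_pow hj0.ne', zero_smul]
          exact W.zero_mem

end CfsgLib.MaxSub.TensorPow

namespace CfsgLib.MaxSub.TensorPowOrth

open Matrix Module
open CfsgLib.Aschbacher CfsgLib.MaxSub.TensorPow

variable {F : Type*} [Field F] {k t : ℕ}

local notation "Vk" => Fin k → F
local notation "MT" => Matrix (Fin t → Fin k) (Fin t → Fin k) F

namespace OForm

variable (Φ : OForm F k) {i : Fin t} {e θ φ : Fin k → F}

theorem W_mul_W (he : Φ.β e e = 0) (hθ : Φ.β θ e = 0) (hφ : Φ.β φ e = 0) :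
    Φ.W i θ e * Φ.W i φ e = (-Φ.β θ φ) • (Φ.P i e e : MT) := by
  simp only [W, sub_mul, mul_sub, P_mul, he, Φ.sform.symm0 hφ, hθ, zero_smul, neg_smul]
  abel

theorem W_mul_P (he : Φ.β e e = 0) (hθ : Φ.β θ e = 0) : Φ.W i θ e * Φ.P i e e = (0 : MT) := by
  simp [W, sub_mul, P_mul, he, hθ]

theorem P_mul_W (he : Φ.β e e = 0) (hθ : Φ.β θ e = 0) : Φ.P i e e * Φ.W i θ e = (0 : MT) := by
  simp [W, mul_sub, P_mul, he, Φ.sform.symm0 hθ]

theorem P_mul_self (he : Φ.β e e = 0) : Φ.P i e e * Φ.P i e e = (0 : MT) := by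
  simp [P_mul, he]

/-- The part of second degree. -/
noncomputable def A2 (i : Fin t) (e θ : Vk) (Y : MT) : MT :=
  -((Φ.β θ θ / 2) • (Φ.P i e e * Y + Y * Φ.P i e e) + Φ.W i θ e * Y * Φ.W i θ e)

variable [Fintype F]

include Φ in
theorem sum_odd {r : ℕ} (hr : Odd r) : ∑ x : F, x ^ r = 0 := by
  have h : ∑ x : F, x ^ r = -∑ x : F, x ^ r := by
    rw [← Finset.sum_neg_distrib]
    exact Fintype.sum_equiv (Equiv.neg F) _ _ fun x => by simp [hr.neg_pow]
  have h2 : (2 : F) * ∑ x : F, x ^ r = 0 := by linear_combination h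
  exact (mul_eq_zero.1 h2).resolve_left Φ.two

/-- The sum over a one-parameter group of Eichler transformations. -/
theorem sum_line (he : Φ.β e e = 0) (hθ : Φ.β θ e = 0) (Y : MT) :
    ∑ c : F, Φ.E i e (c • θ) * Y * Φ.E i e (-(c • θ)) =
      (∑ c : F, c ^ 2) • Φ.A2 i e θ Y +
        ((∑ c : F, c ^ 4) * (Φ.β θ θ / 2) ^ 2) • (Φ.P i e e * Y * Φ.P i e e) := by
  have hterm : ∀ c : F, Φ.E i e (c • θ) * Y * Φ.E i e (-(c • θ)) =
      c ^ 0 • Y + c ^ 1 • (Φ.W i θ e * Y - Y * Φ.W i θ e) + c ^ 2 • Φ.A2 i e θ Y +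
        c ^ 3 • ((Φ.β θ θ / 2) • (Φ.P i e e * Y * Φ.W i θ e - Φ.W i θ e * Y * Φ.P i e e) ) +
        c ^ 4 • ((Φ.β θ θ / 2) ^ 2 • (Φ.P i e e * Y * Φ.P i e e)) := fun c => by
    simp only [E_eq, ← neg_smul, W_smul_left, Φ.sform.smul_left, Φ.sform.smul_right, A2, mul_add,
      add_mul, mul_sub, sub_mul, one_mul, mul_one, Matrix.smul_mul, Matrix.mul_smul, mul_assoc]
    match_scalars <;> field_simp <;> ring
  simp only [hterm, Finset.sum_add_distrib, ← Finset.sum_smul]
  rw [show ∑ c : F, c ^ 0 = 0 by simp, Φ.sum_odd odd_one, Φ.sum_odd (r := 3) ⟨1, rfl⟩, zero_smul,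
    zero_smul, zero_smul, zero_add, zero_add, add_zero, smul_smul]

/-- The sum over a plane of Eichler transformations. -/
theorem sum_plane (he : Φ.β e e = 0) (hθ : Φ.β θ e = 0) (hφ : Φ.β φ e = 0) (h : Φ.β θ φ = 0)
    (Y : MT) :
    ∃ r : F, ∑ a : F, ∑ b : F, Φ.E i e (a • θ + b • φ) * Y * Φ.E i e (-(a • θ + b • φ)) =
      r • (Φ.P i e e * Y * Φ.P i e e) := by
  have hsm : ∀ (c : F) {v : Vk}, Φ.β v e = 0 → Φ.β (c • v) e = 0 := fun c v hv => by
    rw [Φ.sform.smul_left, hv, mul_zero]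
  have hng : ∀ {v : Vk}, Φ.β v e = 0 → Φ.β (-v) e = 0 := fun hv => by
    rw [Φ.sform.neg_left, hv, neg_zero]
  have hsplit : ∀ a b : F, Φ.E i e (a • θ + b • φ) * Y * Φ.E i e (-(a • θ + b • φ)) =
      Φ.E i e (a • θ) * (Φ.E i e (b • φ) * Y * Φ.E i e (-(b • φ))) * Φ.E i e (-(a • θ)) := fun a b => by
    rw [← Φ.E_mul i he (hsm a hθ) (hsm b hφ), show -(a • θ + b • φ) = -(b • φ) + -(a • θ) by abel,
      ← Φ.E_mul i he (hng (hsm b hφ)) (hng (hsm a hθ))]
    simp only [mul_assoc]
  simp only [hsplit, ← Finset.mul_sum, ← Finset.sum_mul]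
  simp only [Φ.sum_line he hφ]
  rw [Φ.sum_line he hθ]
  set P : MT := Φ.P i e e with hP
  have hPP : ∀ Z : MT, P * (P * Z) = 0 := fun Z => by rw [← mul_assoc, hP, P_mul_self Φ he, zero_mul]
  have hPP' : P * P = 0 := by rw [hP, P_mul_self Φ he]
  have hWP : ∀ {v : Vk}, Φ.β v e = 0 → ∀ Z : MT, Φ.W i v e * (P * Z) = 0 := fun hv Z => by
    rw [← mul_assoc, hP, W_mul_P Φ he hv, zero_mul]
  have hWP' : ∀ {v : Vk}, Φ.β v e = 0 → Φ.W i v e * P = 0 := fun hv => by rw [hP, W_mul_P Φ he hv]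
  have hPW : ∀ {v : Vk}, Φ.β v e = 0 → ∀ Z : MT, P * (Φ.W i v e * Z) = 0 := fun hv Z => by
    rw [← mul_assoc, hP, P_mul_W Φ he hv, zero_mul]
  have hPW' : ∀ {v : Vk}, Φ.β v e = 0 → P * Φ.W i v e = 0 := fun hv => by rw [hP, P_mul_W Φ he hv]
  have hWW : ∀ Z : MT, Φ.W i θ e * (Φ.W i φ e * Z) = 0 := fun Z => by
    rw [← mul_assoc, W_mul_W Φ he hθ hφ, h, neg_zero, zero_smul, zero_mul]
  have hWW' : Φ.W i φ e * Φ.W i θ e = (0 : MT) := by
    rw [W_mul_W Φ he hφ hθ, Φ.sform.symm θ φ, h, neg_zero, zero_smul]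
  refine ⟨(∑ c : F, c ^ 2) * (∑ c : F, c ^ 2) * (2 * (Φ.β θ θ / 2) * (Φ.β φ φ / 2)), ?_⟩
  simp only [A2, ← hP, mul_add, add_mul, mul_neg, neg_mul, smul_add, smul_neg, neg_neg,
    Matrix.mul_smul, Matrix.smul_mul, mul_assoc, hPP, hPP', hWP hθ, hWP hφ, hWP' hθ, hWP' hφ, hPW hθ,
    hPW hφ, hPW' hθ, hPW' hφ, hWW, hWW', mul_zero, zero_mul, smul_zero, neg_zero, add_zero, zero_add]
  module

end OForm

end CfsgLib.MaxSub.TensorPowOrth
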