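import Cfsg.Agent.Lib.MaxSub.TensorPowOrth.Zs
import Cfsg.Agent.Lib.MaxSub.TensorPow.Moving

/-!
Similitudes of a factor, and the factors of an isometry which is a pure tensor times a permutation.
-/

set_option autoImplicit false
set_option maxHeartbeats 800000
set_option linter.unusedSectionVars false

namespace CfsgLib.MaxSub.TensorPowOrth

open Matrix Module
open CfsgLib.Aschbacher CfsgLib.MaxSub.TensorPow

variable {F : Type*} [Field F] {k t : ℕ}

local notation "Vk" => Fin k → F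
local notation "Mm" => Matrix (Fin k) (Fin k) F
local notation "MT" => Matrix (Fin t → Fin k) (Fin t → Fin k) F

/-- A matrix of a factor, as a pure tensor times a permutation. -/
theorem isWr_of_fa [NeZero k] {i : Fin t} {M : Mm} {g : GL (Fin t → Fin k) F}
    (hg : (g : MT) = fa i M) : IsWr g := by
  obtain ⟨N, hN⟩ : ∃ N, M * N = 1 := by
    have hg' : ∀ l ≠ i, ∀ Z, Commute (((g⁻¹ : GL (Fin t → Fin k) F) : MT)) (fa l Z) :=
      fun l hl Z => Commute.units_inv_left (by rw [hg]; exact fa_commute (Ne.symm hl) M Z)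
    obtain ⟨N, hN⟩ := cent_range i hg'
    refine ⟨N, fa_injective i ?_⟩
    rw [map_mul, ← hg, ← hN, Units.mul_inv, map_one]
  let Mu : GL (Fin k) F := ⟨M, N, hN, mul_eq_one_comm.1 hN⟩
  refine ⟨Function.update 1 i Mu, 1, Units.ext ?_⟩
  rw [permGL_one, mul_one, hg, fa_eq]
  show pureMat _ = pureMat _
  congr 1
  funext l
  by_cases hl : l = i
  · subst hl; simp [Mu]
  · simp [hl]

namespace OForm

variable {Φ : OForm F k} {M : Matrix (Fin k) (Fin k) F} {ν : F}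

/-- The image of a rank one operator under conjugation by a similitude. -/
theorem sim_conj_rk (hM : Φ.adj1 M * M = ν • 1) (x y : Vk) :
    M * Φ.rk x y * Φ.adj1 M = Φ.rk (M *ᵥ x) (M *ᵥ y) := by
  rw [mul_rk, rk_mul, adj1_adj1]

theorem sim_beta (hM : Φ.adj1 M * M = ν • 1) (x y : Vk) :
    Φ.β (M *ᵥ x) (M *ᵥ y) = ν * Φ.β x y := by
  rw [beta_mulVec, Matrix.mulVec_mulVec, hM, Matrix.smul_mulVec, Matrix.one_mulVec,
    Φ.sform.smul_right]

theorem sim_comm (hν : ν ≠ 0) (hM : Φ.adj1 M * M = ν • 1) : M * Φ.adj1 M = ν • 1 := by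
  have h1 : (ν⁻¹ • Φ.adj1 M) * M = 1 := by rw [Matrix.smul_mul, hM, inv_smul_smul₀ hν]
  have h2 := mul_eq_one_comm.1 h1
  rw [Matrix.mul_smul] at h2
  rw [← h2, smul_inv_smul₀ hν]

/-- The image of an Eichler transformation under a similitude. -/
theorem sim_conj_E1 (hν : ν ≠ 0) (hM : Φ.adj1 M * M = ν • 1) (e θ : Vk) :
    M * Φ.E1 e θ * (ν⁻¹ • Φ.adj1 M) = Φ.E1 (M *ᵥ e) (ν⁻¹ • (M *ᵥ θ)) := by
  rw [E1, E1]
  simp only [mul_add, add_mul, mul_sub, sub_mul, mul_one, Matrix.mul_smul, Matrix.smul_mul,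
    sim_conj_rk hM, sim_comm hν hM, inv_smul_smul₀ hν, Φ.sform.smul_left, Φ.sform.smul_right,
    sim_beta hM]
  congr 1
  simp only [rk, smul_vecMulVec, Matrix.mulVec_smul, vecMulVec_smul, smul_sub, smul_smul]
  match_scalars <;> field_simp

/-- The image of a half turn under a similitude. -/
theorem sim_conj_T1 (hν : ν ≠ 0) (hM : Φ.adj1 M * M = ν • 1) {a : Vk} (ha : Φ.β a a ≠ 0) :
    M * Φ.T1 a * (ν⁻¹ • Φ.adj1 M) = Φ.T1 (M *ᵥ a) := by
  rw [T1, T1]
  simp only [mul_sub, sub_mul, mul_one, Matrix.mul_smul, Matrix.smul_mul, sim_conj_rk hM,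
    sim_comm hν hM, inv_smul_smul₀ hν, sim_beta hM]
  congr 1
  simp only [smul_smul]
  congr 1
  field_simp

/-- In odd dimension the multiplier of a similitude is a square. -/
theorem sim_square (hν : ν ≠ 0) (hk : Odd k) (hM : Φ.adj1 M * M = ν • 1) : IsSquare ν := by
  obtain ⟨j, rfl⟩ := hk
  have h := congrArg Matrix.det hM
  rw [adj1, Matrix.det_mul, Matrix.det_mul, Matrix.det_mul, Matrix.det_transpose, Matrix.det_smul,
    Matrix.det_one, Fintype.card_fin, mul_one, Matrix.det_nonsing_inv, Ring.inverse_eq_inv'] at h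
  have h0 : Φ.S.det ≠ 0 := Φ.det.ne_zero
  refine ⟨M.det / ν ^ j, ?_⟩
  field_simp
  rw [show Φ.S.det⁻¹ * M.det * Φ.S.det * M.det = M.det ^ 2 by field_simp] at h
  rw [h]
  ring

theorem sim_cls {c₀ : F} (hν : ν ≠ 0) (hM : Φ.adj1 M * M = ν • 1) {a : Vk} (ha : Φ.Cls c₀ a) :
    Φ.Cls c₀ (M *ᵥ a) := by
  refine ⟨by rw [sim_beta hM]; exact mul_ne_zero hν ha.1, ?_⟩
  rcases ha.2 with h | h
  · exact Or.inl h
  rcases Nat.even_or_odd k with hev | hodd
  · exact Or.inl hev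
  · refine Or.inr ?_
    rw [sim_beta hM, mul_assoc]
    exact (sim_square hν hodd hM).mul h

theorem Iso.adj_Ad {g : GL (Fin t → Fin k) F} (hg : Φ.Iso g) (X : MT) :
    Φ.adj (Ad g X) = Ad g (Φ.adj X) := by
  have h2 : Φ.adj ((g⁻¹ : GL (Fin t → Fin k) F) : MT) = (g : MT) := by
    rw [← hg.adj_eq, adj_adj]
  rw [Ad_apply, Ad_apply, adj_mul, adj_mul, h2, hg.adj_eq, mul_assoc]

/-- The factors of an isometry in the wreath group are similitudes. -/
theorem wr_sim [NeZero k] {A : Fin t → GL (Fin k) F} {σ : Equiv.Perm (Fin t)}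
    (hg : Φ.Iso (pureGL A * permGL k F σ)) (j : Fin t) :
    ∃ ν : F, ν ≠ 0 ∧ Φ.adj1 (A j : Mm) * (A j : Mm) = ν • 1 := by
  set i := σ.symm j with hi
  have hσ : σ i = j := σ.apply_symm_apply j
  set B : Mm := (A j : Mm)
  set Bi : Mm := (((A j)⁻¹ : GL (Fin k) F) : Mm)
  have hA : ∀ X : Mm, Φ.adj1 (B * X * Bi) = B * Φ.adj1 X * Bi := fun X => by
    refine fa_injective j ?_
    rw [← adj_fa, ← hσ, show B = (A (σ i) : Mm) by rw [hσ],
      show Bi = (((A (σ i))⁻¹ : GL (Fin k) F) : Mm) by rw [hσ], ← Ad_wr_fa, ← Ad_wr_fa, hg.adj_Ad,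
      adj_fa]
  have hBB : Bi * B = 1 := Units.inv_mul _
  have hBB' : B * Bi = 1 := Units.mul_inv _
  have hcomm : ∀ X : Mm, Commute (Φ.adj1 B * B) X := fun X => by
    have h1 := congrArg (fun Z => Φ.adj1 B * Z * B) (hA (Φ.adj1 X))
    simp only [adj1_mul, adj1_adj1] at h1
    have e1 : Φ.adj1 B * (Φ.adj1 Bi * (X * Φ.adj1 B)) * B = X * (Φ.adj1 B * B) := by
      rw [← mul_assoc (Φ.adj1 B) (Φ.adj1 Bi), ← adj1_mul, hBB, adj1_one, one_mul, mul_assoc]
    have e2 : Φ.adj1 B * (B * X * Bi) * B = Φ.adj1 B * B * X := by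
      rw [mul_assoc (Φ.adj1 B), mul_assoc (B * X), hBB, mul_one, mul_assoc]
    rw [e1, e2] at h1
    exact h1.symm
  obtain ⟨c, hc⟩ := Matrix.mem_range_scalar_of_commute_single (M := Φ.adj1 B * B)
    fun x y _ => (hcomm _).symm
  have hcv : Φ.adj1 B * B = c • 1 := by rw [← hc]; simp [Matrix.smul_one_eq_diagonal]
  refine ⟨c, fun h0 => ?_, hcv⟩
  rw [h0, zero_smul] at hcv
  have h2 := congrArg (fun Z => Φ.adj1 Bi * Z * Bi) hcv
  simp only [mul_zero, zero_mul] at h2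
  rw [← mul_assoc (Φ.adj1 Bi), ← adj1_mul, hBB', adj1_one, one_mul, hBB'] at h2
  exact one_ne_zero h2

end OForm

end CfsgLib.MaxSub.TensorPowOrth
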