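import Cfsg.Agent.Lib.MaxSub.TensorPowOrth.Diag
import Cfsg.Agent.Lib.MaxSub.TensorPowOrth.Similar
import Cfsg.Agent.Lib.MaxSub.TensorPow.Lie
import Cfsg.Agent.Lib.MaxSub.TensorPow.Op

/-!
The projection to the skew operators of the factors, and the spanning of the skew operators of a factor.
-/

set_option autoImplicit false
set_option maxHeartbeats 800000
set_option linter.unusedSectionVars false

namespace CfsgLib.MaxSub.TensorPowOrth

open Matrix Module
open CfsgLib.Aschbacher CfsgLib.MaxSub.TensorPow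
open CfsgLib.MaxSub.TensorOO (exists_pair split_pair pairPerp mem_pairPerp singular_span
  exists_aniso_pairPerp)

variable {F : Type*} [Field F] {k t : ℕ}

local notation "Vk" => Fin k → F
local notation "Mm" => Matrix (Fin k) (Fin k) F
local notation "MT" => Matrix (Fin t → Fin k) (Fin t → Fin k) F

namespace OForm

variable (Φ : OForm F k)

/-- The skew operator of two vectors, in the factor. -/
def w1 (x y : Vk) : Mm := Φ.rk x y - Φ.rk y x

theorem W_eq_fa (i : Fin t) (x y : Vk) : (Φ.W i x y : MT) = fa i (Φ.w1 x y) := by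
  rw [w1, map_sub]; rfl

theorem adj1_w1 (x y : Vk) : Φ.adj1 (Φ.w1 x y) = -Φ.w1 x y := by
  rw [w1, adj1_sub, adj1_rk, adj1_rk, neg_sub]

theorem w1_add_left (x y z : Vk) : Φ.w1 (x + y) z = Φ.w1 x z + Φ.w1 y z := by
  simp only [w1, rk, add_vecMulVec, Matrix.mulVec_add, vecMulVec_add]; abel

theorem w1_smul_left (c : F) (x z : Vk) : Φ.w1 (c • x) z = c • Φ.w1 x z := by
  simp only [w1, rk, smul_vecMulVec, Matrix.mulVec_smul, vecMulVec_smul, smul_sub]

theorem w1_swap (x y : Vk) : Φ.w1 y x = -Φ.w1 x y := by rw [w1, w1, neg_sub]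

theorem w1_add_right (x y z : Vk) : Φ.w1 x (y + z) = Φ.w1 x y + Φ.w1 x z := by
  simp only [w1, rk, add_vecMulVec, Matrix.mulVec_add, vecMulVec_add]; abel

theorem w1_smul_right (c : F) (x z : Vk) : Φ.w1 x (c • z) = c • Φ.w1 x z := by
  simp only [w1, rk, smul_vecMulVec, Matrix.mulVec_smul, vecMulVec_smul, smul_sub]

theorem w1_self (x : Vk) : Φ.w1 x x = 0 := sub_self _

/-- Conjugating a skew operator by a similitude. -/
theorem conj_w1 (A B : Mm) (x y : Vk) (hB : Φ.adj1 B = A) :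
    A * Φ.w1 x y * B = Φ.w1 (A *ᵥ x) (A *ᵥ y) := by
  rw [w1, mul_sub, sub_mul, mul_rk, mul_rk, rk_mul, rk_mul, hB, w1]

/-- A skew operator is a combination of the skew operators of vectors. -/
theorem skew_eq_sum [Finite F] (hk : 1 ≤ k) {Z : Mm} (hZ : Φ.adj1 Z = -Z) :
    ∃ (a : Fin k → Vk) (c : Fin k → F), Z = ∑ r, c r • Φ.w1 (Z *ᵥ a r) (a r) := by
  obtain ⟨a, last, D⟩ := Φ.exists_diag hk (one_ne_zero : (1 : F) ≠ 0)
  refine ⟨a, fun r => (2 : F)⁻¹ * (Φ.β (a r) (a r))⁻¹, ?_⟩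
  have e1 : Z = ∑ r, (Φ.β (a r) (a r))⁻¹ • Φ.rk (Z *ᵥ a r) (a r) := by
    conv_lhs => rw [← mul_one Z, ← D.resolution, Finset.mul_sum]
    exact Finset.sum_congr rfl fun r _ => by rw [Matrix.mul_smul, mul_rk]
  have e2 : -Z = ∑ r, (Φ.β (a r) (a r))⁻¹ • Φ.rk (a r) (Z *ᵥ a r) := by
    conv_lhs => rw [← one_mul Z, ← D.resolution, Finset.sum_mul, ← Finset.sum_neg_distrib]
    refine Finset.sum_congr rfl fun r _ => ?_
    rw [Matrix.smul_mul, rk_mul, hZ, Matrix.neg_mulVec, ← smul_neg]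
    simp [rk, Matrix.mulVec_neg, vecMulVec_neg]
  have e3 : (2 : F) • Z = ∑ r, (Φ.β (a r) (a r))⁻¹ • Φ.w1 (Z *ᵥ a r) (a r) := by
    rw [two_smul, ← sub_neg_eq_add]
    nth_rw 1 [e1]
    rw [e2, ← Finset.sum_sub_distrib]
    simp only [w1, smul_sub]
  have e4 := congrArg ((2 : F)⁻¹ • ·) e3
  simp only [inv_smul_smul₀ Φ.two, Finset.smul_sum, smul_smul] at e4
  exact e4

/-- The skew operators are spanned by those of singular vectors with perpendicular ones. -/
theorem skew_span [Finite F] (hk : 3 ≤ k) (P : Submodule F Mm)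
    (hP : ∀ e κ, Φ.β e e = 0 → Φ.β κ e = 0 → Φ.w1 κ e ∈ P) {Z : Mm} (hZ : Φ.adj1 Z = -Z) :
    Z ∈ P := by
  have hpair : ∀ e e', Φ.β e e = 0 → Φ.β e' e' = 0 → Φ.β e e' = 1 → Φ.w1 e e' ∈ P := by
    intro e e' he he' h
    obtain ⟨a, ha, haa⟩ := exists_aniso_pairPerp Φ.sform (by rw [finrank_vk]; exact hk) he he' h
    obtain ⟨h1, h2⟩ := (mem_pairPerp Φ.sform).1 ha
    set q := Φ.β a a / 2 with hq
    have hee' : Φ.β e' e = 1 := by rw [Φ.beta_symm e e', h]
    have hf : Φ.β (e + a - q • e') (e + a - q • e') = 0 := by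
      simp only [Φ.sform.add_left, Φ.sform.add_right, Φ.sform.sub_left, Φ.sform.sub_right,
        Φ.sform.smul_left, Φ.sform.smul_right, he, he', h, hee', h1, h2, Φ.sform.symm0 h1,
        Φ.sform.symm0 h2, hq]
      have := Φ.two
      field_simp
      ring
    have hκ : Φ.β (e + q • e') (e + a - q • e') = 0 := by
      simp only [Φ.sform.add_left, Φ.sform.add_right, Φ.sform.sub_right,
        Φ.sform.smul_left, Φ.sform.smul_right, he, he', h, hee', Φ.sform.symm0 h1,
        Φ.sform.symm0 h2]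
      ring
    have h3 := hP _ _ hf hκ
    have h4 := hP e a he h1
    have h5 := hP e' a he' h2
    have e1 : Φ.w1 (e + q • e') (e + a - q • e') =
        (-2 * q) • Φ.w1 e e' + ((-1 : F) • Φ.w1 a e + (-q) • Φ.w1 a e') := by
      rw [sub_eq_add_neg, ← neg_smul]
      simp only [w1_add_left, w1_add_right, w1_smul_left, w1_smul_right, w1_self, smul_zero,
        Φ.w1_swap a e, Φ.w1_swap e e', Φ.w1_swap a e']
      module
    rw [e1] at h3
    have h6 := P.sub_mem h3 (P.add_mem (P.smul_mem (-1 : F) h4) (P.smul_mem (-q) h5))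
    rw [add_sub_cancel_right] at h6
    have hne : -2 * q ≠ 0 := mul_ne_zero (neg_ne_zero.2 Φ.two) (div_ne_zero haa Φ.two)
    have h7 := P.smul_mem (-2 * q)⁻¹ h6
    rwa [inv_smul_smul₀ hne] at h7
  have hsing : ∀ e x, e ≠ 0 → Φ.β e e = 0 → Φ.w1 x e ∈ P := fun e x he0 he => by
    obtain ⟨e', he', h⟩ := exists_pair Φ.sform he0 he
    obtain ⟨a, b, l, hl, rfl⟩ := split_pair Φ.sform he he' h x
    rw [w1_add_left, w1_add_left, w1_smul_left, w1_smul_left, w1_self, smul_zero, zero_add,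
      Φ.w1_swap e e']
    exact P.add_mem (P.smul_mem _ (P.neg_mem (hpair e e' he he' h)))
      (hP e l he ((mem_pairPerp Φ.sform).1 hl).1)
  have hall : ∀ x y, Φ.w1 x y ∈ P := fun x y => by
    refine singular_span Φ.sform (by rw [finrank_vk]; exact hk)
      (Submodule.comap
        ({ toFun := fun z => Φ.w1 x z
           map_add' := Φ.w1_add_right x
           map_smul' := fun c z => Φ.w1_smul_right c x z } : Vk →ₗ[F] Mm) P)
      (fun z hz0 hz => hsing z x hz0 hz) y
  obtain ⟨a, c, e⟩ := Φ.skew_eq_sum (by omega) hZ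
  rw [e]
  exact P.sum_mem fun r _ => P.smul_mem _ (hall _ _)

/-- The adjoint, as a linear map. -/
noncomputable def adjL : MT →ₗ[F] MT where
  toFun := Φ.adj
  map_add' := Φ.adj_add
  map_smul' := Φ.adj_smul

theorem adjL_apply (X : MT) : Φ.adjL X = Φ.adj X := rfl

theorem trace_adj1 (X : Mm) : (Φ.adj1 X).trace = X.trace := by
  rw [adj1, Matrix.trace_mul_comm, ← mul_assoc, Matrix.mul_nonsing_inv _ Φ.det, one_mul,
    Matrix.trace_transpose]

/-- The projection commutes with the adjoint. -/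
theorem adj_lieOp (X : MT) : Φ.adj (lieOp k t F X) = lieOp k t F (Φ.adj X) := by
  refine LinearMap.congr_fun (ext_pure (f := Φ.adjL.comp (lieOp k t F))
    (g := (lieOp k t F).comp Φ.adjL) fun A => ?_) X
  simp only [LinearMap.comp_apply, adjL_apply, lieOp, LinearMap.sum_apply, adj_sum, adj_pureMat,
    Op_pureMat]
  refine Finset.sum_congr rfl fun i _ => congrArg pureMat (funext fun j => ?_)
  by_cases hj : j = i
  · subst hj; simp [pat]
  · simp [pat, hj, tl_apply, adj1_smul, adj1_one, trace_adj1]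

/-- The projection to the skew operators of the factors. -/
noncomputable def skewOp : MT →ₗ[F] MT := (lieOp k t F).comp (LinearMap.id - Φ.adjL)

theorem skewOp_apply (X : MT) : Φ.skewOp X = lieOp k t F (X - Φ.adj X) := rfl

theorem skewOp_sym {X : MT} (h : Φ.adj X = X) : Φ.skewOp X = 0 := by
  rw [skewOp_apply, h, sub_self, map_zero]

theorem skewOp_equivariant {h : GL (Fin t → Fin k) F} (hI : Φ.Iso h) (hw : IsWr h) (X : MT) :
    Φ.skewOp (Ad h X) = Ad h (Φ.skewOp X) := by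
  rw [skewOp_apply, skewOp_apply, hI.adj_Ad, ← map_sub, equivariant_lieOp h hw]

/-- The space of skew operators of the factors. -/
noncomputable def skewSum : Submodule F MT := LinearMap.range (Φ.skewOp (t := t))

theorem skewSum_mem {X : MT} (h : X ∈ Φ.skewSum (t := t)) :
    ∃ Y : Fin t → Mm, (∀ l, Φ.adj1 (Y l) = -Y l) ∧ X = ∑ l, fa l (Y l) := by
  obtain ⟨Z, rfl⟩ := h
  obtain ⟨Y, hY⟩ := span_le_sumFa (lieOp_mem (Z - Φ.adj Z))
  rw [sumFa_apply] at hY
  refine ⟨fun l => (2 : F)⁻¹ • (Y l - Φ.adj1 (Y l)), fun l => ?_, ?_⟩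
  · rw [adj1_smul, adj1_sub, adj1_adj1, ← smul_neg, neg_sub]
  · have ha : Φ.adj (Φ.skewOp Z) = -Φ.skewOp Z := by
      rw [skewOp_apply, adj_lieOp, adj_sub, adj_adj, ← map_neg, neg_sub]
    have hv : Φ.skewOp Z = ∑ l, fa l (Y l) := hY.symm
    simp only [map_smul, map_sub, ← adj_fa, Finset.sum_sub_distrib, ← Finset.smul_sum, ← adj_sum,
      ← hv, ha, sub_neg_eq_add]
    rw [← two_smul F (Φ.skewOp Z), inv_smul_smul₀ Φ.two]

theorem fa_mem_skewSum [Finite F] (hk : 1 ≤ k) (i : Fin t) {Z : Mm} (hZ : Φ.adj1 Z = -Z) :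
    (fa i Z : MT) ∈ Φ.skewSum (t := t) := by
  obtain ⟨a, last, D⟩ := Φ.exists_diag hk (one_ne_zero : (1 : F) ≠ 0)
  set B : Mm := (Φ.β (a last) (a last))⁻¹ • Φ.rk (a last) (a last) with hB
  have hBt : B.trace = 1 := by
    rw [hB, Matrix.trace_smul, rk, Matrix.trace_vecMulVec, smul_eq_mul]
    exact inv_mul_cancel₀ (D.ne last)
  have hBs : Φ.adj1 B = B := by rw [hB, adj1_smul, adj1_rk]
  have htr : Z.trace = 0 := by
    have h1 := Φ.trace_adj1 Z
    rw [hZ, Matrix.trace_neg] at h1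
    exact (mul_eq_zero.1 (show (2 : F) * Z.trace = 0 by linear_combination -h1)).resolve_left Φ.two
  set X : MT := pureMat (Function.update (fun _ => B) i Z) with hX
  have hXa : Φ.adj X = -X := by
    rw [hX, adj_pureMat]
    have e1 : (fun j => Φ.adj1 (Function.update (fun _ => B) i Z j)) =
        fun j => (if j = i then (-1 : F) else 1) • Function.update (fun _ => B) i Z j := by
      funext j
      by_cases hj : j = i
      · subst hj; simp [hZ]
      · simp [hj, hBs]
    rw [e1, pureMat_smul, Finset.prod_ite_eq' Finset.univ i (fun _ => (-1 : F)),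
      if_pos (Finset.mem_univ i), neg_one_smul]
  refine ⟨(2 : F)⁻¹ • X, ?_⟩
  rw [skewOp_apply, adj_smul, hXa, ← smul_sub, sub_neg_eq_add, ← two_smul F X,
    inv_smul_smul₀ Φ.two, hX, lieOp, LinearMap.sum_apply, Finset.sum_eq_single i, Op_pureMat, fa_eq]
  · congr 1
    funext j
    by_cases hj : j = i
    · subst hj; simp [pat]
    · simp [pat, hj, tl_apply, hBt]
  · intro j _ hj
    rw [Op_pureMat]
    ext z w
    rw [pureMat_apply, Finset.prod_eq_zero (Finset.mem_univ i)]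
    · rfl
    · simp [pat, Ne.symm hj, tl_apply, htr]
  · simp

end OForm

end CfsgLib.MaxSub.TensorPowOrth
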