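import Cfsg.Agent.Lib.MaxSub.TensorPowOrth.Isolate
import Cfsg.Agent.Lib.MaxSub.TensorPowOrth.OrbitSum
import Cfsg.Agent.Lib.MaxSub.TensorPowOrth.Proj

/-!
Averaging: a group in which the wreath group is isolated preserves the skew operators of the factors.
-/

set_option autoImplicit false
set_option maxHeartbeats 800000
set_option linter.unusedSectionVars false
set_option linter.style.haveILetI false

namespace CfsgLib.MaxSub.TensorPowOrth

open Matrix Module
open CfsgLib.Aschbacher CfsgLib.MaxSub.TensorPow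
open CfsgLib.MaxSub.TensorOO (exists_pair split_pair pairPerp mem_pairPerp exists_two_pairPerp
  exists_value exists_aniso_pairPerp pairPerp_nondeg)

variable {F : Type*} [Field F] {k t : ℕ}

local notation "Vk" => Fin k → F
local notation "Mm" => Matrix (Fin k) (Fin k) F
local notation "MT" => Matrix (Fin t → Fin k) (Fin t → Fin k) F

namespace OForm

variable {Φ : OForm F k} {c₀ : F} {G : Subgroup (GL (Fin t → Fin k) F)} (O : Φ.Ov c₀ G)
include O

omit O in
theorem W_smul_self (i : Fin t) (e : Vk) : Φ.W i e e = (0 : MT) := sub_self _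

/-- An anisotropic plane in the perpendicular of a pair. -/
theorem Ov.exists_plane [Finite F] (hk4 : 4 ≤ k) {e e' : Vk} (he0 : e ≠ 0) (he : Φ.β e e = 0)
    (he' : Φ.β e' e' = 0) (hee : Φ.β e e' = 1) :
    ∃ p ∈ pairPerp Φ.sform e e', ∃ q ∈ pairPerp Φ.sform e e', Φ.β p q = 0 ∧
      ∀ a b : F, Φ.β (a • p + b • q) (a • p + b • q) = 0 → a = 0 ∧ b = 0 := by
  have h4 : 4 ≤ finrank F Vk := by rw [finrank_vk]; exact hk4
  rcases Nat.eq_or_lt_of_le hk4 with hk | hk
  · obtain ⟨p, hp, hpp⟩ := exists_aniso_pairPerp Φ.sform (by omega) he he' hee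
    obtain ⟨q, hq, hqq, hqp⟩ := exists_two_pairPerp Φ.sform h4 he he' hee hp hpp
    obtain ⟨hp1, hp2⟩ := (mem_pairPerp Φ.sform).1 hp
    obtain ⟨hq1, hq2⟩ := (mem_pairPerp Φ.sform).1 hq
    refine ⟨p, hp, q, hq, Φ.sform.symm0 hqp, fun a b hab => ?_⟩
    set v := a • p + b • q with hv
    have hvK : v ∈ pairPerp Φ.sform e e' :=
      add_mem (Submodule.smul_mem _ a hp) (Submodule.smul_mem _ b hq)
    obtain ⟨hv1, hv2⟩ := (mem_pairPerp Φ.sform).1 hvK
    have hv0 : v = 0 := by
      by_contra hne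
      have hli : LinearIndependent F ![e, v] := by
        rw [Fintype.linearIndependent_iff]
        intro r hr
        have hr' : r 0 • e + r 1 • v = 0 := by rw [← hr, Fin.sum_univ_two]; rfl
        have c1 := congrArg (Φ.β e') hr'
        simp only [Φ.sform.add_right, Φ.sform.smul_right, Φ.sform.zero_right, Φ.sform.symm e e', hee,
          Φ.sform.symm0 hv2, mul_one, mul_zero, add_zero] at c1
        rw [c1, zero_smul, zero_add] at hr'
        have c2 := (smul_eq_zero.1 hr').resolve_right hne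
        intro n; fin_cases n <;> assumption
      have hTI : ∀ x ∈ Submodule.span F (Set.range ![e, v]), Φ.β x x = 0 := by
        intro x hx
        obtain ⟨r, rfl⟩ := (Submodule.mem_span_range_iff_exists_fun F).1 hx
        simp [Fin.sum_univ_two, Φ.sform.add_left, Φ.sform.add_right, Φ.sform.smul_left,
          Φ.sform.smul_right, he, hab, hv1, Φ.sform.symm0 hv1]
      have h1 := O.minus hk.symm _ hTI
      rw [finrank_span_eq_card hli, Fintype.card_fin] at h1
      omega
    have c1 := congrArg (Φ.β p) hv0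
    have c2 := congrArg (Φ.β q) hv0
    simp only [hv, Φ.sform.add_right, Φ.sform.smul_right, Φ.sform.zero_right, hqp,
      Φ.sform.symm0 hqp, mul_zero, add_zero, zero_add, mul_eq_zero, or_iff_left hpp,
      or_iff_left hqq] at c1 c2
    exact ⟨c1, c2⟩
  · haveI : Fintype F := Fintype.ofFinite F
    obtain ⟨ns, hns⟩ := FiniteField.exists_nonsquare (F := F) (fun h => Φ.two (by
      haveI := ringChar.of_eq h; exact CharTwo.two_eq_zero))
    have hns0 : ns ≠ 0 := fun h => hns (h ▸ IsSquare.zero)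
    obtain ⟨p, hp, hp1⟩ := exists_value Φ.sform h4 he he' hee (one_ne_zero : (1 : F) ≠ 0)
    change Φ.β p p = 1 at hp1
    obtain ⟨hpe, hpe'⟩ := (mem_pairPerp Φ.sform).1 hp
    obtain ⟨P, hP, hdim⟩ := Φ.sform.finrank_perp_le ![e, e', p]
    rw [finrank_vk] at hdim
    have hmem : ∀ x ∈ P, Φ.β x e = 0 ∧ Φ.β x e' = 0 ∧ Φ.β x p = 0 := fun x hx =>
      ⟨(hP x).1 hx 0, (hP x).1 hx 1, (hP x).1 hx 2⟩
    have hnd : ∀ x ∈ P, (∀ y ∈ P, Φ.β x y = 0) → x = 0 := fun x hx h => Φ.sform.nondeg x fun y => by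
      obtain ⟨a, b, l, hl, rfl⟩ := split_pair Φ.sform he he' hee y
      obtain ⟨hl1, hl2⟩ := (mem_pairPerp Φ.sform).1 hl
      obtain ⟨hx1, hx2, hx3⟩ := hmem x hx
      have hl' : l - Φ.β l p • p ∈ P := (hP _).2 fun j => by
        fin_cases j <;>
          simp [Φ.sform.sub_left, Φ.sform.smul_left, hl1, hl2, hpe, hpe', hp1]
      have h1 := h _ hl'
      rw [Φ.sform.sub_right, Φ.sform.smul_right, hx3, mul_zero, sub_zero] at h1
      rw [Φ.sform.add_right, Φ.sform.add_right, Φ.sform.smul_right, Φ.sform.smul_right, hx1, hx2, h1]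
      simp
    have HR := Φ.sform.restrict hnd
    obtain ⟨q, hq⟩ := CfsgLib.MaxSub.Orth.exists_value HR.quad
      (CfsgLib.MaxSub.TensorOO.quad_polar_nondeg HR) (by omega) (neg_ne_zero.2 hns0)
    rw [HR.quad_apply] at hq
    change Φ.β (q : Vk) q = -ns at hq
    obtain ⟨hq1, hq2, hq3⟩ := hmem q.1 q.2
    refine ⟨p, hp, q.1, (mem_pairPerp Φ.sform).2 ⟨hq1, hq2⟩, Φ.sform.symm0 hq3, fun a b hab => ?_⟩
    simp only [Φ.sform.add_left, Φ.sform.add_right, Φ.sform.smul_left, Φ.sform.smul_right, hq3,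
      Φ.sform.symm0 hq3, hp1, hq, mul_zero, add_zero, zero_add, mul_one] at hab
    by_cases hb : b = 0
    · subst hb
      simp only [mul_zero, zero_mul, add_zero] at hab
      exact ⟨mul_self_eq_zero.1 hab, rfl⟩
    · refine absurd ⟨a / b, ?_⟩ hns
      field_simp
      linear_combination -hab

variable [Fintype F]

/-- The standard wreath group. -/
abbrev Hw (k t : ℕ) (F : Type*) [Field F] : Subgroup (GL (Fin t → Fin k) F) :=
  Cfsg.Geo.tensorWreathStandard k t F

/-- The difference of the sum of the conjugates and the operator. -/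
noncomputable def dAvg (Φ : OForm F k) (G : Subgroup (GL (Fin t → Fin k) F)) : MT →ₗ[F] MT :=
  avg AdRep AdRep G (Hw k t F) Φ.skewOp - Φ.skewOp

theorem Ov.commH : CommH AdRep AdRep G (Hw k t F) Φ.skewOp := fun h hG hH X => by
  rw [AdRep_apply, AdRep_apply, skewOp_equivariant Φ (O.iso h hG) (mem_std_iff.1 hH)]

theorem Ov.dAvg_equivariant {h : GL (Fin t → Fin k) F} (hG : h ∈ G) (hw : IsWr h) (X : MT) :
    dAvg Φ G (Ad h X) = Ad h (dAvg Φ G X) := by
  rw [dAvg, LinearMap.sub_apply, LinearMap.sub_apply, map_sub, skewOp_equivariant Φ (O.iso h hG) hw]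
  congr 1
  exact avg_equivariant O.commH hG X

theorem Ov.dAvg_sym {X : MT} (hX : Φ.adj X = X) : dAvg Φ G X = 0 := by
  classical
  letI := Fintype.ofFinite (↥G ⧸ (Hw k t F).subgroupOf G)
  rw [dAvg, LinearMap.sub_apply, skewOp_sym Φ hX, sub_zero, avg_apply]
  refine Finset.sum_eq_zero fun q _ => ?_
  rw [AdRep_apply ((q.out : GL (Fin t → Fin k) F))⁻¹, skewOp_sym Φ, map_zero]
  rw [(O.iso _ (inv_mem q.out.2)).adj_Ad, hX]

/-- What isolates the wreath group. -/
def Iso1 (Φ : OForm F k) (G : Subgroup (GL (Fin t → Fin k) F)) : Prop :=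
  ∀ g ∈ G, ∀ (i : Fin t) (e θ : Vk), e ≠ 0 → Φ.β e e = 0 → Φ.β θ e = 0 → Φ.β θ θ ≠ 0 →
    ∀ u : F → GL (Fin t → Fin k) F, (∀ c, (u c : MT) = Φ.E i e (c • θ)) →
      IsWr (g⁻¹ * u 1 * g) → (k = 3 → ∀ c, IsWr (g⁻¹ * u c * g)) → IsWr g

/-- The difference on a skew operator of a slice is central. -/
theorem Ov.dAvg_shape (hiso : Iso1 Φ G) {i : Fin t} {e κ : Vk} (he0 : e ≠ 0) (he : Φ.β e e = 0)
    (hκ : Φ.β κ e = 0) {R : MT} (hR : Cm i R) :
    ∃ Z : MT, Cm i Z ∧ dAvg Φ G (Φ.W i κ e * R) = Φ.P i e e * Z := by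
  classical
  obtain ⟨e', he', hee⟩ := exists_pair Φ.sform he0 he
  have hfix : ∀ θ, Φ.β θ e = 0 → ∀ u : GL (Fin t → Fin k) F, (u : MT) = Φ.E i e θ →
      AdRep u (Φ.W i κ e * R) = Φ.W i κ e * R := fun θ hθ u hu => by
    have hc : (u : MT) * Φ.W i κ e = Φ.W i κ e * (u : MT) := by
      rw [hu, E_eq, mul_add, add_mul, mul_one, one_mul, mul_sub, sub_mul, Matrix.mul_smul,
        Matrix.smul_mul, W_mul_W Φ he hθ hκ, W_mul_W Φ he hκ hθ, P_mul_W Φ he hκ, W_mul_P Φ he hκ,
        Φ.sform.symm θ κ]
    have hR' : (u : MT) * R = R * (u : MT) := by rw [hu, E]; exact (hR _).eq.symm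
    rw [AdRep_apply, Ad_apply, ← mul_assoc, hc, mul_assoc (Φ.W i κ e), hR', ← mul_assoc, mul_assoc,
      Units.mul_inv, mul_one]
  have hmem : ∀ θ (hθ : Φ.β θ e = 0), Φ.Eu i e θ he hθ ∈ G ∧ Φ.Eu i e θ he hθ ∈ Hw k t F := by
    intro θ hθ
    haveI : NeZero k := ⟨by have := O.hk; omega⟩
    obtain ⟨u, hu, huv⟩ := O.eu i e θ he hθ
    exact ⟨by rwa [show Φ.Eu i e θ he hθ = u from Units.ext (by rw [Eu_val, huv])],
      mem_std_iff.2 (isWr_of_fa (M := Φ.E1 e θ) rfl)⟩
  have hAd : ∀ θ (hθ : Φ.β θ e = 0) (Y : MT),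
      AdRep (Φ.Eu i e θ he hθ) Y = Φ.E i e θ * Y * Φ.E i e (-θ) := fun θ hθ Y => by
    rw [AdRep_apply, Ad_apply]; rfl
  by_cases hk4 : 4 ≤ k
  · obtain ⟨p, hp, q, hq, hpq, hplane⟩ := O.exists_plane hk4 he0 he he' hee
    obtain ⟨hp1, -⟩ := (mem_pairPerp Φ.sform).1 hp
    obtain ⟨hq1, -⟩ := (mem_pairPerp Φ.sform).1 hq
    have hθ : ∀ s : F × F, Φ.β (s.1 • p + s.2 • q) e = 0 := fun s => by
      rw [Φ.sform.add_left, Φ.sform.smul_left, Φ.sform.smul_left, hp1, hq1, mul_zero, mul_zero,
        add_zero]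
    obtain ⟨Y, hY⟩ := avg_sub_mem O.commH (fun s : F × F => Φ.Eu i e _ he (hθ s))
      (Units.ext (by simp [Eu_val, E_zero]))
      (fun s s' => Units.ext (by
        rw [Units.val_mul, Eu_val, Eu_val, Eu_val, Φ.E_mul i he (hθ s) (hθ s')]
        congr 1
        simp only [Prod.fst_add, Prod.snd_add]
        module))
      (fun s => (hmem _ (hθ s)).1) (fun s => (hmem _ (hθ s)).2)
      (fun s hs g hg h => mem_std_iff.2 (hiso g hg i e (s.1 • p + s.2 • q) he0 he (hθ s)
        (fun h0 => hs (Prod.ext (hplane _ _ h0).1 (hplane _ _ h0).2))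
        (fun c => Φ.Eu i e (c • (s.1 • p + s.2 • q)) he (by rw [Φ.sform.smul_left, hθ s, mul_zero]))
        (fun c => rfl)
        (by
          have := mem_std_iff.1 h
          convert this using 3
          exact Units.ext (by simp [Eu_val]))
        (fun h3 => by omega)))
      (X := Φ.W i κ e * R) (fun s => hfix _ (hθ s) _ rfl)
    obtain ⟨r, hr⟩ := Φ.sum_plane (i := i) he hp1 hq1 hpq Y
    refine ⟨r • Φ.comp i e e Y, (Φ.cm_comp _ _ _ _).smul _, ?_⟩
    rw [dAvg, LinearMap.sub_apply, hY, Fintype.sum_prod_type]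
    simp only [hAd]
    rw [hr, PXP, Matrix.mul_smul]
  · have hk3 : k = 3 := by have := O.hk; omega
    obtain ⟨a, ha, haa⟩ := exists_aniso_pairPerp Φ.sform (by rw [finrank_vk]; exact O.hk) he he' hee
    obtain ⟨ha1, -⟩ := (mem_pairPerp Φ.sform).1 ha
    have hθ : ∀ c : F, Φ.β (c • a) e = 0 := fun c => by rw [Φ.sform.smul_left, ha1, mul_zero]
    obtain ⟨p, hpc⟩ := CharP.exists F
    haveI := hpc
    obtain ⟨n, hp, hn⟩ := FiniteField.card F p
    haveI : Fact p.Prime := ⟨hp⟩
    obtain ⟨Y, hY⟩ := avg_sub_mem_fix (p := p) hn O.commH (fun c : F => Φ.Eu i e _ he (hθ c))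
      (Units.ext (by simp [Eu_val, E_zero]))
      (fun c c' => Units.ext (by
        rw [Units.val_mul, Eu_val, Eu_val, Eu_val, Φ.E_mul i he (hθ c) (hθ c'), add_smul]))
      (fun c => (hmem _ (hθ c)).1) (fun c => (hmem _ (hθ c)).2)
      (fun g hg h => mem_std_iff.2 (hiso g hg i e a he0 he ha1 haa
        (fun c => Φ.Eu i e (c • a) he (hθ c)) (fun c => rfl) (mem_std_iff.1 (h 1))
        (fun _ c => mem_std_iff.1 (h c))))
      (fun c hc Z hZ l => by
        rw [hAd] at hZ ⊢
        have hng : ∀ c : F, Φ.β (-(c • a)) e = 0 := fun c => by rw [Φ.sform.neg_left, hθ, neg_zero]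
        have h1 : Commute (Φ.E i e (c • a)) Z := by
          show _ * _ = _ * _
          have := congrArg (fun X => X * Φ.E i e (c • a)) hZ
          simp only [mul_assoc] at this
          rw [Φ.E_mul i he (hng c) (hθ c), neg_add_cancel, E_zero, mul_one] at this
          exact this
        have h2 : Commute (Φ.E i e (-(c • a))) Z := by
          show _ * _ = _ * _
          have := congrArg (fun X => Φ.E i e (-(c • a)) * X) hZ
          simp only [← mul_assoc] at this
          rw [Φ.E_mul i he (hng c) (hθ c), neg_add_cancel, E_zero, one_mul] at this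
          exact this.symm
        have e1 : Φ.W i a e = (2 * c)⁻¹ • (Φ.E i e (c • a) - Φ.E i e (-(c • a))) := by
          simp only [E_eq, ← neg_smul, W_smul_left, Φ.sform.smul_left, Φ.sform.smul_right]
          have := Φ.two
          match_scalars <;> field_simp <;> ring
        have e2 : Φ.P i e e = (-(c * c * Φ.β a a))⁻¹ •
            (Φ.E i e (c • a) + Φ.E i e (-(c • a)) - (2 : F) • 1) := by
          simp only [E_eq, ← neg_smul, W_smul_left, Φ.sform.smul_left, Φ.sform.smul_right]
          have := Φ.two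
          match_scalars <;> field_simp <;> ring
        have hW : Commute (Φ.W i a e) Z := by
          rw [e1]; exact (h1.sub_left h2).smul_left _
        have hP : Commute (Φ.P i e e) Z := by
          rw [e2]
          exact ((h1.add_left h2).sub_left
            ((Commute.one_left Z).smul_left _)).smul_left _
        have hl : Commute (Φ.E i e (l • a)) Z := by
          rw [E_eq, W_smul_left]
          exact (Commute.one_left Z).add_left ((hW.smul_left _).sub_left (hP.smul_left _))
        rw [hl.eq, mul_assoc, Φ.E_mul_neg i he (hθ l), mul_one])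
      (X := Φ.W i κ e * R) (fun c => hfix _ (hθ c) _ rfl)
    refine ⟨((∑ c : F, c ^ 4) * (Φ.β a a / 2) ^ 2) • Φ.comp i e e Y, (Φ.cm_comp _ _ _ _).smul _, ?_⟩
    rw [dAvg, LinearMap.sub_apply, hY]
    simp only [hAd]
    rw [Φ.sum_line he ha1, FiniteField.sum_pow_lt_card_sub_one F 2 (by
      have h3 : Fintype.card F ≠ 3 := by
        have := O.hq hk3
        rwa [Nat.card_eq_fintype_card] at this
      have h2 : Fintype.card F ≠ 2 := fun h => Φ.two (by
        have : ((2 : ℕ) : F) = 0 := by rw [← h, FiniteField.cast_card_eq_zero]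
        exact_mod_cast this)
      have := Fintype.one_lt_card (α := F)
      omega), zero_smul, zero_add, PXP, Matrix.mul_smul]

/-- The difference kills the skew operators of a slice normalised by an element moving it. -/
theorem Ov.dAvg_move (hiso : Iso1 Φ G) {i : Fin t} {e κ : Vk} (he0 : e ≠ 0) (he : Φ.β e e = 0)
    (hκ : Φ.β κ e = 0) {R : MT} (hR : Cm i R) {N : Mm} (hN : Φ.FacIn G i N) {σ r : F} (hσ0 : σ ≠ 0)
    (hσ1 : σ ≠ 1) (hNe : N *ᵥ e = σ • e) (hNκ : N *ᵥ κ = κ + r • e) :
    dAvg Φ G (Φ.W i κ e * R) = 0 := by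
  haveI : NeZero k := ⟨by have := O.hk; omega⟩
  obtain ⟨Z, hZ, hd⟩ := O.dAvg_shape hiso he0 he hκ hR
  obtain ⟨hN1, v, hv, hvv⟩ := hN
  have hAd : ∀ (A : Mm) {X : MT}, Cm i X → Ad v (fa i A * X) = fa i (N * A * Φ.adj1 N) * X :=
    fun A X hX => by
      rw [Ad_apply, hvv, FacIn.inv_val hN1 hvv, map_mul, map_mul]
      simp only [mul_assoc]
      rw [(hX _).eq]
  have h1 : Ad v (Φ.W i κ e * R) = σ • (Φ.W i κ e * R) := by
    rw [W_eq_fa, hAd _ hR, conj_w1 Φ N (Φ.adj1 N) κ e (adj1_adj1 Φ N), hNe, hNκ, w1_smul_right,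
      w1_add_left, w1_smul_left, w1_self, smul_zero, add_zero, map_smul, Matrix.smul_mul]
  have h2 : Ad v (Φ.P i e e * Z) = (σ * σ) • (Φ.P i e e * Z) := by
    rw [P, hAd _ hZ, mul_rk, rk_mul, adj1_adj1, hNe]
    simp [rk, smul_vecMulVec, Matrix.mulVec_smul, vecMulVec_smul, smul_smul, Matrix.smul_mul]
  have h3 := O.dAvg_equivariant hv (isWr_of_fa hvv) (Φ.W i κ e * R)
  rw [h1, map_smul, hd, h2] at h3
  have h4 : (σ * (σ - 1)) • (Φ.P i e e * Z) = 0 := by
    rw [mul_sub, mul_one, sub_smul, ← h3, sub_self]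
  rw [hd]
  exact (smul_eq_zero.1 h4).resolve_left (mul_ne_zero hσ0 (sub_ne_zero.2 hσ1))

/-- The difference kills the skew operators of a slice. -/
theorem Ov.dAvg_W (hiso : Iso1 Φ G) {i : Fin t} {R : MT} (hR : Cm i R) (e κ : Vk)
    (he : Φ.β e e = 0) (hκ : Φ.β κ e = 0) : dAvg Φ G (Φ.W i κ e * R) = 0 := by
  rcases eq_or_ne e 0 with rfl | he0
  · simp [W, P_zero_left, P_zero_right]
  obtain ⟨e', he', hee⟩ := exists_pair Φ.sform he0 he
  obtain ⟨a, b, l, hl, rfl⟩ := split_pair Φ.sform he he' hee κ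
  have hb : b = 0 := by
    have h1 := ((mem_pairPerp Φ.sform).1 hl).1
    simpa [Φ.sform.add_left, Φ.sform.smul_left, he, h1, Φ.sform.symm e e', hee] using hκ
  subst hb
  rw [zero_smul, add_zero, W_add_left, W_smul_left, W_smul_self, smul_zero, zero_add]
  let P : Submodule F Vk :=
    { carrier := {x | dAvg Φ G (Φ.W i x e * R) = 0}
      add_mem' := fun {x y} hx hy => by
        show dAvg Φ G _ = 0
        rw [W_add_left, add_mul, map_add, hx, hy, add_zero]
      zero_mem' := by simp [W, P_zero_left, P_zero_right]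
      smul_mem' := fun c x hx => by
        show dAvg Φ G _ = 0
        rw [W_smul_left, Matrix.smul_mul, map_smul, hx, smul_zero] }
  have h11 : (-1 : F) ≠ 1 := fun e1 => Φ.two (by linear_combination -e1)
  have hee' : Φ.β e' e = 1 := by rw [Φ.beta_symm e e', hee]
  suffices h : l ∈ P from h
  by_cases hk4 : 4 ≤ k
  · refine O.span_cls hk4 he he' hee P (fun c hc hcl => ?_) hl
    obtain ⟨hc1, hc2⟩ := (mem_pairPerp Φ.sform).1 hc
    rcases Nat.even_or_odd k with hev | hodd
    · have hu : Φ.β (e + e') (e + e') = 2 := by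
        simp only [Φ.sform.add_left, Φ.sform.add_right, he, he', hee, hee']; ring
      have hv : Φ.β (e - e') (e - e') = -2 := by
        simp only [Φ.sform.sub_left, Φ.sform.sub_right, he, he', hee, hee']; ring
      refine O.dAvg_move hiso he0 he hc1 hR
        (O.facIn_pair hev (a := e + e') (b := e - e') (by rw [hu]; exact Φ.two)
          (by rw [hv]; exact neg_ne_zero.2 Φ.two)) (σ := -1) (r := 0)
        (neg_ne_zero.2 one_ne_zero) h11 ?_ ?_
      · rw [← Matrix.mulVec_mulVec, T1_mulVec, T1_mulVec, hv, hu]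
        simp only [Φ.sform.sub_left, Φ.sform.sub_right, Φ.sform.add_left, Φ.sform.smul_right, he,
          he', hee, hee']
        have := Φ.two
        match_scalars <;> field_simp <;> ring
      · have hTv : Φ.T1 (e - e') *ᵥ c = -c :=
          Φ.T1_perp (by rw [Φ.sform.sub_right, hc1, hc2, sub_zero])
        have hTu : Φ.T1 (e + e') *ᵥ c = -c :=
          Φ.T1_perp (by rw [Φ.sform.add_right, hc1, hc2, add_zero])
        rw [← Matrix.mulVec_mulVec, hTv, Matrix.mulVec_neg, hTu]
        simp
    · refine O.dAvg_move hiso he0 he hc1 hR (O.facIn_T (Or.inl hodd) hcl) (σ := -1) (r := 0)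
        (neg_ne_zero.2 one_ne_zero) h11 ?_ ?_
      · rw [Φ.T1_perp (Φ.sform.symm0 hc1), neg_one_smul]
      · rw [Φ.T1_self hcl.1]; simp
  · have hk3 : k = 3 := by have := O.hk; omega
    obtain ⟨σ, hσ0, hσ⟩ := exists_scalar (O.hq hk3) Φ.two
    obtain ⟨hl1, hl2⟩ := (mem_pairPerp Φ.sform).1 hl
    rcases eq_or_ne l 0 with rfl | hl0
    · exact P.zero_mem
    have hll : Φ.β l l ≠ 0 := fun h0 => by
      obtain ⟨a, ha, haa⟩ :=
        exists_aniso_pairPerp Φ.sform (by rw [finrank_vk]; exact O.hk) he he' hee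
      obtain ⟨ha1, ha2⟩ := (mem_pairPerp Φ.sform).1 ha
      have hli : LinearIndependent F ![e, e', a, l] := by
        rw [Fintype.linearIndependent_iff]
        intro q hq
        have hq' : q 0 • e + q 1 • e' + q 2 • a + q 3 • l = 0 := by
          rw [← hq, Fin.sum_univ_four]; rfl
        have c1 := congrArg (Φ.β e) hq'
        have c2 := congrArg (Φ.β e') hq'
        simp only [Φ.sform.add_right, Φ.sform.smul_right, Φ.sform.zero_right, he, he', hee, hee',
          Φ.sform.symm0 ha1, Φ.sform.symm0 ha2, Φ.sform.symm0 hl1, Φ.sform.symm0 hl2,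
          mul_zero, zero_add, add_zero, mul_one] at c1 c2
        rw [c2, c1, zero_smul, zero_smul, zero_add, zero_add] at hq'
        have c3 : q 2 = 0 := by
          by_contra hne
          have h5 : q 2 • a = -(q 3 • l) := eq_neg_of_add_eq_zero_left hq'
          have h6 := congrArg (fun x => Φ.β x x) h5
          simp only [Φ.sform.smul_left, Φ.sform.smul_right, Φ.sform.neg_left, Φ.sform.neg_right, h0,
            mul_zero, neg_zero] at h6
          exact mul_ne_zero hne (mul_ne_zero hne haa) h6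
        rw [c3, zero_smul, zero_add] at hq'
        have c4 := (smul_eq_zero.1 hq').resolve_right hl0
        intro n; fin_cases n <;> assumption
      have := hli.fintype_card_le_finrank
      rw [finrank_vk, Fintype.card_fin] at this
      omega
    obtain ⟨N, hN, hNe, r, hNl⟩ := O.torus (i := i) he he' hee hl hll hσ0
    exact O.dAvg_move hiso he0 he hl1 hR hN (pow_ne_zero 2 hσ0) hσ hNe hNl

/-- The sum of the conjugates is the projection. -/
theorem Ov.dAvg_zero (hiso : Iso1 Φ G) : dAvg Φ G = 0 := by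
  classical
  suffices h : ∀ (n : ℕ) (A : Fin t → Mm),
      (Finset.univ.filter fun l => Φ.adj1 (A l) ≠ A l).card ≤ n → dAvg Φ G (pureMat A) = 0 from
    ext_pure fun A => by rw [h _ A le_rfl, LinearMap.zero_apply]
  intro n
  induction n with
  | zero =>
    intro A hA
    refine O.dAvg_sym ?_
    rw [adj_pureMat]
    congr 1
    funext l
    by_contra hl
    have hne : (Finset.univ.filter fun l => Φ.adj1 (A l) ≠ A l).Nonempty := ⟨l, by simpa using hl⟩
    exact absurd (Finset.card_pos.2 hne) (by omega)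
  | succ n ih =>
    intro A hA
    by_cases hex : ∃ i, Φ.adj1 (A i) ≠ A i
    · obtain ⟨i, hi⟩ := hex
      set R : MT := pureMat (Function.update A i 1) with hRdef
      have hR : Cm i R := fun X => by
        show _ * _ = _ * _
        rw [hRdef, fa_eq, pureMat_mul, pureMat_mul]
        congr 1
        funext l
        by_cases hl : l = i
        · subst hl; simp
        · simp [hl]
      have hsplit : ∀ X : Mm, pureMat (Function.update A i X) = (fa i X * R : MT) := fun X => by
        rw [hRdef, fa_eq, pureMat_mul]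
        congr 1
        funext l
        by_cases hl : l = i
        · subst hl; simp
        · simp [hl]
      let P : Submodule F Mm :=
        { carrier := {Z | dAvg Φ G (fa i Z * R) = 0}
          add_mem' := fun {x y} hx hy => by
            show dAvg Φ G _ = 0
            rw [map_add, add_mul, map_add, hx, hy, add_zero]
          zero_mem' := by
            show dAvg Φ G _ = 0
            rw [map_zero, zero_mul, map_zero]
          smul_mem' := fun c x hx => by
            show dAvg Φ G _ = 0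
            rw [map_smul, Matrix.smul_mul, map_smul, hx, smul_zero] }
      set S : Mm := (2 : F)⁻¹ • (A i + Φ.adj1 (A i)) with hS
      set Z : Mm := (2 : F)⁻¹ • (A i - Φ.adj1 (A i)) with hZdef
      have hZ : Z ∈ P := by
        refine Φ.skew_span O.hk P (fun e κ he hκ => ?_) ?_
        · show dAvg Φ G _ = 0
          rw [← W_eq_fa]
          exact O.dAvg_W hiso hR e κ he hκ
        · rw [hZdef, adj1_smul, adj1_sub, adj1_adj1, ← smul_neg, neg_sub]
      have hAi : A i = S + Z := by
        rw [hS, hZdef, ← smul_add, add_add_sub_cancel, ← two_smul F (A i), inv_smul_smul₀ Φ.two]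
      have hrec : dAvg Φ G (pureMat (Function.update A i S)) = 0 := by
        refine ih _ ?_
        have hsub : (Finset.univ.filter fun l =>
            Φ.adj1 (Function.update A i S l) ≠ Function.update A i S l) ⊆
            (Finset.univ.filter fun l => Φ.adj1 (A l) ≠ A l).erase i := by
          intro l hl
          simp only [Finset.mem_filter, Finset.mem_univ, true_and] at hl
          by_cases hli : l = i
          · subst hli
            refine absurd ?_ hl
            rw [Function.update_self, hS, adj1_smul, adj1_add, adj1_adj1, add_comm]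
          · simp [hli, Function.update_of_ne hli] at hl ⊢
            exact hl
        have hcard := Finset.card_le_card hsub
        rw [Finset.card_erase_of_mem (by simp [hi])] at hcard
        omega
      rw [hsplit] at hrec
      rw [← Function.update_eq_self i A, hsplit, hAi, map_add, add_mul, map_add, hrec, zero_add]
      exact hZ
    · push Not at hex
      refine ih A ?_
      rw [Finset.filter_eq_empty_iff.2 fun l _ => by simpa using hex l, Finset.card_empty]
      exact Nat.zero_le _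

/-- The group preserves the skew operators of the factors. -/
theorem Ov.preserves (hiso : Iso1 Φ G) {g : GL (Fin t → Fin k) F} (hg : g ∈ G) {X : MT}
    (hX : X ∈ Φ.skewSum (t := t)) : Ad g X ∈ Φ.skewSum (t := t) := by
  obtain ⟨Y, rfl⟩ := hX
  refine ⟨Ad g Y, ?_⟩
  have h := avg_equivariant O.commH hg Y
  rw [sub_eq_zero.1 (O.dAvg_zero hiso)] at h
  exact h

end OForm

end CfsgLib.MaxSub.TensorPowOrth
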