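import Cfsg.Agent.Lib.MaxSub.TensorPow.Basic
import Cfsg.Agent.Lib.MaxSub.TensorOO.Forms

/-!
Symmetric forms on the factors of a tensor power: rank one operators of a factor and the compressions
of an operator with respect to a factor.
-/

set_option autoImplicit false
set_option maxHeartbeats 400000
set_option linter.unusedSectionVars false

namespace CfsgLib.MaxSub.TensorPowOrth

open Matrix
open CfsgLib.Aschbacher CfsgLib.MaxSub.TensorPow
open CfsgLib.MaxSub.TensorSympOrth (SForm)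

/-- A non-degenerate symmetric form on a factor, in odd characteristic. -/
structure OForm (F : Type*) [Field F] (k : ℕ) where
  /-- the Gram matrix -/
  S : Matrix (Fin k) (Fin k) F
  symm : Sᵀ = S
  det : IsUnit S.det
  two : (2 : F) ≠ 0

variable {F : Type*} [Field F] {k t : ℕ}

local notation "Vk" => Fin k → F
local notation "Mm" => Matrix (Fin k) (Fin k) F
local notation "MT" => Matrix (Fin t → Fin k) (Fin t → Fin k) F

theorem pureMat_transpose (A : Fin t → Mm) : (pureMat A)ᵀ = pureMat fun i => (A i)ᵀ := by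
  ext x y
  simp [pureMat_apply]

theorem pureMat_const_one : pureMat (fun _ : Fin t => (1 : Mm)) = (1 : MT) := pureMat_one

theorem permMat_transpose (σ : Equiv.Perm (Fin t)) : (permMat k F σ : MT)ᵀ = permMat k F σ⁻¹ := by
  ext x y
  show (if x = y ∘ σ then (1 : F) else 0) = if y = x ∘ ⇑σ⁻¹ then (1 : F) else 0
  refine if_congr ⟨fun h => ?_, fun h => ?_⟩ rfl rfl <;>
  · subst h
    funext i
    simp

namespace OForm

variable (Φ : OForm F k)

/-- The form. -/
def β (x y : Vk) : F := x ⬝ᵥ (Φ.S *ᵥ y)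

theorem sform : SForm Φ.β where
  add_left x y z := add_dotProduct x y _
  smul_left a x z := smul_dotProduct a x _
  symm x y := by
    show y ⬝ᵥ (Φ.S *ᵥ x) = x ⬝ᵥ (Φ.S *ᵥ y)
    rw [dotProduct_mulVec, ← mulVec_transpose, Φ.symm, dotProduct_comm]
  nondeg x hx := by
    have h : Φ.S *ᵥ x = 0 := by
      refine dotProduct_eq_zero _ fun w => ?_
      rw [dotProduct_comm]
      show w ⬝ᵥ (Φ.S *ᵥ x) = 0
      rw [dotProduct_mulVec, ← mulVec_transpose, Φ.symm, dotProduct_comm]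
      exact hx w
    have := congrArg (Φ.S⁻¹ *ᵥ ·) h
    simpa [Matrix.mulVec_mulVec, Matrix.nonsing_inv_mul _ Φ.det] using this
  two := Φ.two

theorem beta_symm (x y : Vk) : Φ.β y x = Φ.β x y := Φ.sform.symm x y

/-- The rank one operator `z ↦ β y z • x`. -/
def rk (x y : Vk) : Mm := vecMulVec x (Φ.S *ᵥ y)

theorem rk_mulVec (x y z : Vk) : Φ.rk x y *ᵥ z = Φ.β y z • x := by
  rw [rk, Matrix.vecMulVec_mulVec, op_smul_eq_smul]
  congr 1
  rw [β, dotProduct_mulVec y, ← mulVec_transpose, Φ.symm]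

/-- The adjoint in a factor. -/
noncomputable def adj1 (X : Mm) : Mm := Φ.S⁻¹ * Xᵀ * Φ.S

theorem adj1_mul (X Y : Mm) : Φ.adj1 (X * Y) = Φ.adj1 Y * Φ.adj1 X := by
  simp only [adj1, Matrix.transpose_mul, mul_assoc, Matrix.mul_nonsing_inv_cancel_left _ _ Φ.det]

theorem adj1_one : Φ.adj1 1 = 1 := by
  simp [adj1, Matrix.nonsing_inv_mul _ Φ.det]

theorem inv_symm : (Φ.S⁻¹)ᵀ = Φ.S⁻¹ := by rw [Matrix.transpose_nonsing_inv, Φ.symm]

theorem adj1_adj1 (X : Mm) : Φ.adj1 (Φ.adj1 X) = X := by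
  simp only [adj1, Matrix.transpose_mul, Matrix.transpose_transpose, inv_symm, Φ.symm, mul_assoc,
    Matrix.nonsing_inv_mul _ Φ.det, mul_one, Matrix.nonsing_inv_mul_cancel_left _ _ Φ.det]

theorem adj1_rk (x y : Vk) : Φ.adj1 (Φ.rk x y) = Φ.rk y x := by
  rw [adj1, rk, rk, Matrix.transpose_vecMulVec, Matrix.mul_vecMulVec, Matrix.vecMulVec_mul,
    Matrix.mulVec_mulVec, Matrix.nonsing_inv_mul _ Φ.det, Matrix.one_mulVec, ← mulVec_transpose, Φ.symm]

theorem rk_mul_rk (x y z w : Vk) : Φ.rk x y * Φ.rk z w = Φ.β y z • Φ.rk x w := by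
  rw [show Φ.rk z w = vecMulVec z (Φ.S *ᵥ w) from rfl, Matrix.mul_vecMulVec, rk_mulVec,
    smul_vecMulVec]
  rfl

theorem mul_rk (X : Mm) (x y : Vk) : X * Φ.rk x y = Φ.rk (X *ᵥ x) y := Matrix.mul_vecMulVec _ _ _

theorem rk_mul (X : Mm) (x y : Vk) : Φ.rk x y * X = Φ.rk x (Φ.adj1 X *ᵥ y) := by
  conv_lhs => rw [← Φ.adj1_adj1 X, ← Φ.adj1_rk y x, ← Φ.adj1_mul, mul_rk, adj1_rk]

/-- The Gram matrix of the tensor power. -/
noncomputable def ST (t : ℕ) : Matrix (Fin t → Fin k) (Fin t → Fin k) F := pureMat fun _ => Φ.S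

/-- Its inverse. -/
noncomputable def STi (t : ℕ) : Matrix (Fin t → Fin k) (Fin t → Fin k) F := pureMat fun _ => Φ.S⁻¹

theorem STi_mul : Φ.STi t * Φ.ST t = 1 := by
  rw [STi, ST, pureMat_mul]
  exact (congrArg pureMat (funext fun _ => Matrix.nonsing_inv_mul _ Φ.det)).trans pureMat_const_one

theorem ST_mul : Φ.ST t * Φ.STi t = 1 := mul_eq_one_comm.1 Φ.STi_mul

/-- The adjoint in the tensor power. -/
noncomputable def adj (X : MT) : MT := Φ.STi t * Xᵀ * Φ.ST t

theorem adj_add (X Y : MT) : Φ.adj (X + Y) = Φ.adj X + Φ.adj Y := by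
  simp [adj, mul_add, add_mul]

theorem adj_neg (X : MT) : Φ.adj (-X) = -Φ.adj X := by simp [adj]

theorem adj_sub (X Y : MT) : Φ.adj (X - Y) = Φ.adj X - Φ.adj Y := by
  rw [sub_eq_add_neg, adj_add, adj_neg, sub_eq_add_neg]

theorem adj_zero : Φ.adj (0 : MT) = 0 := by simp [adj]

theorem adj_sum {α : Type*} (s : Finset α) (X : α → MT) :
    Φ.adj (∑ a ∈ s, X a) = ∑ a ∈ s, Φ.adj (X a) := by
  simp [adj, Matrix.transpose_sum, Finset.mul_sum, Finset.sum_mul]

theorem adj_smul (c : F) (X : MT) : Φ.adj (c • X) = c • Φ.adj X := by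
  simp [adj, Matrix.mul_smul, Matrix.smul_mul]

theorem adj_mul (X Y : MT) : Φ.adj (X * Y) = Φ.adj Y * Φ.adj X := by
  simp only [adj, Matrix.transpose_mul, mul_assoc]
  rw [← mul_assoc (Φ.ST t) (Φ.STi t), ST_mul, one_mul]

theorem adj_one : Φ.adj (1 : MT) = 1 := by simp [adj, STi_mul]

theorem adj_pureMat (A : Fin t → Mm) : Φ.adj (pureMat A) = pureMat fun i => Φ.adj1 (A i) := by
  rw [adj, STi, ST, pureMat_transpose, pureMat_mul, pureMat_mul]
  rfl

theorem adj_fa (i : Fin t) (X : Mm) : Φ.adj (fa i X) = fa i (Φ.adj1 X) := by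
  rw [fa_eq, fa_eq, adj_pureMat]
  congr 1
  funext j
  by_cases hj : j = i
  · subst hj; simp
  · simp [hj, adj1_one]

theorem ST_transpose : (Φ.ST t)ᵀ = Φ.ST t := by rw [ST, pureMat_transpose]; simp only [Φ.symm]

theorem STi_transpose : (Φ.STi t)ᵀ = Φ.STi t := by rw [STi, pureMat_transpose]; simp only [inv_symm]

theorem adj_adj (X : MT) : Φ.adj (Φ.adj X) = X := by
  simp only [adj, Matrix.transpose_mul, Matrix.transpose_transpose, ST_transpose, STi_transpose]
  rw [show Φ.STi t * (Φ.ST t * (X * Φ.STi t)) * Φ.ST t =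
      (Φ.STi t * Φ.ST t) * X * (Φ.STi t * Φ.ST t) by simp only [mul_assoc], STi_mul, one_mul, mul_one]

theorem adj_permMat (σ : Equiv.Perm (Fin t)) : Φ.adj (permMat k F σ : MT) = permMat k F σ⁻¹ := by
  rw [adj, permMat_transpose, mul_assoc, ST, permMat_mul_pureMat, ← mul_assoc]
  rw [show ((fun _ : Fin t => Φ.S) ∘ ⇑(σ⁻¹).symm) = fun _ => Φ.S from rfl]
  show Φ.STi t * Φ.ST t * _ = _
  rw [STi_mul, one_mul]

/-- An isometry of the tensor power. -/
def Iso (g : GL (Fin t → Fin k) F) : Prop := Φ.adj (g : MT) * (g : MT) = 1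

variable {Φ}

theorem Iso.adj_eq {g : GL (Fin t → Fin k) F} (h : Φ.Iso g) :
    Φ.adj (g : MT) = ((g⁻¹ : GL (Fin t → Fin k) F) : MT) :=
  (Units.inv_eq_of_mul_eq_one_left h).symm

theorem Iso.mul {g h : GL (Fin t → Fin k) F} (hg : Φ.Iso g) (hh : Φ.Iso h) : Φ.Iso (g * h) := by
  unfold Iso
  rw [Units.val_mul, adj_mul, mul_assoc, ← mul_assoc (Φ.adj (g : MT)), hg, one_mul, hh]

theorem Iso.inv {g : GL (Fin t → Fin k) F} (hg : Φ.Iso g) : Φ.Iso g⁻¹ := by
  unfold Iso
  rw [← hg.adj_eq, adj_adj, hg.adj_eq, Units.mul_inv]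

variable (Φ)

/-- The rank one operators of a factor. -/
noncomputable def P (i : Fin t) (x y : Vk) : MT := fa i (Φ.rk x y)

theorem P_mul (i : Fin t) (x y z w : Vk) : Φ.P i x y * Φ.P i z w = Φ.β y z • Φ.P i x w := by
  rw [P, P, P, ← map_mul, rk_mul_rk, map_smul]

theorem P_mul' (i : Fin t) (x y z w : Vk) (X : MT) :
    Φ.P i x y * (Φ.P i z w * X) = Φ.β y z • (Φ.P i x w * X) := by
  rw [← mul_assoc, P_mul, Matrix.smul_mul]

theorem fa_mul_P (i : Fin t) (X : Mm) (x y : Vk) : fa i X * Φ.P i x y = Φ.P i (X *ᵥ x) y := by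
  rw [P, P, ← map_mul, mul_rk]

theorem P_mul_fa (i : Fin t) (X : Mm) (x y : Vk) :
    Φ.P i x y * fa i X = Φ.P i x (Φ.adj1 X *ᵥ y) := by
  rw [P, P, ← map_mul, rk_mul]

theorem adj_P (i : Fin t) (x y : Vk) : Φ.adj (Φ.P i x y) = Φ.P i y x := by
  rw [P, P, adj_fa, adj1_rk]

theorem P_add_left (i : Fin t) (x x' y : Vk) : Φ.P i (x + x') y = Φ.P i x y + Φ.P i x' y := by
  simp [P, rk, add_vecMulVec]

theorem P_add_right (i : Fin t) (x y y' : Vk) : Φ.P i x (y + y') = Φ.P i x y + Φ.P i x y' := by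
  simp [P, rk, Matrix.mulVec_add, vecMulVec_add]

theorem P_smul_left (i : Fin t) (c : F) (x y : Vk) : Φ.P i (c • x) y = c • Φ.P i x y := by
  simp [P, rk, smul_vecMulVec]

theorem P_smul_right (i : Fin t) (c : F) (x y : Vk) : Φ.P i x (c • y) = c • Φ.P i x y := by
  simp [P, rk, Matrix.mulVec_smul, vecMulVec_smul]

theorem P_sub_left (i : Fin t) (x x' y : Vk) : Φ.P i (x - x') y = Φ.P i x y - Φ.P i x' y := by
  rw [eq_sub_iff_add_eq, ← P_add_left, sub_add_cancel]

theorem P_sub_right (i : Fin t) (x y y' : Vk) : Φ.P i x (y - y') = Φ.P i x y - Φ.P i x y' := by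
  rw [eq_sub_iff_add_eq, ← P_add_right, sub_add_cancel]

theorem P_zero_left (i : Fin t) (y : Vk) : Φ.P i 0 y = 0 := by simp [P, rk]

theorem P_zero_right (i : Fin t) (x : Vk) : Φ.P i x 0 = 0 := by simp [P, rk]

/-- Commuting with a factor. -/
def Cm (i : Fin t) (X : MT) : Prop := ∀ Y : Mm, Commute X (fa i Y)

section cm

variable {i : Fin t} {X Y : Matrix (Fin t → Fin k) (Fin t → Fin k) F}

theorem cm_one : Cm i (1 : MT) := fun _ => Commute.one_left _

theorem cm_zero : Cm i (0 : MT) := fun _ => Commute.zero_left _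

theorem cm_fa {j : Fin t} (h : j ≠ i) (A : Mm) : Cm i (fa j A : MT) := fun B => fa_commute h A B

theorem Cm.add (hX : Cm i X) (hY : Cm i Y) : Cm i (X + Y) := fun A => (hX A).add_left (hY A)

theorem Cm.sub (hX : Cm i X) (hY : Cm i Y) : Cm i (X - Y) := fun A => (hX A).sub_left (hY A)

theorem Cm.neg (hX : Cm i X) : Cm i (-X) := fun A => (hX A).neg_left

theorem Cm.mul (hX : Cm i X) (hY : Cm i Y) : Cm i (X * Y) := fun A => (hX A).mul_left (hY A)

theorem Cm.smul (hX : Cm i X) (c : F) : Cm i (c • X) := fun A => (hX A).smul_left c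

theorem Cm.sum {α : Type*} (s : Finset α) (Z : α → MT) (h : ∀ a ∈ s, Cm i (Z a)) :
    Cm i (∑ a ∈ s, Z a) := fun A => Commute.sum_left _ _ _ fun a ha => h a ha A

theorem cm_P {j : Fin t} (h : j ≠ i) (x y : Vk) : Cm i (Φ.P j x y) := cm_fa h _

theorem Cm.adj (hX : Cm i X) : Cm i (Φ.adj X) := fun A => by
  rw [← Φ.adj1_adj1 A, ← Φ.adj_fa, Commute, SemiconjBy, ← Φ.adj_mul, ← Φ.adj_mul, (hX _).eq]

theorem Cm.P_comm (hX : Cm i X) (x y : Vk) : X * Φ.P i x y = Φ.P i x y * X := (hX _).eq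

end cm

/-- The compression of an operator at two vectors of a factor. -/
noncomputable def comp (i : Fin t) (x y : Vk) (X : MT) : MT :=
  ∑ r, fa i (vecMulVec (Pi.single r 1) (Φ.S *ᵥ x)) * X * fa i (vecMulVec y (Pi.single r 1))

theorem cm_comp (i : Fin t) (x y : Vk) (X : MT) : Cm i (Φ.comp i x y X) := by
  intro A
  have key : ∀ a b : Fin k, Commute (Φ.comp i x y X) (fa i (Matrix.single a b 1)) := fun a b => by
    show _ * _ = _ * _
    rw [comp, Finset.sum_mul, Finset.mul_sum]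
    rw [Finset.sum_eq_single a, Finset.sum_eq_single b]
    · rw [mul_assoc, ← map_mul, ← mul_assoc (fa i (Matrix.single a b 1)), ← mul_assoc, ← map_mul]
      rw [single_eq_single_vecMulVec_single, vecMulVec_mul_vecMulVec, vecMulVec_mul_vecMulVec]
      simp
    · intro r _ hr
      rw [← mul_assoc, ← mul_assoc, ← map_mul, single_eq_single_vecMulVec_single,
        vecMulVec_mul_vecMulVec]
      simp [Ne.symm hr]
    · simp
    · intro r _ hr
      rw [mul_assoc, ← map_mul, single_eq_single_vecMulVec_single, vecMulVec_mul_vecMulVec]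
      simp [hr]
    · simp
  rw [Matrix.matrix_eq_sum_single A]
  simp only [map_sum]
  refine Commute.sum_right _ _ _ fun a _ => Commute.sum_right _ _ _ fun b _ => ?_
  rw [show Matrix.single a b (A a b) = A a b • Matrix.single a b (1 : F) by simp, map_smul]
  exact (key a b).smul_right _

/-- The sandwich by rank one operators. -/
theorem PXP (i : Fin t) (a b c d : Vk) (X : MT) :
    Φ.P i a b * X * Φ.P i c d = Φ.P i a d * Φ.comp i b c X := by
  have e : ∀ r, Φ.P i a d * fa i (vecMulVec (Pi.single r 1) (Φ.S *ᵥ b)) = (Φ.S *ᵥ d) r • Φ.P i a b :=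
    fun r => by
      rw [P, P, ← map_mul, rk, rk, vecMulVec_mul_vecMulVec, dotProduct_single_one, vecMulVec_smul,
        map_smul]
  rw [comp, Finset.mul_sum]
  simp only [← mul_assoc, e, Matrix.smul_mul]
  simp only [← Matrix.mul_smul, ← map_smul, ← vecMulVec_smul, ← Finset.mul_sum, ← map_sum]
  congr 1
  refine congrArg (fa i) ?_
  conv_lhs => rw [rk, pi_eq_sum_univ' (Φ.S *ᵥ d)]
  ext p q
  simp [Matrix.sum_apply, vecMulVec_apply, Finset.mul_sum, mul_left_comm]

theorem comp_fa (i : Fin t) (x y : Vk) (A : Mm) :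
    Φ.comp i x y (fa i A) = Φ.β x (A *ᵥ y) • (1 : MT) := by
  have e : ∀ r, fa i (vecMulVec (Pi.single r 1) (Φ.S *ᵥ x)) * fa i A * fa i (vecMulVec y (Pi.single r 1)) =
      Φ.β x (A *ᵥ y) • (fa i (Matrix.single r r 1) : MT) := fun r => by
    rw [mul_assoc, ← map_mul, ← map_mul, Matrix.mul_vecMulVec, vecMulVec_mul_vecMulVec,
      single_eq_single_vecMulVec_single, ← map_smul, vecMulVec_smul]
    congr 2
    rw [β, dotProduct_mulVec x, ← mulVec_transpose, Φ.symm]
  rw [comp, Finset.sum_congr rfl fun r _ => e r, ← Finset.smul_sum, ← map_sum]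
  rw [show ∑ r : Fin k, Matrix.single r r (1 : F) = 1 from Matrix.sum_single_eq_diagonal 1 |>.trans
    Matrix.diagonal_one, map_one]

theorem comp_add (i : Fin t) (x y : Vk) (X Y : MT) :
    Φ.comp i x y (X + Y) = Φ.comp i x y X + Φ.comp i x y Y := by
  simp [comp, mul_add, add_mul, Finset.sum_add_distrib]

theorem comp_sub (i : Fin t) (x y : Vk) (X Y : MT) :
    Φ.comp i x y (X - Y) = Φ.comp i x y X - Φ.comp i x y Y := by
  simp [comp, mul_sub, sub_mul, Finset.sum_sub_distrib]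

theorem comp_neg (i : Fin t) (x y : Vk) (X : MT) : Φ.comp i x y (-X) = -Φ.comp i x y X := by
  simp [comp]

theorem comp_zero (i : Fin t) (x y : Vk) : Φ.comp i x y (0 : MT) = 0 := by simp [comp]

theorem comp_smul (i : Fin t) (x y : Vk) (c : F) (X : MT) :
    Φ.comp i x y (c • X) = c • Φ.comp i x y X := by
  simp [comp, Matrix.mul_smul, Matrix.smul_mul, Finset.smul_sum]

theorem comp_mul_cm {i : Fin t} {C : MT} (hC : Cm i C) (x y : Vk) (X : MT) :
    Φ.comp i x y (X * C) = Φ.comp i x y X * C := by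
  rw [comp, comp, Finset.sum_mul]
  refine Finset.sum_congr rfl fun r _ => ?_
  simp only [mul_assoc, (hC _).eq]

theorem cm_mul_comp {i : Fin t} {C : MT} (hC : Cm i C) (x y : Vk) (X : MT) :
    Φ.comp i x y (C * X) = C * Φ.comp i x y X := by
  rw [comp, comp, Finset.mul_sum]
  refine Finset.sum_congr rfl fun r _ => ?_
  simp only [← mul_assoc]
  rw [(hC _).eq]

theorem comp_cm {i : Fin t} {C : MT} (hC : Cm i C) (x y : Vk) :
    Φ.comp i x y C = Φ.β x y • C := by
  rw [show C = fa i (1 : Mm) * C by simp, Φ.comp_mul_cm hC, comp_fa, one_mulVec, Matrix.smul_mul,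
    one_mul, map_one, one_mul]

theorem comp_P_mul {i : Fin t} {C : MT} (hC : Cm i C) (x y a b : Vk) :
    Φ.comp i x y (Φ.P i a b * C) = (Φ.β x a * Φ.β b y) • C := by
  rw [Φ.comp_mul_cm hC, P, comp_fa, rk_mulVec, Φ.sform.smul_right, Matrix.smul_mul, one_mul, mul_comm]

theorem comp_P (i : Fin t) (x y a b : Vk) :
    Φ.comp i x y (Φ.P i a b) = (Φ.β x a * Φ.β b y) • (1 : MT) := by
  simpa using Φ.comp_P_mul (cm_one (F := F) (k := k) (i := i)) x y a b

theorem comp_add_left (i : Fin t) (x x' y : Vk) (X : MT) :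
    Φ.comp i (x + x') y X = Φ.comp i x y X + Φ.comp i x' y X := by
  simp [comp, Matrix.mulVec_add, vecMulVec_add, add_mul, Finset.sum_add_distrib]

theorem comp_smul_left (i : Fin t) (c : F) (x y : Vk) (X : MT) :
    Φ.comp i (c • x) y X = c • Φ.comp i x y X := by
  simp [comp, Matrix.mulVec_smul, vecMulVec_smul, Finset.smul_sum]

theorem comp_add_right (i : Fin t) (x y y' : Vk) (X : MT) :
    Φ.comp i x (y + y') X = Φ.comp i x y X + Φ.comp i x y' X := by
  simp [comp, add_vecMulVec, mul_add, Finset.sum_add_distrib]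

theorem comp_smul_right (i : Fin t) (c : F) (x y : Vk) (X : MT) :
    Φ.comp i x (c • y) X = c • Φ.comp i x y X := by
  simp [comp, smul_vecMulVec, Finset.smul_sum]

theorem comp_zero_left (i : Fin t) (y : Vk) (X : MT) : Φ.comp i 0 y X = 0 := by simp [comp]

theorem comp_zero_right (i : Fin t) (x : Vk) (X : MT) : Φ.comp i x 0 X = 0 := by simp [comp]

theorem comp_sub_left (i : Fin t) (x x' y : Vk) (X : MT) :
    Φ.comp i (x - x') y X = Φ.comp i x y X - Φ.comp i x' y X := by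
  rw [eq_sub_iff_add_eq, ← comp_add_left, sub_add_cancel]

theorem comp_sub_right (i : Fin t) (x y y' : Vk) (X : MT) :
    Φ.comp i x (y - y') X = Φ.comp i x y X - Φ.comp i x y' X := by
  rw [eq_sub_iff_add_eq, ← comp_add_right, sub_add_cancel]

/-- The compressions determine the operator. -/
theorem comp_ext (i : Fin t) {X Y : MT} (h : ∀ x y, Φ.comp i x y X = Φ.comp i x y Y) : X = Y := by
  have e : ∀ Z : MT, Z = ∑ r, ∑ s,
      Φ.P i (Pi.single r 1) (Φ.S⁻¹ *ᵥ Pi.single r 1) * Z *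
        Φ.P i (Pi.single s 1) (Φ.S⁻¹ *ᵥ Pi.single s 1) := fun Z => by
    have h1 : ∑ r : Fin k, Φ.P i (Pi.single r 1) (Φ.S⁻¹ *ᵥ Pi.single r 1) = (1 : MT) := by
      rw [← map_one (fa (F := F) (m := k) i)]
      simp only [P, ← map_sum]
      congr 1
      ext p q
      simp only [rk, Matrix.mulVec_mulVec, Matrix.mul_nonsing_inv _ Φ.det, Matrix.one_mulVec,
        ← single_eq_single_vecMulVec_single]
      rw [show ∑ r : Fin k, Matrix.single r r (1 : F) = 1 from Matrix.sum_single_eq_diagonal 1 |>.trans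
        Matrix.diagonal_one]
    simp only [← Finset.mul_sum, h1, mul_one, ← Finset.sum_mul, one_mul]
  rw [e X, e Y]
  simp only [PXP, h]

/-- The compressions of the adjoint. -/
theorem adj_comp (i : Fin t) (x y : Vk) (X : MT) :
    Φ.adj (Φ.comp i x y X) = Φ.comp i y x (Φ.adj X) := by
  rcases isEmpty_or_nonempty (Fin k) with hk | ⟨⟨r⟩⟩
  · exact Subsingleton.elim (α := MT) (h := by
      haveI : IsEmpty (Fin t → Fin k) := ⟨fun f => hk.elim (f i)⟩
      infer_instance) _ _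
  let a : Vk := Pi.single r 1
  have ha : a ≠ 0 := by simp [a]
  obtain ⟨u, hu⟩ := Φ.sform.exists_left ha
  have e := congrArg Φ.adj (Φ.PXP i a x y a X)
  rw [adj_mul, adj_mul, adj_mul, adj_P, adj_P, adj_P, ← mul_assoc, PXP,
    Cm.P_comm Φ (Cm.adj Φ (Φ.cm_comp i x y X))] at e
  have e2 := congrArg (Φ.comp i u u) e
  rw [Φ.comp_P_mul (Φ.cm_comp i y x _), Φ.comp_P_mul (Cm.adj Φ (Φ.cm_comp i x y X)), hu,
    Φ.sform.symm u a, hu, one_mul, one_smul, one_smul] at e2
  exact e2.symm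

/-- Compressions of two-sided factor translates. -/
theorem comp_conj (i : Fin t) (A B : Mm) (x y : Vk) (X : MT) :
    Φ.comp i x y (fa i A * X * fa i B) = Φ.comp i (Φ.adj1 A *ᵥ x) (B *ᵥ y) X := by
  rw [comp, comp]
  refine Finset.sum_congr rfl fun r _ => ?_
  rw [← mul_assoc, ← mul_assoc, ← map_mul, mul_assoc _ (fa i B), ← map_mul, Matrix.mul_vecMulVec,
    Matrix.vecMulVec_mul]
  congr 4
  rw [adj1, ← Matrix.mulVec_transpose, Matrix.mulVec_mulVec, Matrix.mulVec_mulVec]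
  simp only [mul_assoc, Matrix.mul_nonsing_inv_cancel_left _ _ Φ.det]

end OForm

end CfsgLib.MaxSub.TensorPowOrth
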