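import Cfsg.Agent.Lib.MaxSub.TensorPowOrth.StabInd
import Cfsg.Agent.Lib.MaxSub.TensorPow.RankTools

/-!
An element of the group conjugating an Eichler transformation of a factor into the wreath group lies
in the wreath group.
-/

set_option autoImplicit false
set_option maxHeartbeats 800000
set_option linter.unusedSectionVars false
set_option linter.style.haveILetI false

namespace CfsgLib.MaxSub.TensorPowOrth

open Matrix Module
open CfsgLib.Aschbacher CfsgLib.MaxSub.TensorPow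
open CfsgLib.MaxSub.TensorOO (exists_pair)

variable {F : Type*} [Field F] {k t : ℕ}

local notation "Vk" => Fin k → F
local notation "Mm" => Matrix (Fin k) (Fin k) F
local notation "MT" => Matrix (Fin t → Fin k) (Fin t → Fin k) F

theorem Ad_perm_fa [NeZero k] (σ : Equiv.Perm (Fin t)) (l : Fin t) (X : Mm) :
    Ad (permGL k F σ) (fa l X : MT) = fa (σ l) X := by
  have h := Ad_wr_fa (1 : Fin t → GL (Fin k) F) σ l X
  rw [pureGL_one, one_mul] at h
  rw [h]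
  simp

namespace OForm

variable (Φ : OForm F k) {c₀ : F}

theorem iso_perm (σ : Equiv.Perm (Fin t)) : Φ.Iso (permGL k F σ) := by
  show Φ.adj (permMat k F σ) * permMat k F σ = 1
  rw [adj_permMat, permMat_mul, inv_mul_cancel, permMat_one]

variable {Φ} {G : Subgroup (GL (Fin t → Fin k) F)} (O : Φ.Ov c₀ G)
include O

/-- The hypotheses are invariant under permuting the factors. -/
theorem Ov.conj_perm (σ : Equiv.Perm (Fin t)) :
    Φ.Ov c₀ (G.comap (MulAut.conj (permGL k F σ)).toMonoidHom) := by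
  haveI : NeZero k := ⟨by have := O.hk; omega⟩
  have hfa : ∀ {g : GL (Fin t → Fin k) F} {l : Fin t} {X : Mm}, (g : MT) = fa (σ l) X →
      (((permGL k F σ)⁻¹ * g * permGL k F σ : GL (Fin t → Fin k) F) : MT) = fa l X := by
    intro g l X hg
    rw [Units.val_mul, Units.val_mul, hg, ← Ad_perm_fa σ l X, Ad_apply]
    simp [mul_assoc]
  have hmem : ∀ {g : GL (Fin t → Fin k) F}, g ∈ G → (permGL k F σ)⁻¹ * g * permGL k F σ ∈
      G.comap (MulAut.conj (permGL k F σ)).toMonoidHom := fun {g} hg => by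
    show permGL k F σ * ((permGL k F σ)⁻¹ * g * permGL k F σ) * (permGL k F σ)⁻¹ ∈ G
    simpa [mul_assoc] using hg
  refine ⟨O.c₀_ne, O.hk, O.hq, O.minus, fun g hg => ?_, fun l e θ he hθ => ?_,
    fun hc l a ha => ?_, fun hev l a b ha hb => ?_, fun τ hτ => ?_⟩
  · have h1 := ((Φ.iso_perm σ).inv.mul (O.iso _ hg)).mul (Φ.iso_perm σ)
    change Φ.Iso ((permGL k F σ)⁻¹ * (permGL k F σ * g * (permGL k F σ)⁻¹) * permGL k F σ) at h1
    simpa [mul_assoc] using h1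
  · obtain ⟨g, hg, hgv⟩ := O.eu (σ l) e θ he hθ
    exact ⟨_, hmem hg, hfa hgv⟩
  · obtain ⟨g, hg, hgv⟩ := O.turn hc (σ l) a ha
    exact ⟨_, hmem hg, hfa hgv⟩
  · obtain ⟨g, hg, hgv⟩ := O.pair hev (σ l) a b ha hb
    refine ⟨_, hmem hg, (hfa (X := Φ.T1 a * Φ.T1 b) ?_).trans (map_mul _ _ _)⟩
    rw [hgv, map_mul]; rfl
  · show permGL k F σ * permGL k F τ * (permGL k F σ)⁻¹ ∈ G
    rw [permGL_mul, permGL_inv, permGL_mul]
    refine O.perm _ ?_
    rw [map_mul, map_mul, hτ, mul_one, map_inv, mul_inv_cancel]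

variable [Finite F]

/-- A conjugate of an Eichler transformation lying in the wreath group moves a slice to a slice. -/
theorem Ov.exists_slice {g : GL (Fin t → Fin k) F} (hg : Φ.Iso g) {i : Fin t} {e θ : Vk} (he0 : e ≠ 0)
    (he : Φ.β e e = 0) (hθ : Φ.β θ e = 0) (hθθ : Φ.β θ θ ≠ 0) {u : F → GL (Fin t → Fin k) F}
    (hu : ∀ c, (u c : MT) = Φ.E i e (c • θ)) (h1 : IsWr (g⁻¹ * u 1 * g))
    (h3 : k = 3 → ∀ c, IsWr (g⁻¹ * u c * g)) :
    ∃ (j : Fin t) (f : Vk) (c : F), c ≠ 0 ∧ f ≠ 0 ∧ Φ.β f f = 0 ∧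
      (g : MT) * Φ.P j f f * ((g⁻¹ : GL (Fin t → Fin k) F) : MT) = c • Φ.P i e e := by
  haveI : NeZero k := ⟨by have := O.hk; omega⟩
  haveI : Nonempty (Fin t → Fin k) := ⟨fun _ => 0⟩
  obtain ⟨j, A, hA⟩ := Φ.conj_single_factor O.hk O.hq O.minus
    (g := g) ⟨1, one_ne_zero, by rw [one_smul]; exact hg⟩ he0 he hθ hθθ hu h1 h3
  set gi : MT := ((g⁻¹ : GL (Fin t → Fin k) F) : MT) with hgi
  set Z : Mm := (A - 1) * (A - 1) with hZ
  have hgg : (g : MT) * gi = 1 := Units.mul_inv _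
  have hgg' : gi * (g : MT) = 1 := Units.inv_mul _
  obtain ⟨e2, e3⟩ := Φ.E1_sub_one he hθ
  have hN : ((u 1 : MT) - 1) * ((u 1 : MT) - 1) = (-Φ.β θ θ) • (Φ.P i e e : MT) := by
    rw [hu, one_smul, E, ← map_one (fa i), ← map_sub, ← map_mul, e2, map_smul]
    rfl
  have hfZ : (fa j Z : MT) = (-Φ.β θ θ) • (gi * Φ.P i e e * (g : MT)) := by
    have h' : gi * ((u 1 : MT) - 1) * (g : MT) = fa j (A - 1) := by
      rw [map_sub, map_one, ← hA, Units.val_mul, Units.val_mul, mul_sub, sub_mul, mul_one, hgg']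
    rw [hZ, map_mul, ← h', ← Matrix.smul_mul, ← Matrix.mul_smul, ← hN]
    simp only [mul_assoc, ← hgi]
    rw [← mul_assoc (g : MT) gi, hgg, one_mul]
  have hPne : (Φ.P i e e : MT) ≠ 0 := by
    have := Φ.P_mul_cm_ne_zero he0 (cm_one (F := F) (i := i)) (one_ne_zero : (1 : MT) ≠ 0)
    rwa [mul_one] at this
  have hback : (g : MT) * fa j Z * gi = (-Φ.β θ θ) • Φ.P i e e := by
    rw [hfZ, Matrix.mul_smul, Matrix.smul_mul]
    simp only [mul_assoc, hgg, mul_one]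
    rw [← mul_assoc, hgg, one_mul]
  have hZ0 : Z ≠ 0 := fun h0 => by
    rw [h0, map_zero, mul_zero, zero_mul] at hback
    exact (smul_ne_zero (neg_ne_zero.2 hθθ) hPne) hback.symm
  have hZsym : Φ.adj1 Z = Z := fa_injective j (by
    rw [← adj_fa, hfZ, adj_smul, adj_mul, adj_mul, adj_P, hgi, ← hg.adj_eq, adj_adj, mul_assoc])
  have hZsq : Z * Z = 0 := fa_injective j (by
    rw [map_mul, map_zero, hfZ, Matrix.smul_mul, Matrix.mul_smul]
    simp only [mul_assoc]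
    rw [← mul_assoc (g : MT) gi, hgg, one_mul, ← mul_assoc (Φ.P i e e) (Φ.P i e e), P_mul, he]
    simp)
  obtain ⟨x, hx⟩ : ∃ x, Z *ᵥ x ≠ 0 := by
    by_contra hc
    push Not at hc
    exact hZ0 (ext1 fun x => by rw [hc, Matrix.zero_mulVec])
  set v := Z *ᵥ x with hv
  have hspan : ∀ z, Z *ᵥ z ∈ Submodule.span F {v} := by
    intro z
    by_contra hz
    have h := lt_rank_fa (t := t) j hz hx
    rw [hfZ, show (-Φ.β θ θ) • (gi * Φ.P i e e * (g : MT)) =
      gi * fa i ((-Φ.β θ θ) • Φ.rk e e) * (g : MT) by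
        rw [map_smul, Matrix.mul_smul, Matrix.smul_mul]; rfl] at h
    have hr := rank_conj' g⁻¹ (fa i ((-Φ.β θ θ) • Φ.rk e e) : MT)
    rw [inv_inv, ← hgi] at hr
    rw [hr, show (-Φ.β θ θ) • Φ.rk e e = Φ.rk ((-Φ.β θ θ) • e) e by simp [rk, smul_vecMulVec]] at h
    exact absurd (Φ.rank_fa_rk_le (t := t) i ((-Φ.β θ θ) • e) e) (not_le.2 h)
  choose cz hcz using fun z => Submodule.mem_span_singleton.mp (hspan z)
  obtain ⟨y₀, hy₀⟩ := Φ.sform.exists_left hx
  -- the symmetric operator of rank one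
  have hform : ∀ z, Z *ᵥ z = (cz y₀ * Φ.β v z) • v := by
    intro z
    have h1 : Φ.β (Z *ᵥ y₀) z = Φ.β (Z *ᵥ z) y₀ := by
      rw [beta_mulVec, hZsym, Φ.beta_symm (Z *ᵥ z) y₀]
    rw [← hcz y₀, ← hcz z, Φ.sform.smul_left, Φ.sform.smul_left, Φ.beta_symm y₀ v, hy₀, mul_one] at h1
    rw [← hcz z, ← h1]
  have hZr : Z = cz y₀ • Φ.rk v v := ext1 fun z => by
    rw [hform, Matrix.smul_mulVec, rk_mulVec, smul_smul]
  have hc0 : cz y₀ ≠ 0 := fun h0 => hZ0 (by rw [hZr, h0, zero_smul])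
  have hvv : Φ.β v v = 0 := by
    have h1 := congrArg (· *ᵥ y₀) hZsq
    simp only [← Matrix.mulVec_mulVec, Matrix.zero_mulVec] at h1
    rw [hform, hform, Φ.sform.smul_right, smul_eq_zero] at h1
    have h2 := h1.resolve_right hx
    rw [Φ.sform.symm y₀ v, hy₀, mul_one] at h2
    rcases mul_eq_zero.1 h2 with h3 | h3
    · exact absurd h3 hc0
    · exact (mul_eq_zero.1 h3).resolve_left hc0
  refine ⟨j, v, (cz y₀)⁻¹ * (-Φ.β θ θ), mul_ne_zero (inv_ne_zero hc0) (neg_ne_zero.2 hθθ), hx, hvv, ?_⟩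
  rw [← smul_smul, ← hback, hZr, map_smul, Matrix.mul_smul, Matrix.smul_mul, inv_smul_smul₀ hc0]
  rfl

omit [Finite F] in
/-- With two factors, a similitude commuting with one of them is a pure tensor. -/
theorem Ov.frame_wr_two (ht : t = 2) {i : Fin t} {e e' : Vk} {M : Mm} {α : MT} {ν : F}
    (Fr : Φ.Frame i e e' M α ν) {p : GL (Fin t → Fin k) F} (hpv : (p : MT) = fa i M * α) : IsWr p := by
  haveI : NeZero k := ⟨by have := O.hk; omega⟩
  obtain ⟨l, hl⟩ : ∃ l : Fin t, l ≠ i := by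
    subst ht
    exact ⟨i.rev, by fin_cases i <;> simp [Fin.ext_iff]⟩
  obtain ⟨A, hA⟩ := cent_range (M := α) l fun m hm X => by
    have hmi : m = i := by
      subst ht
      omega
    subst hmi
    exact Fr.cm X
  let Mu : GL (Fin t → Fin k) F := ⟨fa i M, fa i (ν⁻¹ • Φ.adj1 M),
    by rw [← map_mul, Matrix.mul_smul, sim_comm Fr.ne Fr.sim, inv_smul_smul₀ Fr.ne, map_one],
    by rw [← map_mul, Matrix.smul_mul, Fr.sim, inv_smul_smul₀ Fr.ne, map_one]⟩
  let a : GL (Fin t → Fin k) F := ⟨α, ν • Φ.adj α,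
    by rw [Matrix.mul_smul, Fr.αadj, smul_inv_smul₀ Fr.ne],
    by rw [Matrix.smul_mul, Fr.adjα, smul_inv_smul₀ Fr.ne]⟩
  rw [show p = Mu * a from Units.ext hpv]
  exact isWr_mul (isWr_of_fa (g := Mu) rfl) (isWr_of_fa (g := a) hA)

/-- An element mapping a slice to a slice lies in the wreath group. -/
theorem Ov.slice_wr (ht : 2 ≤ t) (hz : Φ.NoZS G) (hnorm : ∀ g ∈ G, ∀ i, Maps g i i → IsWr g)
    (IH : ∀ n, n + 1 = t → 2 ≤ n → ∀ G' : Subgroup (GL (Fin n → Fin k) F), Φ.Ov c₀ G' → Φ.Concl G')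
    {g : GL (Fin t → Fin k) F} (hg : g ∈ G) {i j : Fin t} {e f : Vk} (he0 : e ≠ 0)
    (he : Φ.β e e = 0) (hf0 : f ≠ 0) (hf : Φ.β f f = 0) {c : F}
    (h : (g : MT) * Φ.P j f f * ((g⁻¹ : GL (Fin t → Fin k) F) : MT) = c • Φ.P i e e) : IsWr g := by
  haveI : NeZero k := ⟨by have := O.hk; omega⟩
  obtain ⟨σ, hσ, hσev⟩ : ∃ σ : Equiv.Perm (Fin t), σ i = j ∧
      (3 ≤ t → Equiv.Perm.sign σ = 1) := by
    by_cases hij : i = j
    · exact ⟨1, by simp [hij], fun _ => map_one _⟩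
    by_cases h3 : 3 ≤ t
    · obtain ⟨l, hli, hlj⟩ : ∃ l, l ≠ i ∧ l ≠ j := by
        have hc : 0 < ((Finset.univ.erase i).erase j).card := by
          rw [Finset.card_erase_of_mem (Finset.mem_erase.2 ⟨Ne.symm hij, Finset.mem_univ _⟩),
            Finset.card_erase_of_mem (Finset.mem_univ _), Finset.card_univ, Fintype.card_fin]
          omega
        obtain ⟨l, hl⟩ := Finset.card_pos.1 hc
        simp only [Finset.mem_erase] at hl
        exact ⟨l, hl.2.1, hl.1⟩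
      refine ⟨Equiv.swap i j * Equiv.swap j l, ?_, fun _ => ?_⟩
      · rw [Equiv.Perm.mul_apply, Equiv.swap_apply_of_ne_of_ne hij hli.symm, Equiv.swap_apply_left]
      · rw [map_mul, Equiv.Perm.sign_swap hij, Equiv.Perm.sign_swap hlj.symm]
        decide
    · exact ⟨Equiv.swap i j, Equiv.swap_apply_left i j, fun h => absurd h h3⟩
  set π := permGL k F σ with hπ
  set g' := g * π with hg'
  have hg'v : (g' : MT) * Φ.P i f f * ((g'⁻¹ : GL (Fin t → Fin k) F) : MT) = c • Φ.P i e e := by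
    rw [hg', P, ← Ad_apply, Ad_mul, hπ, Ad_perm_fa, hσ, Ad_apply]
    exact h
  obtain ⟨M, ⟨hM1, v, hvG, hvv⟩, s, hs, hMe⟩ := O.facIn_move (i := i) he0 he hf0 hf
  set g'' := v * g' with hg''
  have hc0 : c ≠ 0 := fun h0 => by
    rw [h0, zero_smul] at hg'v
    have h1 := congrArg (fun Z => ((g'⁻¹ : GL (Fin t → Fin k) F) : MT) * Z * (g' : MT)) hg'v
    simp only [mul_assoc, Units.inv_mul, Units.inv_mul_cancel_left, mul_one, mul_zero, zero_mul] at h1
    have := Φ.P_mul_cm_ne_zero hf0 (cm_one (F := F) (i := i))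
      (haveI : Nonempty (Fin t → Fin k) := ⟨fun _ => 0⟩; (one_ne_zero : (1 : MT) ≠ 0))
    rw [mul_one] at this
    exact this h1
  set d := c * (s * s) with hd
  have hg''v : (g'' : MT) * Φ.P i f f = d • (Φ.P i f f * (g'' : MT)) := by
    have h1 : (g'' : MT) * Φ.P i f f * ((g''⁻¹ : GL (Fin t → Fin k) F) : MT) = d • Φ.P i f f := by
      rw [← Ad_apply, hg'', Ad_mul, Ad_apply g', hg'v, map_smul, Ad_apply, hvv,
        FacIn.inv_val hM1 hvv, fa_mul_P, hMe, P_smul_left, Matrix.smul_mul, P_mul_fa, adj1_adj1,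
        hMe, P_smul_right, smul_smul, smul_smul, hd]
      congr 1
      ring
    have h2 := congrArg (fun Z => Z * (g'' : MT)) h1
    simp only [mul_assoc, Units.inv_mul, mul_one, Matrix.smul_mul] at h2
    exact h2
  obtain ⟨f', hf', hff⟩ := exists_pair Φ.sform hf0 hf
  have hgP : (g'' : MT) * Φ.P i f f = Φ.P i f f * (d • Φ.comp i f f' (g'' : MT)) := by
    calc (g'' : MT) * Φ.P i f f = (g'' : MT) * Φ.P i f f * Φ.P i f' f := by
          rw [mul_assoc, P_mul, hff, one_smul]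
      _ = d • (Φ.P i f f * (g'' : MT) * Φ.P i f' f) := by rw [hg''v, Matrix.smul_mul]
      _ = _ := by rw [PXP, Matrix.mul_smul]
  have hα : Cm i (d • Φ.comp i f f' (g'' : MT)) := (Φ.cm_comp _ _ _ _).smul _
  have hvwr : IsWr v := isWr_of_fa hvv
  have hπwr : IsWr π := ⟨1, σ, by rw [pureGL_one, one_mul]⟩
  suffices hw : IsWr g'' by
    have h1 := isWr_mul (isWr_mul (isWr_inv hvwr) hw) (isWr_inv hπwr)
    rwa [hg'', hg', inv_mul_cancel_left, mul_inv_cancel_right] at h1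
  by_cases h3 : 3 ≤ t
  · have hmem : g'' ∈ G := mul_mem hvG (mul_mem hg (O.perm σ (hσev h3)))
    obtain ⟨n, rfl⟩ := Nat.exists_eq_add_of_le' (show 1 ≤ t by omega)
    exact O.slice_wr_ind (by omega) hz hnorm (IH n rfl (by omega)) hf0 hf hmem hα hgP
  · have ht2 : t = 2 := by omega
    refine (O.conj_perm σ).stab_wr O hz hf0 hf hf' hff
      ((O.iso v hvG).mul ((O.iso g hg).mul (Φ.iso_perm σ))) (fun x hx => ?_) hα hgP
      fun M ν Fr p _ hpv => O.frame_wr_two ht2 Fr hpv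
    have hxG : π * x * π⁻¹ ∈ G := hx
    rw [show g'' * x * g''⁻¹ = (v * g) * (π * x * π⁻¹) * (v * g)⁻¹ by rw [hg'', hg']; group]
    exact mul_mem (mul_mem (mul_mem hvG hg) hxG) (inv_mem (mul_mem hvG hg))

/-- Isolation of the wreath group. -/
theorem Ov.isolated (ht : 2 ≤ t) (hz : Φ.NoZS G) (hnorm : ∀ g ∈ G, ∀ i, Maps g i i → IsWr g)
    (IH : ∀ n, n + 1 = t → 2 ≤ n → ∀ G' : Subgroup (GL (Fin n → Fin k) F), Φ.Ov c₀ G' → Φ.Concl G')
    {g : GL (Fin t → Fin k) F} (hg : g ∈ G) {i : Fin t} {e θ : Vk} (he0 : e ≠ 0)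
    (he : Φ.β e e = 0) (hθ : Φ.β θ e = 0) (hθθ : Φ.β θ θ ≠ 0) {u : F → GL (Fin t → Fin k) F}
    (hu : ∀ c, (u c : MT) = Φ.E i e (c • θ)) (h1 : IsWr (g⁻¹ * u 1 * g))
    (h3 : k = 3 → ∀ c, IsWr (g⁻¹ * u c * g)) : IsWr g := by
  obtain ⟨j, f, c, -, hf0, hf, h⟩ := O.exists_slice (O.iso g hg) he0 he hθ hθθ hu h1 h3
  exact O.slice_wr ht hz hnorm IH hg he0 he hf0 hf h

end OForm

end CfsgLib.MaxSub.TensorPowOrth
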