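import Cfsg.Agent.Lib.MaxSub.TensorPowOrth.Proj
import Cfsg.Agent.Lib.MaxSub.TensorPow.Moving

/-!
An operator preserving the skew operators of the factors permutes the factors: the skew operators of a
factor form a simple algebra under commutators.
-/

set_option autoImplicit false
set_option maxHeartbeats 800000
set_option linter.unusedSectionVars false
set_option linter.style.haveILetI false

namespace CfsgLib.MaxSub.TensorPowOrth

open Matrix Module
open CfsgLib.Aschbacher CfsgLib.MaxSub.TensorPow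
open CfsgLib.MaxSub.TensorOO (exists_pair split_pair pairPerp mem_pairPerp exists_aniso_pairPerp
  pairPerp_nondeg scalar_of_singular)

variable {F : Type*} [Field F] {k t : ℕ}

local notation "Vk" => Fin k → F
local notation "Mm" => Matrix (Fin k) (Fin k) F
local notation "MT" => Matrix (Fin t → Fin k) (Fin t → Fin k) F

namespace OForm

variable (Φ : OForm F k)

theorem w1_mulVec (a b z : Vk) : Φ.w1 a b *ᵥ z = Φ.β b z • a - Φ.β a z • b := by
  rw [w1, Matrix.sub_mulVec, rk_mulVec, rk_mulVec]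

theorem br_w1 {X : Mm} (hX : Φ.adj1 X = -X) (a b : Vk) :
    br X (Φ.w1 a b) = Φ.w1 (X *ᵥ a) b + Φ.w1 a (X *ᵥ b) := by
  simp only [br, w1, mul_sub, sub_mul, mul_rk, rk_mul, hX, Matrix.neg_mulVec]
  simp only [rk, Matrix.mulVec_neg, vecMulVec_neg]
  abel

theorem skew_perp {X : Mm} (hX : Φ.adj1 X = -X) (v : Vk) : Φ.β (X *ᵥ v) v = 0 := by
  have h : Φ.β (X *ᵥ v) v = -Φ.β (X *ᵥ v) v := by
    conv_lhs => rw [beta_mulVec, hX, Matrix.neg_mulVec, Φ.sform.neg_right, ← Φ.beta_symm v (X *ᵥ v)]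
  exact (mul_eq_zero.1 (show (2 : F) * Φ.β (X *ᵥ v) v = 0 by linear_combination h)).resolve_left Φ.two

theorem skew_br {X Z : Mm} (hX : Φ.adj1 X = -X) (hZ : Φ.adj1 Z = -Z) :
    Φ.adj1 (br X Z) = -br X Z := by
  rw [br, adj1_sub, adj1_mul, adj1_mul, hX, hZ, neg_mul_neg, neg_mul_neg, neg_sub]

/-- The skew operators of a factor have no proper ideal. -/
theorem skew_le [Finite F] (hk : 3 ≤ k)
    (hminus : k = 4 → ∀ U : Submodule F Vk, (∀ x ∈ U, Φ.β x x = 0) → finrank F U ≤ 1)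
    (S : Submodule F Mm) (hS : ∀ X ∈ S, ∀ Z : Mm, Φ.adj1 Z = -Z → br X Z ∈ S) {Y : Mm}
    (hY : Φ.adj1 Y = -Y) (hY0 : Y ≠ 0) (hYS : ∀ Z : Mm, Φ.adj1 Z = -Z → br Y Z ∈ S) {Z : Mm}
    (hZ : Φ.adj1 Z = -Z) : Z ∈ S := by
  have hd : 3 ≤ finrank F Vk := by rw [finrank_vk]; exact hk
  -- a singular point moved by the operator
  obtain ⟨e, he0, he, hYe⟩ : ∃ e, e ≠ 0 ∧ Φ.β e e = 0 ∧ ∀ μ : F, Y *ᵥ e ≠ μ • e := by
    by_contra hc
    push Not at hc
    obtain ⟨a, ha⟩ := scalar_of_singular Φ.sform hd Y.mulVecLin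
      (fun x hx0 hx => hc x hx0 hx)
    have hYa : Y = a • 1 := ext1 fun x => by
      rw [Matrix.smul_mulVec, Matrix.one_mulVec]; exact ha x
    rw [hYa, adj1_smul, adj1_one, ← neg_smul] at hY
    have h2 : (2 * a) • (1 : Mm) = 0 := by
      rw [two_mul, add_smul]; nth_rw 1 [hY]; simp
    rcases smul_eq_zero.1 h2 with h3 | h3
    · exact hY0 (by rw [hYa, (mul_eq_zero.1 h3).resolve_left Φ.two, zero_smul])
    · exact hY0 (by rw [hYa, h3, smul_zero])
  obtain ⟨e', he', hee⟩ := exists_pair Φ.sform he0 he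
  have hee' : Φ.β e' e = 1 := by rw [Φ.beta_symm e e', hee]
  obtain ⟨θ, hθ, hθθ⟩ := exists_aniso_pairPerp Φ.sform hd he he' hee
  obtain ⟨hθe, hθe'⟩ := (mem_pairPerp Φ.sform).1 hθ
  have hYee : Φ.β (Y *ᵥ e) e = 0 := Φ.skew_perp hY e
  -- a first element
  obtain ⟨v₀, hv₀, hv₀0, hv₀S⟩ : ∃ v ∈ pairPerp Φ.sform e e', v ≠ 0 ∧ Φ.w1 v e ∈ S := by
    set c := Φ.β (Y *ᵥ e) θ with hc
    set v := Φ.β θ θ • (Y *ᵥ e) - (2 * c) • θ with hv
    have hve : Φ.β v e = 0 := by
      rw [hv, Φ.sform.sub_left, Φ.sform.smul_left, Φ.sform.smul_left, hYee, hθe, mul_zero, mul_zero,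
        sub_zero]
    have hθY : Φ.β e (Y *ᵥ θ) = -c := by
      rw [hc, beta_mulVec, hY, Matrix.neg_mulVec, Φ.sform.neg_right, neg_neg]
    have hθYe : Φ.β (Y *ᵥ e) θ = c := hc.symm
    have hYθe : Φ.β (Y *ᵥ θ) e = -c := by rw [Φ.beta_symm, hθY]
    have h1 := hS _ (hYS _ (Φ.adj1_w1 θ e)) _ (Φ.adj1_w1 θ e)
    rw [br_w1 Φ (Φ.skew_br hY (Φ.adj1_w1 θ e)), br_w1 Φ hY] at h1
    simp only [Matrix.add_mulVec, w1_mulVec, he, Φ.sform.symm0 hθe, hθe, hYee,
      zero_smul, sub_zero, zero_sub, hθYe,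
      hYθe] at h1
    refine ⟨v - Φ.β v e' • e, ?_, ?_, ?_⟩
    · have h2 := CfsgLib.MaxSub.TensorOO.proj_pairPerp Φ.sform he he' hee v
      rwa [hve, zero_smul, sub_zero] at h2
    · intro h0
      rw [sub_eq_zero] at h0
      -- the reflection of the image of the point would be a multiple of it
      have hYθ : Φ.β θ θ • (Y *ᵥ e) = Φ.β v e' • e + (2 * c) • θ := by
        rw [← h0, hv]; abel
      have h2 := congrArg (fun x => Φ.β x θ) hYθ
      simp only [Φ.sform.add_left, Φ.sform.smul_left, Φ.sform.symm0 hθe, mul_zero, zero_add,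
        ← hc] at h2
      have hc0 : c = 0 := by
        have : Φ.β θ θ * c = 0 := by linear_combination -h2
        exact (mul_eq_zero.1 this).resolve_left hθθ
      rw [hc0, mul_zero, zero_smul, add_zero] at hYθ
      exact hYe ((Φ.β θ θ)⁻¹ * Φ.β v e') (by rw [← smul_smul, ← hYθ, inv_smul_smul₀ hθθ])
    · have e1 : Φ.w1 (v - Φ.β v e' • e) e = Φ.w1 v e := by
        rw [sub_eq_add_neg, ← neg_smul, w1_add_left, w1_smul_left, w1_self, smul_zero, add_zero]
      rw [e1]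
      refine (S.neg_mem_iff).1 ?_
      convert h1 using 1
      rw [hv, sub_eq_add_neg, ← neg_smul]
      simp only [sub_eq_add_neg, ← neg_smul, add_zero, w1_add_left, w1_smul_left, w1_smul_right,
        w1_self, smul_zero]
      module
  -- the elements at the point form a whole slice
  have hmove : ∀ v ∈ pairPerp Φ.sform e e', Φ.w1 v e ∈ S → ∀ u ∈ pairPerp Φ.sform e e',
      Φ.β u v = 0 → (∃ b ∈ pairPerp Φ.sform e e', Φ.β v b = 1) → Φ.w1 u e ∈ S := by
    rintro v hv hvS u hu huv ⟨b, hb, hvb⟩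
    obtain ⟨hv1, -⟩ := (mem_pairPerp Φ.sform).1 hv
    obtain ⟨hu1, -⟩ := (mem_pairPerp Φ.sform).1 hu
    obtain ⟨hb1, -⟩ := (mem_pairPerp Φ.sform).1 hb
    have h1 := hS _ hvS _ (Φ.adj1_w1 u b)
    rw [br_w1 Φ (Φ.adj1_w1 v e)] at h1
    simp only [w1_mulVec, Φ.sform.symm0 hu1, Φ.sform.symm0 hb1, Φ.sform.symm0 huv, hvb, zero_smul,
      one_smul, sub_zero, zero_sub] at h1
    rw [← neg_one_smul F e, w1_smul_right] at h1
    simp only [show Φ.w1 (0 : Vk) b = 0 from by simp [w1, rk], zero_add] at h1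
    have := S.smul_mem (-1 : F) h1
    rwa [smul_smul, neg_one_mul, neg_neg, one_smul] at this
  have haniso : ∀ v ∈ pairPerp Φ.sform e e', Φ.β v v ≠ 0 → Φ.w1 v e ∈ S →
      ∀ u ∈ pairPerp Φ.sform e e', Φ.w1 u e ∈ S := by
    intro v hv hvv hvS u hu
    have h1 := hmove v hv hvS (u - (Φ.β u v / Φ.β v v) • v) (sub_mem hu (Submodule.smul_mem _ _ hv))
      (by rw [Φ.sform.sub_left, Φ.sform.smul_left, div_mul_cancel₀ _ hvv, sub_self])
      ⟨(Φ.β v v)⁻¹ • v, Submodule.smul_mem _ _ hv, by rw [Φ.sform.smul_right, inv_mul_cancel₀ hvv]⟩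
    have h2 := S.add_mem h1 (S.smul_mem (Φ.β u v / Φ.β v v) hvS)
    rwa [sub_eq_add_neg, ← neg_smul, w1_add_left, w1_smul_left, neg_smul, ← sub_eq_add_neg,
      sub_add_cancel] at h2
  have hslice : ∀ u ∈ pairPerp Φ.sform e e', Φ.w1 u e ∈ S := by
    by_cases hvv : Φ.β v₀ v₀ ≠ 0
    · exact haniso v₀ hv₀ hvv hv₀S
    rw [not_not] at hvv
    have HR := Φ.sform.restrict (pairPerp_nondeg Φ.sform he he' hee)
    have hd' := CfsgLib.MaxSub.TensorOO.pairPerp_dim Φ.sform e e'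
    rw [finrank_vk] at hd'
    obtain ⟨w, hw, hvw⟩ := exists_pair HR (e := ⟨v₀, hv₀⟩) (fun h => hv₀0 (congrArg Subtype.val h)) hvv
    change Φ.β (w : Vk) w = 0 at hw
    change Φ.β v₀ (w : Vk) = 1 at hvw
    have hK3 : 3 ≤ finrank F (pairPerp Φ.sform e e') := by
      by_contra hlt
      have h4 : k = 4 ∨ k = 3 := by omega
      rcases h4 with h4 | h4
      · -- a totally singular line pair
        have hli : LinearIndependent F ![e, v₀] := by
          rw [Fintype.linearIndependent_iff]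
          intro r hr
          have hr' : r 0 • e + r 1 • v₀ = 0 := by rw [← hr, Fin.sum_univ_two]; rfl
          have c1 := congrArg (Φ.β e') hr'
          simp only [Φ.sform.add_right, Φ.sform.smul_right, Φ.sform.zero_right, hee',
            Φ.sform.symm0 ((mem_pairPerp Φ.sform).1 hv₀).2, mul_one, mul_zero, add_zero] at c1
          rw [c1, zero_smul, zero_add] at hr'
          have c2 := (smul_eq_zero.1 hr').resolve_right hv₀0
          intro n; fin_cases n <;> assumption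
        have hTI : ∀ x ∈ Submodule.span F (Set.range ![e, v₀]), Φ.β x x = 0 := by
          intro x hx
          obtain ⟨r, rfl⟩ := (Submodule.mem_span_range_iff_exists_fun F).1 hx
          simp [Fin.sum_univ_two, Φ.sform.add_left, Φ.sform.add_right, Φ.sform.smul_left,
            Φ.sform.smul_right, he, hvv, ((mem_pairPerp Φ.sform).1 hv₀).1,
            Φ.sform.symm0 ((mem_pairPerp Φ.sform).1 hv₀).1]
        have h1 := hminus h4 _ hTI
        rw [finrank_span_eq_card hli, Fintype.card_fin] at h1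
        omega
      · have hli : LinearIndependent F ![e, e', v₀, (w : Vk)] := by
          obtain ⟨hw1, hw2⟩ := (mem_pairPerp Φ.sform).1 w.2
          obtain ⟨hz1, hz2⟩ := (mem_pairPerp Φ.sform).1 hv₀
          rw [Fintype.linearIndependent_iff]
          intro q hq
          have hq' : q 0 • e + q 1 • e' + q 2 • v₀ + q 3 • (w : Vk) = 0 := by
            rw [← hq, Fin.sum_univ_four]; rfl
          have c1 := congrArg (Φ.β e) hq'
          have c2 := congrArg (Φ.β e') hq'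
          have c3 := congrArg (Φ.β v₀) hq'
          have c4 := congrArg (Φ.β (w : Vk)) hq'
          simp only [Φ.sform.add_right, Φ.sform.smul_right, Φ.sform.zero_right, he, he', hee, hee',
            Φ.sform.symm0 hw1, Φ.sform.symm0 hw2, Φ.sform.symm0 hz1, Φ.sform.symm0 hz2, hw, hvw,
            hw1, hw2, hz1, hz2, hvv, Φ.sform.symm v₀ (w : Vk),
            mul_zero, zero_add, add_zero, mul_one] at c1 c2 c3 c4
          intro n; fin_cases n <;> assumption
        have := hli.fintype_card_le_finrank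
        rw [finrank_vk, Fintype.card_fin] at this
        omega
    obtain ⟨z, hz, hzz⟩ := exists_aniso_pairPerp HR hK3 (e := ⟨v₀, hv₀⟩) (e' := w) hvv hw hvw
    have hzv : Φ.β (z : Vk) v₀ = 0 := ((mem_pairPerp HR).1 hz).1
    exact haniso z z.2 hzz (hmove v₀ hv₀ hv₀S z z.2 hzv ⟨w, w.2, hvw⟩)
  -- all other skew operators
  have hpair : Φ.w1 e e' ∈ S ∧ ∀ a ∈ pairPerp Φ.sform e e',
      Φ.w1 a e' ∈ S ∧ ∀ b ∈ pairPerp Φ.sform e e', Φ.w1 b a ∈ S := by
    have hbr : ∀ a ∈ pairPerp Φ.sform e e', ∀ b ∈ pairPerp Φ.sform e e',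
        -Φ.β a b • Φ.w1 e e' + Φ.w1 b a ∈ S := fun a ha b hb => by
      obtain ⟨ha1, ha2⟩ := (mem_pairPerp Φ.sform).1 ha
      obtain ⟨hb1, hb2⟩ := (mem_pairPerp Φ.sform).1 hb
      have h1 := hS _ (hslice a ha) _ (Φ.adj1_w1 b e')
      rw [br_w1 Φ (Φ.adj1_w1 a e)] at h1
      simp only [w1_mulVec, Φ.sform.symm0 hb1, hee, ha2, zero_smul, one_smul, sub_zero, zero_sub] at h1
      rwa [← neg_smul, w1_smul_left] at h1
    have hpe : Φ.w1 e e' ∈ S := by
      have h1 := hbr θ hθ θ hθ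
      rw [w1_self, add_zero] at h1
      have h2 := S.smul_mem (-Φ.β θ θ)⁻¹ h1
      rwa [inv_smul_smul₀ (neg_ne_zero.2 hθθ)] at h2
    refine ⟨hpe, fun a ha => ⟨?_, fun b hb => ?_⟩⟩
    · obtain ⟨ha1, ha2⟩ := (mem_pairPerp Φ.sform).1 ha
      have h1 := hS _ hpe _ (Φ.adj1_w1 a e')
      rw [br_w1 Φ (Φ.adj1_w1 e e')] at h1
      simp only [w1_mulVec, he', hee, Φ.sform.symm0 ha1, Φ.sform.symm0 ha2, zero_smul, one_smul,
        sub_zero, zero_sub] at h1
      rw [← neg_one_smul F e', w1_smul_right] at h1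
      simp only [show Φ.w1 (0 : Vk) e' = 0 from by simp [w1, rk], zero_add] at h1
      have := S.smul_mem (-1 : F) h1
      rwa [smul_smul, neg_one_mul, neg_neg, one_smul] at this
    · have h1 := S.add_mem (hbr a ha b hb) (S.smul_mem (Φ.β a b) hpe)
      rwa [add_comm, ← add_assoc, ← add_smul, add_neg_cancel, zero_smul, zero_add] at h1
  obtain ⟨hpe, hK⟩ := hpair
  have hall : ∀ x y, Φ.w1 x y ∈ S := fun x y => by
    obtain ⟨a, b, l, hl, rfl⟩ := split_pair Φ.sform he he' hee x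
    obtain ⟨c, d, m, hm, rfl⟩ := split_pair Φ.sform he he' hee y
    simp only [w1_add_left, w1_add_right, w1_smul_left, w1_smul_right, w1_self, smul_zero,
      Φ.w1_swap e e', Φ.w1_swap m e, Φ.w1_swap m e']
    have hneg : ∀ {A : Mm}, A ∈ S → -A ∈ S := fun h => S.neg_mem h
    repeat' first
      | exact S.zero_mem
      | refine S.add_mem ?_ ?_
      | refine S.smul_mem _ ?_
      | exact hneg hpe
      | exact hpe
      | exact hslice l hl
      | exact (hK l hl).1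
      | exact (hK m hm).2 l hl
      | exact hneg (hslice m hm)
      | exact hneg ((hK m hm).1)
  obtain ⟨a, c, hsum⟩ := Φ.skew_eq_sum (by omega) hZ
  rw [hsum]
  exact S.sum_mem fun r _ => S.smul_mem _ (hall _ _)

/-- An element preserving the skew operators of the factors is a pure tensor times a permutation. -/
theorem wr_of_skew [Finite F] (hk : 3 ≤ k) (ht : 1 ≤ t)
    (hminus : k = 4 → ∀ U : Submodule F Vk, (∀ x ∈ U, Φ.β x x = 0) → finrank F U ≤ 1)
    {g : GL (Fin t → Fin k) F} (hg : ∀ X ∈ Φ.skewSum (t := t), Ad g X ∈ Φ.skewSum (t := t)) :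
    IsWr g := by
  classical
  haveI : NeZero k := ⟨by omega⟩
  set R := Φ.skewSum (t := t) with hR
  have surj : ∀ X ∈ R, ∃ X' ∈ R, Ad g X' = X := by
    intro X hX
    have hinj : Function.Injective ((Ad g).restrict hg) := fun x y h =>
      Subtype.ext (Ad_injective g (congrArg Subtype.val h))
    obtain ⟨X', hX'⟩ := LinearMap.injective_iff_surjective.mp hinj ⟨X, hX⟩
    exact ⟨X'.1, X'.2, congrArg Subtype.val hX'⟩
  let so : Submodule F Mm :=
    { carrier := {Z | Φ.adj1 Z = -Z}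
      add_mem' := fun {x y} hx hy => by
        show Φ.adj1 _ = _
        rw [adj1_add, hx, hy, neg_add]
      zero_mem' := by show Φ.adj1 0 = -0; simp [adj1]
      smul_mem' := fun c x hx => by
        show Φ.adj1 _ = _
        rw [adj1_smul, hx, smul_neg] }
  refine isWr_of_maps (by omega) ht fun i => ?_
  obtain ⟨e₀, he₀0, he₀⟩ := Φ.sform.exists_iso (by rw [finrank_vk]; exact hk : 3 ≤ finrank F Vk)
  obtain ⟨_, θ₀, -, -, hθ₀, hθ₀₀⟩ := Φ.exists_orth_aniso hk he₀0 he₀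
  set W0 : Mm := Φ.w1 θ₀ e₀
  have hW0 : W0 ≠ 0 := fun h => by
    have h1 := congrArg (· *ᵥ θ₀) h
    simp only [W0, w1_mulVec, Φ.sform.symm0 ((mem_pairPerp Φ.sform).1 hθ₀).1, zero_smul, zero_sub,
      Matrix.zero_mulVec, neg_eq_zero] at h1
    exact he₀0 ((smul_eq_zero.1 h1).resolve_left hθ₀₀)
  obtain ⟨Y, hYs, hY⟩ := Φ.skewSum_mem (hg _ (Φ.fa_mem_skewSum (by omega) i (Φ.adj1_w1 θ₀ e₀)))
  obtain ⟨j, hj⟩ : ∃ j, Y j ≠ 0 := by
    by_contra hc
    push Not at hc
    refine hW0 (fa_injective i (Ad_injective g ?_))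
    rw [hY, map_zero, map_zero]
    exact Finset.sum_eq_zero fun l _ => by rw [hc l, map_zero]
  set K : Submodule F MT := so.map ((Ad g).comp (fa i).toLinearMap) with hK
  have hbr : ∀ X ∈ K, ∀ W : Mm, Φ.adj1 W = -W → br X (fa j W) ∈ K := by
    rintro _ ⟨Z, hZ, rfl⟩ W hW
    obtain ⟨X', hX', hW'⟩ := surj _ (Φ.fa_mem_skewSum (by omega) j hW)
    obtain ⟨Y', hY's, hY'⟩ := Φ.skewSum_mem hX'
    refine ⟨br Z (Y' i), Φ.skew_br hZ (hY's i), ?_⟩
    simp only [LinearMap.comp_apply, AlgHom.toLinearMap_apply]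
    rw [← hW', ← Ad_br, hY']
    congr 1
    have := br_sumFa Y' i Z
    rw [br, br, map_sub] at this ⊢
    rw [← neg_sub ((∑ k, fa k (Y' k)) * fa i Z) (fa i Z * ∑ k, fa k (Y' k)), this, map_mul, map_mul, neg_sub]
  let S : Submodule F Mm := K.comap (fa j).toLinearMap
  have hle : so.map (fa j).toLinearMap ≤ K := by
    rintro _ ⟨W, hW, rfl⟩
    refine Φ.skew_le hk hminus S (fun X hX Z hZ => ?_) (hYs j) hj (fun Z hZ => ?_) hW
    · show fa j (br X Z) ∈ K
      rw [br, map_sub, map_mul, map_mul]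
      exact hbr _ hX Z hZ
    · show fa j (br (Y j) Z) ∈ K
      rw [← br_sumFa, ← hY]
      exact hbr _ ⟨_, Φ.adj1_w1 θ₀ e₀, rfl⟩ Z hZ
  have heq : so.map (fa j).toLinearMap = K := by
    refine Submodule.eq_of_le_of_finrank_eq hle ?_
    have e1 := (Submodule.equivMapOfInjective (fa (F := F) (m := k) j).toLinearMap (fa_injective j) so).finrank_eq
    have e2 := (Submodule.equivMapOfInjective ((Ad g).comp (fa i).toLinearMap)
        ((Ad_injective g).comp (fa_injective i)) so).finrank_eq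
    exact e1.symm.trans e2
  let A : Subalgebra F Mm :=
    { carrier := {X | ∃ A, Ad g (fa i X) = fa j A}
      mul_mem' := by
        rintro X Y ⟨A, hA⟩ ⟨B, hB⟩
        exact ⟨A * B, by rw [map_mul, Ad_mul_apply, hA, hB, map_mul]⟩
      one_mem' := ⟨1, by rw [map_one (fa i), map_one (fa j), Ad_apply, mul_one, Units.mul_inv]⟩
      add_mem' := by
        rintro X Y ⟨A, hA⟩ ⟨B, hB⟩
        exact ⟨A + B, by rw [map_add, map_add, hA, hB, map_add]⟩
      zero_mem' := ⟨0, by rw [map_zero, map_zero, map_zero]⟩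
      algebraMap_mem' := fun c => ⟨algebraMap F Mm c, by
        rw [AlgHom.commutes, AlgHom.commutes, Algebra.algebraMap_eq_smul_one, map_smul, Ad_apply,
          mul_one, Units.mul_inv]⟩ }
  have hskew : ∀ Z, Φ.adj1 Z = -Z → Z ∈ A := fun Z hZ => by
    obtain ⟨W, -, hW⟩ : Ad g (fa i Z) ∈ so.map (fa j).toLinearMap := heq ▸ ⟨Z, hZ, rfl⟩
    exact ⟨W, hW.symm⟩
  refine ⟨j, fun X => Φ.E1_top hk A (fun e θ he hθ => ?_) X⟩
  rcases eq_or_ne e 0 with rfl | he0
  · rw [show Φ.E1 0 θ = 1 by simp [E1, rk]]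
    exact A.one_mem
  obtain ⟨_, φ, -, -, hφ, hφφ⟩ := Φ.exists_orth_aniso hk he0 he
  have hφe := ((mem_pairPerp Φ.sform).1 hφ).1
  have hee : Φ.rk e e = (-(Φ.β φ φ)⁻¹) • (Φ.w1 φ e * Φ.w1 φ e) := by
    rw [w1, sub_mul, mul_sub, mul_sub, rk_mul_rk, rk_mul_rk, rk_mul_rk, rk_mul_rk, he, hφe,
      Φ.sform.symm0 hφe]
    simp [smul_smul, inv_mul_cancel₀ hφφ]
  rw [E1, hee]
  exact A.add_mem A.one_mem (A.sub_mem (hskew _ (Φ.adj1_w1 θ e))
    (A.smul_mem (A.smul_mem (A.mul_mem (hskew _ (Φ.adj1_w1 φ e)) (hskew _ (Φ.adj1_w1 φ e))) _) _))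

end OForm

end CfsgLib.MaxSub.TensorPowOrth
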