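import Cfsg.Agent.Lib.MaxSub.TensorPowOrth.Zs

/-!
Elements trivial on the perpendicular of an isotropic slice exist only for two factors, and then give
elements of rank two.
-/

set_option autoImplicit false
set_option maxHeartbeats 800000
set_option linter.unusedSectionVars false

namespace CfsgLib.MaxSub.TensorPowOrth

open Matrix Module
open CfsgLib.Aschbacher CfsgLib.MaxSub.TensorPow
open CfsgLib.MaxSub.TensorOO (exists_pair split_pair singular_span pairPerp mem_pairPerp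
  exists_aniso_pairPerp eich_isom)

variable {F : Type*} [Field F] {k t : ℕ}

local notation "Vk" => Fin k → F
local notation "Mm" => Matrix (Fin k) (Fin k) F
local notation "MT" => Matrix (Fin t → Fin k) (Fin t → Fin k) F

namespace OForm

variable {Φ : OForm F k} {c₀ : F} {G : Subgroup (GL (Fin t → Fin k) F)}

theorem TT.zero (l i : Fin t) : Φ.TT G l i (0 : MT) :=
  ⟨cm_zero, cm_zero, Φ.adj_zero, fun f _ _ _ _ _ => by rw [mul_zero]; exact zs_zero l f⟩

theorem TT.add {l i : Fin t} {M M' : MT} (h : Φ.TT G l i M) (h' : Φ.TT G l i M') :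
    Φ.TT G l i (M + M') :=
  ⟨h.1.add h'.1, h.2.1.add h'.2.1, by rw [adj_add, h.2.2.1, h'.2.2.1], fun f e θ hf he hθ => by
    rw [mul_add]; exact (h.2.2.2 f e θ hf he hθ).add hf (h'.2.2.2 f e θ hf he hθ)⟩

/-- Conjugation keeps the operators commuting with the other factors. -/
theorem cmGrp_conj {D : Finset (Fin t)} {ε : F} {j : Fin t} (hj : j ∉ D) (M : Mm) {Y : MT}
    (hY : Y ∈ Φ.cmGrp D ε) : fa j M * Y * fa j (Φ.adj1 M) ∈ Φ.cmGrp D ε := by
  refine ⟨fun p hp => ?_, by rw [adj_conj, hY.2, Matrix.mul_smul, Matrix.smul_mul]⟩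
  have hne : j ≠ p := fun h => hj (h ▸ hp)
  exact ((cm_fa hne _).mul (hY.1 p hp)).mul (cm_fa hne _)

variable (O : Φ.Ov c₀ G) [Finite F]
include O

/-- An invariant set with a non-zero member has two members with non-zero anticommutator. -/
theorem Ov.exists_anti {D : Finset (Fin t)} {ε : F} {S : Set MT}
    (hS : S ⊆ Φ.cmGrp D ε) (hinv : ∀ j ∉ D, ∀ M, Φ.FacIn G j M → ∀ R ∈ S,
      fa j M * R * fa j (Φ.adj1 M) ∈ S) {R : MT} (hR : R ∈ S) (hR0 : R ≠ 0) :
    ∃ A ∈ S, ∃ B ∈ S, A * B + B * A ≠ 0 := by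
  by_contra hc
  push Not at hc
  refine hR0 (Φ.nilp_zero O.hk S (fun A hA B hB => eq_neg_of_add_eq_zero_left (hc A hA B hB))
    (fun l => ?_) hR)
  by_cases hl : l ∈ D
  · exact Or.inl fun R hR => (hS hR).1 l hl
  · refine Or.inr fun e θ he hθ R hR => ?_
    have := hinv l hl _ (O.facIn_E he hθ) R hR
    rwa [adj1_E1] at this

/-- Two elements of a pair give one of the swapped pair. -/
theorem Ov.tt_swap {l i : Fin t} (hli : i ≠ l) {M M' : MT} (h : Φ.TT G l i M) (h' : Φ.TT G l i M') :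
    Φ.TT G i l (M * M' + M' * M) := by
  obtain ⟨f, hf0, hf⟩ := Φ.sform.exists_iso (by rw [finrank_vk]; exact O.hk)
  obtain ⟨f', θ, -, -, hθ, hθθ⟩ := Φ.exists_orth_aniso O.hk hf0 hf
  have hθ1 := ((mem_pairPerp Φ.sform).1 hθ).1
  refine O.tt_of_pair hli hf0 hf hf0 hf hθ1 hθθ ?_ ?_ (h.2.2.2 f f θ hf hf hθ1)
    (h'.2.2.2 f f θ hf hf hθ1)
  · exact ⟨fun p hp => (Finset.mem_insert.1 hp).elim (fun e => e ▸ h.1)
      (fun hp => Finset.mem_singleton.1 hp ▸ h.2.1), by rw [one_smul]; exact h.2.2.1⟩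
  · exact ⟨fun p hp => (Finset.mem_insert.1 hp).elim (fun e => e ▸ h'.1)
      (fun hp => Finset.mem_singleton.1 hp ▸ h'.2.1), by rw [one_smul]; exact h'.2.2.1⟩

/-- A member supported at one singular point of a third factor gives one commuting with it. -/
theorem Ov.tt_point {l i m : Fin t} (hli : i ≠ l) (hml : m ≠ l) (hmi : m ≠ i) {f : Vk}
    (hf0 : f ≠ 0) (hf : Φ.β f f = 0) {R : MT} (hR : R ∈ Φ.cmGrp {l, i, m} 1) (hR0 : R ≠ 0)
    (h : Φ.TT G l i (Φ.P m f f * R)) : ∃ N, N ≠ 0 ∧ Cm m N ∧ Φ.TT G i l N := by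
  let S : Set MT := {R | R ∈ Φ.cmGrp {l, i, m} 1 ∧
    ∀ x, x ≠ 0 → Φ.β x x = 0 → Φ.TT G l i (Φ.P m x x * R)}
  have hmem : R ∈ S := ⟨hR, fun x hx0 hx => by
    obtain ⟨M, hM, s, hs, hMf⟩ := O.facIn_move (i := m) hf0 hf hx0 hx
    have h1 := ttGrp_conj (Φ := Φ) hli hml hmi hM _ h
    have h2 : Φ.TT G l i ((s ^ 2)⁻¹ • (fa m M * (Φ.P m f f * R) * fa m (Φ.adj1 M))) :=
      TT.smul h1 _
    rwa [conj_dec (hR.1 m (by simp)), conj_P, adj1_adj1, hMf, P_smul_left, P_smul_right, smul_smul,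
      ← pow_two, Matrix.smul_mul, smul_smul, inv_mul_cancel₀ (pow_ne_zero 2 hs), one_smul] at h2⟩
  have hinv : ∀ j ∉ ({l, i, m} : Finset (Fin t)), ∀ M, Φ.FacIn G j M → ∀ R ∈ S,
      fa j M * R * fa j (Φ.adj1 M) ∈ S := by
    intro j hj M hM R hR
    simp only [Finset.mem_insert, Finset.mem_singleton, not_or] at hj
    refine ⟨cmGrp_conj (by simp [hj]) M hR.1, fun x hx0 hx => ?_⟩
    have h9 : Φ.TT G l i (fa j M * (Φ.P m x x * R) * fa j (Φ.adj1 M)) :=
      ttGrp_conj (Φ := Φ) hli hj.1 hj.2.1 hM _ (hR.2 x hx0 hx)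
    rwa [← mul_assoc (fa j M), ← (Φ.cm_P (Ne.symm hj.2.2) x x M).eq, mul_assoc (Φ.P m x x),
      mul_assoc (Φ.P m x x)] at h9
  obtain ⟨A, hA, B, hB, hne⟩ := O.exists_anti (fun R hR => hR.1) hinv hmem hR0
  have hA' := hA.1.1
  have hB' := hB.1.1
  set N := A * B + B * A with hN
  have hNm : Cm m N := ((hA' m (by simp)).mul (hB' m (by simp))).add
    ((hB' m (by simp)).mul (hA' m (by simp)))
  refine ⟨N, hne, hNm, ?_⟩
  have hxz : ∀ x z, Φ.β x x = 0 → Φ.β z z = 0 → Φ.β x z ≠ 0 →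
      Φ.TT G i l ((Φ.P m x z + Φ.P m z x) * N) := by
    intro x z hx hz hb
    have hx0 : x ≠ 0 := fun h => hb (by rw [h, Φ.sform.zero_left])
    have hz0 : z ≠ 0 := fun h => hb (by rw [h, Φ.sform.zero_right])
    have hp : ∀ {C D : MT}, Cm m C → Cm m D →
        Φ.P m x x * C * (Φ.P m z z * D) + Φ.P m z z * D * (Φ.P m x x * C) =
          Φ.β x z • (Φ.P m x z * (C * D) + Φ.P m z x * (D * C)) := by
      intro C D hC hD
      rw [mul_assoc (Φ.P m x x) C, ← mul_assoc C, hC.P_comm, mul_assoc _ C D, P_mul',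
        mul_assoc (Φ.P m z z) D, ← mul_assoc D, hD.P_comm, mul_assoc _ D C, P_mul',
        Φ.beta_symm x z, smul_add]
    have h1 := TT.smul (TT.add (O.tt_swap hli (hA.2 x hx0 hx) (hB.2 z hz0 hz))
      (O.tt_swap hli (hB.2 x hx0 hx) (hA.2 z hz0 hz))) (Φ.β x z)⁻¹
    rw [hp (hA' m (by simp)) (hB' m (by simp)), hp (hB' m (by simp)) (hA' m (by simp)), ← smul_add,
      inv_smul_smul₀ hb] at h1
    convert h1 using 1
    rw [hN, add_mul, mul_add, mul_add]
    abel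
  let L : Vk → Submodule F Vk := fun x =>
    { carrier := {y | Φ.TT G i l ((Φ.P m x y + Φ.P m y x) * N)}
      zero_mem' := by
        show Φ.TT G i l _
        rw [P_zero_left, P_zero_right, add_zero, zero_mul]
        exact TT.zero i l
      add_mem' := fun {a b} ha hb => by
        show Φ.TT G i l _
        convert TT.add ha hb using 1
        rw [P_add_left, P_add_right, ← add_mul]
        congr 1
        abel
      smul_mem' := fun c a ha => by
        show Φ.TT G i l _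
        convert TT.smul ha c using 1
        rw [P_smul_left, P_smul_right, ← smul_add, Matrix.smul_mul] }
  have hL : ∀ x, x ≠ 0 → Φ.β x x = 0 → ∀ y, y ∈ L x := by
    intro x hx0 hx y
    obtain ⟨e', he', hee⟩ := exists_pair Φ.sform hx0 hx
    have hstep : ∀ θ, θ ∈ pairPerp Φ.sform x e' → e' + θ - (Φ.β θ θ / 2) • x ∈ L x := by
      intro θ hθ
      obtain ⟨g1, g2⟩ := (mem_pairPerp Φ.sform).1 hθ
      refine hxz x _ hx ?_ ?_
      · simp only [Φ.sform.add_left, Φ.sform.add_right, Φ.sform.sub_left, Φ.sform.sub_right,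
          Φ.sform.smul_left, Φ.sform.smul_right, hx, he', hee, g1, g2, Φ.sform.symm x e',
          Φ.sform.symm θ x, Φ.sform.symm θ e']
        have := Φ.two
        field_simp
        ring
      · rw [Φ.sform.sub_right, Φ.sform.add_right, Φ.sform.smul_right, hee, Φ.sform.symm0 g1, hx,
          mul_zero, add_zero, sub_zero]
        exact one_ne_zero
    have he'L : e' ∈ L x := by
      have := hstep 0 (zero_mem _)
      simpa [Φ.sform.zero_left] using this
    have hsum : ∀ θ ∈ pairPerp Φ.sform x e', Φ.β θ θ • x ∈ L x ∧ θ ∈ L x := by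
      intro θ hθ
      have h1 := hstep θ hθ
      have h2 := hstep (-θ) (neg_mem hθ)
      constructor
      · convert sub_mem (add_mem he'L he'L) (add_mem h1 h2) using 1
        rw [Φ.sform.neg_left, Φ.sform.neg_right, neg_neg]
        have := Φ.two
        match_scalars <;> field_simp <;> ring
      · convert (L x).smul_mem (2⁻¹ : F) (sub_mem h1 h2) using 1
        rw [Φ.sform.neg_left, Φ.sform.neg_right, neg_neg]
        have := Φ.two
        match_scalars <;> field_simp <;> ring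
    obtain ⟨a, ha, haa⟩ := exists_aniso_pairPerp Φ.sform (by rw [finrank_vk]; exact O.hk) hx he' hee
    have hxL : x ∈ L x := by
      have := (L x).smul_mem (Φ.β a a)⁻¹ (hsum a ha).1
      rwa [inv_smul_smul₀ haa] at this
    obtain ⟨p, q, l, hl, rfl⟩ := split_pair Φ.sform hx he' hee y
    exact add_mem (add_mem ((L x).smul_mem p hxL) ((L x).smul_mem q he'L)) (hsum l hl).2
  have hall : ∀ x y, y ∈ L x := by
    intro x y
    have hswap : ∀ a b, a ∈ L b → b ∈ L a := fun a b h => by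
      show Φ.TT G i l _
      rw [add_comm]
      exact h
    exact hswap _ _ (singular_span Φ.sform (by rw [finrank_vk]; exact O.hk) (L y)
      (fun z hz0 hz => hswap _ _ (hL z hz0 hz y)) x)
  classical
  have hsum : ∀ s : Finset (Fin k), Φ.TT G i l ((∑ r ∈ s,
      (Φ.P m (Pi.single r 1) (Φ.S⁻¹ *ᵥ Pi.single r 1) +
        Φ.P m (Φ.S⁻¹ *ᵥ Pi.single r 1) (Pi.single r 1))) * N) := by
    intro s
    induction s using Finset.induction_on with
    | empty => rw [Finset.sum_empty, zero_mul]; exact TT.zero i l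
    | @insert r s hr ih => rw [Finset.sum_insert hr, add_mul]; exact TT.add (hall _ _) ih
  have h1 : ∑ r : Fin k, Φ.P m (Pi.single r 1) (Φ.S⁻¹ *ᵥ Pi.single r 1) = (1 : MT) := by
    rw [← map_one (fa (F := F) (m := k) m)]
    simp only [P, ← map_sum]
    congr 1
    simp only [rk, Matrix.mulVec_mulVec, Matrix.mul_nonsing_inv _ Φ.det, Matrix.one_mulVec,
      ← single_eq_single_vecMulVec_single]
    exact Matrix.sum_single_eq_diagonal 1 |>.trans Matrix.diagonal_one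
  have h2 : ∑ r : Fin k, Φ.P m (Φ.S⁻¹ *ᵥ Pi.single r 1) (Pi.single r 1) = (1 : MT) := by
    have := congrArg Φ.adj h1
    rw [adj_sum, adj_one] at this
    simpa only [adj_P] using this
  have h3 := TT.smul (hsum Finset.univ) (2⁻¹ : F)
  rw [Finset.sum_add_distrib, h1, h2, add_mul, one_mul, ← two_smul F, smul_smul,
    inv_mul_cancel₀ Φ.two, one_smul] at h3
  exact h3

/-- A member gives one of a pair commuting with a third factor. -/
theorem Ov.tt_split {l i m : Fin t} (hli : i ≠ l) (hml : m ≠ l) (hmi : m ≠ i) {Y : MT}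
    (hY : Φ.TT G l i Y) (hY0 : Y ≠ 0) :
    ∃ N, N ≠ 0 ∧ Cm m N ∧ (Φ.TT G l i N ∨ Φ.TT G i l N) := by
  by_cases hcm : Cm m Y
  · exact ⟨Y, hY0, hcm, Or.inl hY⟩
  let 𝒳 := ttGrp (Φ := Φ) G l i hli
  have hI : Φ.InvSet c₀ m 𝒳 := O.conj_mem fun M hM => ttGrp_conj hli hml hmi hM
  have hcomp : ∀ x y, ∀ p ∈ ({l, i, m} : Finset (Fin t)), Cm p (Φ.comp m x y Y) := by
    intro x y p hp
    simp only [Finset.mem_insert, Finset.mem_singleton] at hp
    rcases hp with rfl | rfl | rfl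
    · exact Cm.sum _ _ fun r _ => ((cm_fa hml _).mul hY.1).mul (cm_fa hml _)
    · exact Cm.sum _ _ fun r _ => ((cm_fa hmi _).mul hY.2.1).mul (cm_fa hmi _)
    · exact Φ.cm_comp _ _ _ _
  by_cases hsing : ∀ f, f ≠ 0 → Φ.β f f = 0 → Φ.comp m f f Y = 0
  swap
  · push Not at hsing
    obtain ⟨f, hf0, hf, hne⟩ := hsing
    obtain ⟨c, hc, hmem⟩ := hI.split_sandwich O.hk O.hq hf (show Y ∈ 𝒳 from hY)
    have h1 : Φ.TT G l i (c⁻¹ • (c • (Φ.P m f f * Y * Φ.P m f f))) := TT.smul hmem _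
    rw [inv_smul_smul₀ hc, PXP] at h1
    obtain ⟨N, hN0, hNm, hN⟩ := O.tt_point hli hml hmi hf0 hf
      (R := Φ.comp m f f Y) ⟨hcomp f f, by rw [adj_comp, hY.2.2.1, one_smul]⟩ hne h1
    exact ⟨N, hN0, hNm, Or.inr hN⟩
  obtain ⟨f, θ, x, c, hf0, hf, hθf, hθθ, -, hc, hR, hswap, hmem⟩ :=
    hI.split_skew O.hk O.hq O.c₀_ne O.minus (fun _ ht => absurd ht (by omega)) (show Y ∈ 𝒳 from hY) hsing hcm
  let S : Set MT := {R | R ∈ Φ.cmGrp {l, i, m} (-1) ∧ Φ.TT G l i (Φ.W m θ f * R)}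
  have hseed : c • Φ.comp m f x Y ∈ S := by
    refine ⟨⟨fun p hp => (hcomp f x p hp).smul _, ?_⟩, hmem⟩
    rw [adj_smul, adj_comp, hY.2.2.1, hswap, neg_one_smul, smul_neg]
  have hinv : ∀ j ∉ ({l, i, m} : Finset (Fin t)), ∀ M, Φ.FacIn G j M → ∀ R ∈ S,
      fa j M * R * fa j (Φ.adj1 M) ∈ S := by
    intro j hj M hM R hR
    simp only [Finset.mem_insert, Finset.mem_singleton, not_or] at hj
    refine ⟨cmGrp_conj (by simp [hj]) M hR.1, ?_⟩
    have h9 : Φ.TT G l i (fa j M * (Φ.W m θ f * R) * fa j (Φ.adj1 M)) :=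
      ttGrp_conj (Φ := Φ) hli hj.1 hj.2.1 hM _ hR.2
    rwa [← mul_assoc (fa j M), ← (Φ.cm_W (Ne.symm hj.2.2) θ f M).eq, mul_assoc (Φ.W m θ f),
      mul_assoc (Φ.W m θ f)] at h9
  obtain ⟨A, hA, B, hB, hne⟩ := O.exists_anti (fun R hR => hR.1) hinv hseed
    (fun h => hR ((smul_eq_zero.1 h).resolve_left hc))
  have hA' := hA.1.1
  have hB' := hB.1.1
  set N := A * B + B * A with hN
  have hNc : N ∈ Φ.cmGrp {l, i, m} 1 :=
    ⟨fun p hp => ((hA' p hp).mul (hB' p hp)).add ((hB' p hp).mul (hA' p hp)), by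
      rw [hN, one_smul, adj_add, adj_mul, adj_mul, hA.1.2, hB.1.2, neg_one_smul, neg_one_smul,
        neg_mul_neg, neg_mul_neg, add_comm]⟩
  have h1 := TT.smul (O.tt_swap hli hA.2 hB.2) (-Φ.β θ θ)⁻¹
  have hW : ∀ {C D : MT}, Cm m C →
      Φ.W m θ f * C * (Φ.W m θ f * D) = (-Φ.β θ θ) • (Φ.P m f f * (C * D)) := fun {C D} hC => by
    rw [mul_assoc, ← mul_assoc C, show C * Φ.W m θ f = Φ.W m θ f * C by
      simp only [W, mul_sub, sub_mul, hC.P_comm], mul_assoc _ C D, ← mul_assoc, Φ.W_sq hf hθf,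
      Matrix.smul_mul]
  rw [hW (hA' m (by simp)), hW (hB' m (by simp)), ← smul_add,
    inv_smul_smul₀ (neg_ne_zero.2 hθθ), ← mul_add, ← hN] at h1
  obtain ⟨N', hN'0, hN'm, hN'⟩ := O.tt_point (l := i) (i := l) (Ne.symm hli) hmi hml hf0 hf
    (R := N) ⟨fun p hp => hNc.1 p (by
      simp only [Finset.mem_insert, Finset.mem_singleton] at hp ⊢
      rcases hp with hp | hp | hp
      · exact Or.inr (Or.inl hp)
      · exact Or.inl hp
      · exact Or.inr (Or.inr hp)), hNc.2⟩ hne h1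
  exact ⟨N', hN'0, hN'm, Or.inl hN'⟩

/-- Non-trivial elements trivial on the perpendicular of a slice need two factors. -/
theorem Ov.zs_step (ht : 2 ≤ t) (hnorm : ∀ g ∈ G, ∀ i, Maps g i i → IsWr g) {i : Fin t} {e : Vk}
    (he0 : e ≠ 0) (he : Φ.β e e = 0) {T : MT} (hz : Φ.ZS G i e T) (hT : T ≠ 0) :
    t = 2 ∧ ∃ a b : Fin t, a ≠ b ∧ Φ.TT G a b 1 := by
  obtain ⟨l, θ, f, R, hl, hf0, hf, hθ, hθθ, hR0, hR, hmem⟩ :=
    O.exists_dec (Finset.univ \ ({i} : Finset (Fin t))).card {i}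
      (zsGrp (Φ := Φ) (G := G) he i ⊓ Φ.cmGrp {i} (-1)) (Finset.mem_singleton_self i) le_rfl (fun Y hY => hY.2)
      (fun m hm M hM Y hY => ⟨ZS.conj (fun h => hm (by simp [h])) hY.1 hM,
        cmGrp_conj hm M hY.2⟩) T
      ⟨hz, fun p hp => Finset.mem_singleton.1 hp ▸ hz.1, by rw [neg_one_smul]; exact hz.2.1⟩ hT
  have hil : l ≠ i := fun h => hl (by simp [h])
  let S : Set MT := {A | A ∈ Φ.cmGrp {i, l} 1 ∧ Φ.ZS G i e (Φ.W l θ f * A)}
  have hinv : ∀ j ∉ ({i, l} : Finset (Fin t)), ∀ M, Φ.FacIn G j M → ∀ A ∈ S,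
      fa j M * A * fa j (Φ.adj1 M) ∈ S := by
    intro j hj M hM A hA
    simp only [Finset.mem_insert, Finset.mem_singleton, not_or] at hj
    refine ⟨cmGrp_conj (by simp [hj]) M hA.1, ?_⟩
    have h9 := hA.2.conj hj.1 hM
    rwa [← mul_assoc (fa j M), ← (Φ.cm_W (Ne.symm hj.2) θ f M).eq, mul_assoc (Φ.W l θ f),
      mul_assoc (Φ.W l θ f)] at h9
  have hseed : R ∈ S := ⟨⟨fun p hp => hR.1 p (by
    simp only [Finset.mem_insert, Finset.mem_singleton] at hp ⊢
    exact hp.symm), hR.2⟩, hmem.1⟩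
  obtain ⟨A, hA, B, hB, hne⟩ := O.exists_anti (fun A hA => hA.1) hinv hseed hR0
  have hTT := O.tt_of_pair hil he0 he hf0 hf hθ hθθ hA.1 hB.1 hA.2 hB.2
  set N := A * B + B * A
  by_cases ht2 : t = 2
  · refine ⟨ht2, l, i, hil, ?_⟩
    obtain ⟨c, hc⟩ := scalar_of_commute (M := N) fun p X => by
      have : p = l ∨ p = i := by
        subst ht2
        omega
      rcases this with rfl | rfl
      · exact hTT.1 X
      · exact hTT.2.1 X
    have hc0 : c ≠ 0 := fun h => hne (by rw [hc, h, zero_smul])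
    have h1 := TT.smul hTT c⁻¹
    rwa [hc, inv_smul_smul₀ hc0] at h1
  exfalso
  obtain ⟨m, hm⟩ : ∃ m, m ∉ ({l, i} : Finset (Fin t)) := by
    by_contra hc
    push Not at hc
    have h1 : (Finset.univ : Finset (Fin t)) ⊆ {l, i} := fun m _ => hc m
    have h2 := (Finset.card_le_card h1).trans Finset.card_le_two
    rw [Finset.card_univ, Fintype.card_fin] at h2
    omega
  simp only [Finset.mem_insert, Finset.mem_singleton, not_or] at hm
  obtain ⟨Q, hQ0, hQm, hQ⟩ := O.tt_split (Ne.symm hil) hm.1 hm.2 hTT hne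
  have finish : ∀ a b : Fin t, b ≠ a → m ≠ a → m ≠ b → Φ.TT G a b Q → False := by
    intro a b hba hma hmb hab
    obtain ⟨f, hf0, hf⟩ := Φ.sform.exists_iso (by rw [finrank_vk]; exact O.hk)
    obtain ⟨f', η, -, -, hη, hηη⟩ := Φ.exists_orth_aniso O.hk hf0 hf
    have hη1 := ((mem_pairPerp Φ.sform).1 hη).1
    obtain ⟨hc, ha, g, hg, hgv⟩ := hab.2.2.2 f f η hf hf hη1
    have hcm : Cm m ((g : MT)) := by
      rw [hgv]
      exact cm_one.add ((Φ.cm_P (Ne.symm hma) f f).mul ((Φ.cm_W (Ne.symm hmb) η f).mul hQm))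
    have hmap : Maps g m m := fun X => ⟨X, by
      rw [Ad_apply, (hcm X).eq, mul_assoc, Units.mul_inv, mul_one]⟩
    obtain ⟨U, σ, rfl⟩ := hnorm g hg m hmap
    haveI : NeZero k := ⟨by have := O.hk; omega⟩
    exact O.zs_not_maps hf0 hf hc ha (Φ.W_mul_cm_ne_zero hf0 hf hη1 hηη hab.2.1 hQ0) hgv
      (maps_wr U σ a)
  rcases hQ with h | h
  · exact finish l i (Ne.symm hil) hm.1 hm.2 h
  · exact finish i l hil hm.2 hm.1 h

end OForm

end CfsgLib.MaxSub.TensorPowOrth
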