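import Cfsg.Agent.Lib.MaxSub.TensorPowOrth.Rec
import Cfsg.Agent.Lib.MaxSub.TensorPowOrth.Isolate
import Cfsg.Agent.Lib.MaxSub.TensorPowOrth.Avg
import Cfsg.Agent.Lib.MaxSub.TensorPowOrth.SkewLie
import Cfsg.Agent.Lib.MaxSub.TensorPowOrth.ZsMain

/-!
An overgroup of the normal subgroup of the wreath group lies in it or contains all Eichler
transformations of the tensor power.
-/

set_option autoImplicit false
set_option linter.unusedSectionVars false
set_option linter.style.haveILetI false

namespace CfsgLib.MaxSub.TensorPowOrth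

open Matrix Module
open CfsgLib.Aschbacher CfsgLib.MaxSub.TensorPow

variable {F : Type*} [Field F] {k : ℕ}

namespace OForm

variable {Φ : OForm F k}

/-- The dichotomy for overgroups. -/
theorem Ov.concl [Finite F] {c₀ : F} {t : ℕ} {G : Subgroup (GL (Fin t → Fin k) F)}
    (O : Φ.Ov c₀ G) (ht : 2 ≤ t) : Φ.Concl G := by
  induction t using Nat.strong_induction_on with
  | _ t IH =>
    haveI : NeZero k := ⟨by have := O.hk; omega⟩
    have IH' : ∀ n, n + 1 = t → 2 ≤ n → ∀ G' : Subgroup (GL (Fin n → Fin k) F),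
        Φ.Ov c₀ G' → Φ.Concl G' := fun n hn hn2 _ O' => IH n (by omega) O' hn2
    by_cases hnorm : ∀ g ∈ G, ∀ i, Maps g i i → IsWr g
    · by_cases hz : Φ.NoZS G
      · left
        letI : Fintype F := Fintype.ofFinite F
        have hiso : Iso1 Φ G := fun g hg i e θ he0 he hθ hθθ u hu h1 h3 =>
          O.isolated ht hz hnorm IH' hg he0 he hθ hθθ hu h1 h3
        exact fun g hg => Φ.wr_of_skew O.hk (by omega) O.minus fun X hX => O.preserves hiso hg hX
      · right
        rw [NoZS] at hz
        push Not at hz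
        obtain ⟨i, e, T, he0, he, hzs, hT⟩ := hz
        obtain ⟨ht2, a, b, hab, hTT⟩ := O.zs_step ht hnorm he0 he hzs hT
        exact O.big_of_tt ht2 hab hTT
    · push Not at hnorm
      obtain ⟨g, hg, i, hi, hw⟩ := hnorm
      right
      obtain ⟨n, rfl⟩ := Nat.exists_eq_add_of_le' (show 1 ≤ t by omega)
      rcases Nat.lt_or_ge n 2 with hn | hn
      · exact absurd (isWr_of_maps_two (by have := O.hk; omega) (by omega) hi) hw
      · exact O.big_of_maps hn (IH' n rfl hn) hg hi hw

end OForm

end CfsgLib.MaxSub.TensorPowOrth
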