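import Cfsg.Agent.Lib.MaxSub.TensorPowOrth.Root

/-!
Eichler transformations of the whole tensor power, the two possible conclusions about an overgroup,
and the skew isotropic elements of a factor in the group.
-/

set_option autoImplicit false
set_option linter.unusedSectionVars false

namespace CfsgLib.MaxSub.TensorPowOrth

open Matrix Module
open CfsgLib.Aschbacher CfsgLib.MaxSub.TensorPow

variable {F : Type*} [Field F] {k t : ℕ}

local notation "Vk" => Fin k → F
local notation "VT" => (Fin t → Fin k) → F
local notation "MT" => Matrix (Fin t → Fin k) (Fin t → Fin k) F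

namespace OForm

variable (Φ : OForm F k)

/-- The form of the tensor power. -/
noncomputable def βT (x y : VT) : F := x ⬝ᵥ (Φ.ST t *ᵥ y)

/-- A rank one operator of the tensor power. -/
noncomputable def RT (x y : VT) : MT := vecMulVec x (Φ.ST t *ᵥ y)

/-- An Eichler transformation of the tensor power. -/
noncomputable def EV (u v : VT) : MT :=
  1 + (Φ.RT v u - Φ.RT u v - (Φ.βT v v / 2) • Φ.RT u u)

/-- The group contains all Eichler transformations of the tensor power. -/
def Big (G : Subgroup (GL (Fin t → Fin k) F)) : Prop :=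
  ∀ u v : VT, Φ.βT u u = 0 → Φ.βT v u = 0 → ∃ g ∈ G, (g : MT) = Φ.EV u v

/-- The possible conclusions about an overgroup. -/
def Concl (G : Subgroup (GL (Fin t → Fin k) F)) : Prop :=
  (∀ g ∈ G, IsWr g) ∨ Φ.Big G

/-- A similitude of the tensor power. -/
def Sim (g : GL (Fin t → Fin k) F) : Prop :=
  ∃ μ : F, μ ≠ 0 ∧ Φ.adj (g : MT) * (g : MT) = μ • 1

end OForm

end CfsgLib.MaxSub.TensorPowOrth
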