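import Cfsg.Agent.Lib.MaxSub.TensorPowOrth.Root

/-!
An orthogonal basis of a factor with one norm repeated, and operators diagonal in the product basis.
-/

set_option autoImplicit false
set_option maxHeartbeats 400000
set_option linter.unusedSectionVars false

namespace CfsgLib.MaxSub.TensorPowOrth

open Matrix Module
open CfsgLib.Aschbacher CfsgLib.MaxSub.TensorPow

variable {F : Type*} [Field F] {k t : ℕ}

local notation "Vk" => Fin k → F
local notation "Mm" => Matrix (Fin k) (Fin k) F
local notation "MT" => Matrix (Fin t → Fin k) (Fin t → Fin k) F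

namespace OForm

variable (Φ : OForm F k)

/-- An orthogonal basis, all but one of whose norms are the given one. -/
structure Diag (c₀ : F) (a : Fin k → Vk) (last : Fin k) : Prop where
  orth : ∀ r s, r ≠ s → Φ.β (a r) (a s) = 0
  ne : ∀ r, Φ.β (a r) (a r) ≠ 0
  norm : ∀ r, r ≠ last → Φ.β (a r) (a r) = c₀

theorem exists_orth_const [Finite F] {c₀ : F} (hc : c₀ ≠ 0) : ∀ j, j + 1 ≤ k →
    ∃ a : Fin j → Vk, (∀ r, Φ.β (a r) (a r) = c₀) ∧ ∀ r s, r ≠ s → Φ.β (a r) (a s) = 0
  | 0, _ => ⟨Fin.elim0, fun r => r.elim0, fun r => r.elim0⟩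
  | j + 1, hj => by
    obtain ⟨a, ha, horth⟩ := exists_orth_const hc j (by omega)
    obtain ⟨P, hP, hdim⟩ := Φ.sform.finrank_perp_le a
    have hnd : ∀ x ∈ P, (∀ y ∈ P, Φ.β x y = 0) → x = 0 := fun x hx h => Φ.sform.nondeg x fun y => by
      have hy : y - ∑ r, (Φ.β y (a r) / c₀) • a r ∈ P := (hP _).2 fun r => by
        rw [Φ.sform.sub_left, Φ.sform.sum_left, Finset.sum_eq_single r, Φ.sform.smul_left, ha r,
          div_mul_cancel₀ _ hc, sub_self]
        · intro s _ hs
          rw [Φ.sform.smul_left, horth s r hs, mul_zero]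
        · simp
      have h1 := h _ hy
      rw [Φ.sform.sub_right, Φ.sform.sum_right] at h1
      simpa [Φ.sform.smul_right, (hP x).1 hx] using h1
    have HR := Φ.sform.restrict hnd
    have hd : finrank F (Fin k → F) = k := Module.finrank_fin_fun F
    obtain ⟨z, hz⟩ := CfsgLib.MaxSub.Orth.exists_value HR.quad
      (CfsgLib.MaxSub.TensorOO.quad_polar_nondeg HR) (by omega) hc
    rw [HR.quad_apply] at hz
    have hz' := (hP z.1).1 z.2
    refine ⟨Fin.snoc a z.1, fun r => ?_, fun r s hrs => ?_⟩
    · induction r using Fin.lastCases with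
      | last => rw [Fin.snoc_last]; exact hz
      | cast r => rw [Fin.snoc_castSucc]; exact ha r
    · induction r using Fin.lastCases with
      | last =>
        induction s using Fin.lastCases with
        | last => exact absurd rfl hrs
        | cast s => rw [Fin.snoc_last, Fin.snoc_castSucc]; exact hz' s
      | cast r =>
        induction s using Fin.lastCases with
        | last => rw [Fin.snoc_last, Fin.snoc_castSucc]; exact Φ.sform.symm0 (hz' r)
        | cast s =>
          rw [Fin.snoc_castSucc, Fin.snoc_castSucc]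
          exact horth r s fun e => hrs (by rw [e])

theorem exists_diag [Finite F] (hk : 1 ≤ k) {c₀ : F} (hc : c₀ ≠ 0) :
    ∃ a last, Φ.Diag c₀ a last := by
  obtain ⟨j, rfl⟩ := Nat.exists_eq_add_of_le' hk
  obtain ⟨a, ha, horth⟩ := Φ.exists_orth_const hc j le_rfl
  obtain ⟨P, hP, hdim⟩ := Φ.sform.finrank_perp_le a
  rw [Module.finrank_fin_fun] at hdim
  obtain ⟨z, hz, hzz⟩ : ∃ z ∈ P, Φ.β z z ≠ 0 := by
    by_contra hcon
    push Not at hcon
    obtain ⟨x, hx, hx0⟩ := (Submodule.ne_bot_iff P).1 fun e => by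
      rw [e, finrank_bot] at hdim
      omega
    refine hx0 (Φ.sform.nondeg x fun y => ?_)
    have hy : y - ∑ r, (Φ.β y (a r) / c₀) • a r ∈ P := (hP _).2 fun r => by
      rw [Φ.sform.sub_left, Φ.sform.sum_left, Finset.sum_eq_single r, Φ.sform.smul_left, ha r,
        div_mul_cancel₀ _ hc, sub_self]
      · intro s _ hs
        rw [Φ.sform.smul_left, horth s r hs, mul_zero]
      · simp
    have h1 := Φ.sform.polar_zero hcon hx hy
    rw [Φ.sform.sub_right, Φ.sform.sum_right] at h1
    simpa [Φ.sform.smul_right, (hP x).1 hx] using h1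
  have hz' := (hP z).1 hz
  refine ⟨Fin.snoc a z, Fin.last j, ⟨fun r s hrs => ?_, fun r => ?_, fun r hr => ?_⟩⟩
  · induction r using Fin.lastCases with
    | last =>
      induction s using Fin.lastCases with
      | last => exact absurd rfl hrs
      | cast s => rw [Fin.snoc_last, Fin.snoc_castSucc]; exact hz' s
    | cast r =>
      induction s using Fin.lastCases with
      | last => rw [Fin.snoc_last, Fin.snoc_castSucc]; exact Φ.sform.symm0 (hz' r)
      | cast s =>
        rw [Fin.snoc_castSucc, Fin.snoc_castSucc]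
        exact horth r s fun e => hrs (by rw [e])
  · induction r using Fin.lastCases with
    | last => rw [Fin.snoc_last]; exact hzz
    | cast r => rw [Fin.snoc_castSucc, ha r]; exact hc
  · induction r using Fin.lastCases with
    | last => exact absurd rfl hr
    | cast r => rw [Fin.snoc_castSucc]; exact ha r

variable {Φ} {c₀ : F} {a : Fin k → Fin k → F} {last : Fin k}

theorem Diag.cls (D : Φ.Diag c₀ a last) {r : Fin k} (h : r ≠ last) : Φ.Cls c₀ (a r) :=
  ⟨D.ne r, Or.inr ⟨c₀, by rw [D.norm r h]⟩⟩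

theorem Diag.resolution (D : Φ.Diag c₀ a last) :
    ∑ r, (Φ.β (a r) (a r))⁻¹ • Φ.rk (a r) (a r) = (1 : Mm) := by
  have hli : LinearIndependent F a := Fintype.linearIndependent_iff.2 fun g hg r => by
    have h1 := congrArg (Φ.β (a r)) hg
    rw [Φ.sform.sum_right, Φ.sform.zero_right, Finset.sum_eq_single r, Φ.sform.smul_right] at h1
    · exact (mul_eq_zero.1 h1).resolve_right (D.ne r)
    · intro s _ hs
      rw [Φ.sform.smul_right, D.orth r s (Ne.symm hs), mul_zero]
    · simp
  classical
  let b := basisOfPiSpaceOfLinearIndependent hli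
  have hb : (b : Fin k → Fin k → F) = a := coe_basisOfPiSpaceOfLinearIndependent hli
  refine ext1 fun x => ?_
  rw [← b.sum_repr x, Matrix.mulVec_sum, Matrix.mulVec_sum]
  refine Finset.sum_congr rfl fun s _ => ?_
  rw [Matrix.mulVec_smul, Matrix.mulVec_smul, hb, Matrix.sum_mulVec,
    Finset.sum_eq_single s]
  · rw [Matrix.smul_mulVec, rk_mulVec, inv_smul_smul₀ (D.ne s), Matrix.one_mulVec]
  · intro r _ hr
    rw [Matrix.smul_mulVec, rk_mulVec, D.orth r s hr, zero_smul, smul_zero]
  · simp

/-- Commuting with the diagonal operators of a factor. -/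
def Dc (Φ : OForm F k) (a : Fin k → Vk) (X : MT) : Prop :=
  ∀ (l : Fin t) r, Commute X (Φ.P l (a r) (a r))

/-- An operator commuting with the half turns about the vectors of the repeated norm. -/
theorem Diag.dc_of_turn (D : Φ.Diag c₀ a last) {l : Fin t} {X : MT}
    (h : ∀ r, r ≠ last → Commute X (Φ.Tn l (a r))) (r : Fin k) :
    Commute X (Φ.P l (a r) (a r)) := by
  have hP : ∀ r, r ≠ last → Commute X (Φ.P l (a r) (a r)) := fun r hr => by
    have h1 := ((h r hr).add_right (Commute.one_right X)).smul_right (Φ.β (a r) (a r) / 2)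
    rw [Tn, T1, map_sub, map_one, sub_add_cancel, map_smul, smul_smul,
      div_mul_div_comm, mul_comm, div_self (mul_ne_zero Φ.two (D.ne r)), one_smul] at h1
    exact h1
  by_cases hr : r = last
  · have h1 := congrArg (fun Z => (fa l Z : MT)) D.resolution
    simp only [map_sum, map_smul, map_one] at h1
    rw [← Finset.add_sum_erase _ _ (Finset.mem_univ last)] at h1
    have h2 : Commute X ((Φ.β (a last) (a last))⁻¹ • Φ.P l (a last) (a last)) := by
      rw [P, eq_sub_of_add_eq h1]
      exact (Commute.one_right X).sub_right (Commute.sum_right _ _ _ fun s hs =>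
        (hP s (Finset.ne_of_mem_erase hs)).smul_right _)
    have h3 := h2.smul_right (Φ.β (a last) (a last))
    rwa [smul_inv_smul₀ (D.ne last), ← hr] at h3
  · exact hP r hr

/-- A diagonal operator is symmetric. -/
theorem Diag.sym_of_dc (D : Φ.Diag c₀ a last) : ∀ (n : ℕ) (S : Finset (Fin t)) (X : MT),
    S.card + n = t → (∀ l ∈ S, Cm l X) → Φ.Dc a X → Φ.adj X = X
  | 0, S, X, hS, hc, _ => by
    have hSu : S = Finset.univ := Finset.card_eq_iff_eq_univ S |>.1 (by simpa using hS)
    obtain ⟨c, rfl⟩ := scalar_of_commute fun l Y => hc l (by rw [hSu]; exact Finset.mem_univ l) Y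
    rw [adj_smul, adj_one]
  | n + 1, S, X, hS, hc, hd => by
    obtain ⟨m, hm⟩ : ∃ m, m ∉ S := by
      by_contra hcon
      push Not at hcon
      rw [Finset.eq_univ_of_forall hcon, Finset.card_univ, Fintype.card_fin] at hS
      omega
    set C : Fin k → MT := fun r => Φ.comp m (a r) (a r) X with hC
    have hX : X = ∑ r, ((Φ.β (a r) (a r))⁻¹ * (Φ.β (a r) (a r))⁻¹) •
        (Φ.P m (a r) (a r) * C r) := by
      have h1 := congrArg (fun Z => (fa m Z : MT)) D.resolution
      simp only [map_sum, map_smul, map_one] at h1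
      conv_lhs => rw [← mul_one X, ← h1, Finset.mul_sum]
      refine Finset.sum_congr rfl fun r _ => ?_
      rw [hC]
      show X * ((Φ.β (a r) (a r))⁻¹ • Φ.P m (a r) (a r)) = _
      rw [← PXP, ← (hd m r).eq, mul_assoc X, P_mul, Matrix.mul_smul, Matrix.mul_smul, smul_smul,
        mul_assoc, inv_mul_cancel₀ (D.ne r), mul_one]
    have hCd : ∀ r, Φ.Dc a (C r) := fun r l s => by
      by_cases hl : l = m
      · rw [hl]; exact Φ.cm_comp m _ _ X _
      · show _ * _ = _ * _
        rw [hC, ← Φ.comp_mul_cm (Φ.cm_P hl _ _), ← Φ.cm_mul_comp (Φ.cm_P hl _ _), (hd l s).eq]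
    have hCm : ∀ r, ∀ l ∈ insert m S, Cm l (C r) := fun r l hl A => by
      rcases Finset.mem_insert.1 hl with rfl | hl
      · exact Φ.cm_comp _ _ _ X A
      · have hlm : l ≠ m := fun e => hm (e ▸ hl)
        show _ * _ = _ * _
        rw [hC, ← Φ.comp_mul_cm (cm_fa hlm _), ← Φ.cm_mul_comp (cm_fa hlm _), (hc l hl A).eq]
    have hsym : ∀ r, Φ.adj (C r) = C r := fun r =>
      D.sym_of_dc n (insert m S) _ (by rw [Finset.card_insert_of_notMem hm]; omega) (hCm r) (hCd r)
    conv_lhs => rw [hX]
    conv_rhs => rw [hX]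
    rw [adj_sum]
    refine Finset.sum_congr rfl fun r _ => ?_
    rw [adj_smul, adj_mul, adj_P, hsym r,
      Cm.P_comm Φ (show Cm m (C r) from Φ.cm_comp _ _ _ _)]

end OForm

end CfsgLib.MaxSub.TensorPowOrth
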