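import Cfsg.Agent.Lib.MaxSub.TensorPowOrth.Defs
import Cfsg.Agent.Lib.MaxSub.TensorPow.Moving

/-!
The operators of the tensor power of the other factors, acting on a tensor power.
-/

set_option autoImplicit false
set_option maxHeartbeats 400000
set_option linter.unusedSectionVars false

namespace CfsgLib.MaxSub.TensorPowOrth

open Matrix Module
open CfsgLib.Aschbacher CfsgLib.MaxSub.TensorPow

variable {F : Type*} [Field F] {k n : ℕ}

local notation "Mm" => Matrix (Fin k) (Fin k) F
local notation "MS" => Matrix (Fin n → Fin k) (Fin n → Fin k) F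
local notation "MT" => Matrix (Fin (n + 1) → Fin k) (Fin (n + 1) → Fin k) F

/-- The indices, split at a factor. -/
def splitAt (i : Fin (n + 1)) : (Fin k × (Fin n → Fin k)) ≃ (Fin (n + 1) → Fin k) :=
  Fin.insertNthEquiv (fun _ => Fin k) i

theorem splitAt_apply (i : Fin (n + 1)) (a : Fin k) (u : Fin n → Fin k) :
    splitAt i (a, u) = i.insertNth a u := rfl

/-- The entries of an extended operator. -/
def extFun (i : Fin (n + 1)) (X : MS) : MT :=
  Matrix.of fun x y => if x i = y i then X (i.removeNth x) (i.removeNth y) else 0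

/-- An operator of the other factors, on all factors. -/
def ext (i : Fin (n + 1)) : MS →ₐ[F] MT where
  toFun := extFun i
  map_mul' X Y := by
    ext x y
    rw [Matrix.mul_apply, ← (splitAt i).sum_comp, Fintype.sum_prod_type,
      Finset.sum_eq_single (x i)]
    · simp only [extFun, Matrix.of_apply, splitAt_apply, Fin.insertNth_apply_same,
        Fin.removeNth_insertNth, if_pos, Matrix.mul_apply]
      split_ifs with h <;> simp
    · intro a _ ha
      refine Finset.sum_eq_zero fun u _ => ?_
      simp [extFun, splitAt_apply, Ne.symm ha]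
    · simp
  map_one' := by
    ext x y
    simp only [extFun, Matrix.of_apply, Matrix.one_apply]
    by_cases h : x = y
    · subst h; simp
    · rw [if_neg h]
      split_ifs with h1 h2 <;> [skip; rfl; rfl]
      exact absurd (by rw [← Fin.insertNth_self_removeNth i x, ← Fin.insertNth_self_removeNth i y, h1, h2]) h
  map_add' X Y := by
    ext x y
    simp only [extFun, Matrix.of_apply, Matrix.add_apply]
    split_ifs <;> simp
  map_zero' := by
    ext x y
    simp [extFun]
  commutes' c := by
    ext x y
    simp only [extFun, Matrix.of_apply, Algebra.algebraMap_eq_smul_one, Matrix.smul_apply,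
      Matrix.one_apply, smul_eq_mul, mul_ite, mul_one, mul_zero]
    by_cases h : x = y
    · subst h; simp
    · rw [if_neg h]
      split_ifs with h1 h2 <;> [skip; rfl; rfl]
      exact absurd (by rw [← Fin.insertNth_self_removeNth i x, ← Fin.insertNth_self_removeNth i y, h1, h2]) h

theorem ext_apply (i : Fin (n + 1)) (X : MS) (x y : Fin (n + 1) → Fin k) :
    ext i X x y = if x i = y i then X (i.removeNth x) (i.removeNth y) else 0 := rfl

theorem ext_injective [NeZero k] (i : Fin (n + 1)) : Function.Injective (ext (F := F) (k := k) i) := by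
  intro X Y h
  funext u v
  have h1 := congrFun (congrFun h (i.insertNth 0 u)) (i.insertNth 0 v)
  simpa [ext_apply] using h1

theorem ext_pureMat (i : Fin (n + 1)) (A : Fin n → Mm) :
    ext i (pureMat A) = (pureMat (i.insertNth 1 A) : MT) := by
  ext x y
  rw [ext_apply, pureMat_apply, pureMat_apply, Fin.prod_univ_succAbove _ i, Fin.insertNth_apply_same,
    Matrix.one_apply]
  simp only [Fin.insertNth_apply_succAbove, Fin.removeNth_apply]
  split_ifs <;> simp

theorem ext_fa (i : Fin (n + 1)) (l : Fin n) (A : Mm) : ext i (fa l A) = (fa (i.succAbove l) A : MT) := by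
  rw [fa_eq, ext_pureMat, fa_eq]
  congr 1
  funext j
  induction j using Fin.succAboveCases i with
  | x => simp [Fin.ne_succAbove i l]
  | p j =>
    rw [Fin.insertNth_apply_succAbove]
    by_cases h : j = l
    · subst h; simp
    · simp [h, (Fin.succAbove_right_injective (p := i)).ne h]

theorem cm_ext (i : Fin (n + 1)) (X : MS) : OForm.Cm i (ext i X : MT) := fun A => by
  ext x y
  rw [Matrix.mul_apply, Matrix.mul_apply, Finset.sum_eq_single (i.insertNth (x i) (i.removeNth y)),
    Finset.sum_eq_single (i.insertNth (y i) (i.removeNth x))]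
  · simp only [ext_apply, fa_apply, Fin.insertNth_apply_same, Fin.removeNth_insertNth, if_pos]
    rw [if_pos, if_pos, mul_comm]
    · intro j hj
      obtain ⟨j, rfl⟩ := Fin.exists_succAbove_eq hj
      simp [Fin.removeNth_apply]
    · intro j hj
      obtain ⟨j, rfl⟩ := Fin.exists_succAbove_eq hj
      simp [Fin.removeNth_apply]
  · intro z _ hz
    simp only [ext_apply, fa_apply]
    split_ifs with h1 h2 <;> (try simp only [mul_zero, zero_mul])
    refine absurd ?_ hz
    rw [← Fin.insertNth_self_removeNth i z, h2]
    congr 1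
    funext j
    exact (h1 _ (Fin.succAbove_ne i j)).symm
  · simp
  · intro z _ hz
    simp only [ext_apply, fa_apply]
    split_ifs with h1 h2 <;> (try simp only [mul_zero, zero_mul])
    refine absurd ?_ hz
    rw [← Fin.insertNth_self_removeNth i z, h1]
    congr 1
    funext j
    exact h2 _ (Fin.succAbove_ne i j)
  · simp

/-- An operator commuting with a factor comes from the others. -/
theorem exists_ext [NeZero k] {i : Fin (n + 1)} {X : MT} (h : OForm.Cm i X) :
    ∃ Y, X = ext i Y := by
  refine ⟨Matrix.of fun u v => X (i.insertNth 0 u) (i.insertNth 0 v), ?_⟩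
  ext x y
  rw [ext_apply, Matrix.of_apply]
  have h1 := congrFun (congrFun (h (Matrix.single (x i) (0 : Fin k) 1)).eq x) (Function.update y i 0)
  rw [fs_left, fs_right, Function.update_self, if_pos rfl, if_pos rfl, Function.update_idem] at h1
  simp only [← Fin.insertNth_removeNth] at h1
  by_cases hxy : x i = y i
  · rw [if_pos hxy, ← h1, hxy, Fin.insertNth_self_removeNth]
  · rw [if_neg hxy]
    have h2 := congrFun (congrFun (h (Matrix.single (x i) (x i) 1)).eq x) y
    rw [fs_left, fs_right, if_pos rfl, if_neg (Ne.symm hxy), Function.update_eq_self] at h2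
    exact h2.symm

/-- A permutation of the other factors, fixing the given one. -/
def extPerm (i : Fin (n + 1)) (σ : Equiv.Perm (Fin n)) : Equiv.Perm (Fin (n + 1)) :=
  σ.extendDomain (finSuccAboveEquiv i)

theorem extPerm_succAbove (i : Fin (n + 1)) (σ : Equiv.Perm (Fin n)) (l : Fin n) :
    extPerm i σ (i.succAbove l) = i.succAbove (σ l) :=
  σ.extendDomain_apply_image (finSuccAboveEquiv i) l

theorem extPerm_self (i : Fin (n + 1)) (σ : Equiv.Perm (Fin n)) : extPerm i σ i = i :=
  σ.extendDomain_apply_not_subtype (finSuccAboveEquiv i) (by simp)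

theorem sign_extPerm (i : Fin (n + 1)) (σ : Equiv.Perm (Fin n)) :
    Equiv.Perm.sign (extPerm i σ) = Equiv.Perm.sign σ :=
  Equiv.Perm.sign_extendDomain σ _

theorem ext_permMat (i : Fin (n + 1)) (σ : Equiv.Perm (Fin n)) :
    ext i (permMat k F σ) = permMat k F (extPerm i σ) := by
  ext x y
  simp only [ext_apply, permMat, Matrix.of_apply]
  by_cases h : y = x ∘ extPerm i σ
  · have h1 : x i = y i := by rw [h, Function.comp_apply, extPerm_self]
    rw [if_pos h, if_pos h1, if_pos]
    funext l
    simp [Fin.removeNth_apply, h, extPerm_succAbove]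
  · rw [if_neg h]
    split_ifs with h1 h2 <;> [skip; rfl; rfl]
    refine absurd (funext fun j => ?_) h
    induction j using Fin.succAboveCases i with
    | x => simp [extPerm_self, h1]
    | p j =>
      have := congrFun h2 j
      simpa [Fin.removeNth_apply, extPerm_succAbove] using this

/-- The units of the other factors, on all factors. -/
noncomputable def extGL (i : Fin (n + 1)) :
    GL (Fin n → Fin k) F →* GL (Fin (n + 1) → Fin k) F :=
  Units.map (ext i).toRingHom.toMonoidHom

theorem extGL_val (i : Fin (n + 1)) (g : GL (Fin n → Fin k) F) :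
    ((extGL i g : GL (Fin (n + 1) → Fin k) F) : MT) = ext i (g : MS) := rfl

theorem isWr_extGL (i : Fin (n + 1)) {g : GL (Fin n → Fin k) F} (hg : IsWr g) : IsWr (extGL i g) := by
  obtain ⟨A, σ, rfl⟩ := hg
  refine ⟨i.insertNth 1 A, extPerm i σ, Units.ext ?_⟩
  rw [extGL_val, Units.val_mul, map_mul, Units.val_mul]
  show ext i (pureMat fun j => (A j : Mm)) * ext i (permMat k F σ) =
    pureMat (fun j => ((i.insertNth 1 A : Fin (n + 1) → GL (Fin k) F) j : Mm)) * permMat k F (extPerm i σ)
  rw [ext_pureMat, ext_permMat]
  congr 2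
  funext j
  induction j using Fin.succAboveCases i with
  | x => simp
  | p j => simp

namespace OForm

variable (Φ : OForm F k)

theorem ST_succ (i : Fin (n + 1)) : Φ.ST (n + 1) = (fa i Φ.S * ext i (Φ.ST n) : MT) := by
  rw [ST, ST, ext_pureMat, fa_eq, pureMat_mul]
  congr 1
  funext j
  induction j using Fin.succAboveCases i with
  | x => simp
  | p j => simp [Fin.succAbove_ne i j]

theorem STi_succ (i : Fin (n + 1)) : Φ.STi (n + 1) = (ext i (Φ.STi n) * fa i Φ.S⁻¹ : MT) := by
  rw [STi, STi, ext_pureMat, fa_eq, pureMat_mul]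
  congr 1
  funext j
  induction j using Fin.succAboveCases i with
  | x => simp
  | p j => simp [Fin.succAbove_ne i j]

theorem adj_ext (i : Fin (n + 1)) (X : MS) : Φ.adj (ext i X : MT) = ext i (Φ.adj X) := by
  have hT : (ext i X : MT)ᵀ = ext i Xᵀ := by
    ext x y
    rw [Matrix.transpose_apply, ext_apply, ext_apply, Matrix.transpose_apply]
    exact if_congr eq_comm rfl rfl
  rw [adj, adj, Φ.ST_succ i, Φ.STi_succ i, hT, map_mul, map_mul]
  simp only [mul_assoc]
  rw [← mul_assoc (ext i Xᵀ) (fa i Φ.S), (cm_ext i Xᵀ Φ.S).eq, mul_assoc (fa i Φ.S),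
    ← mul_assoc (fa i Φ.S⁻¹), ← map_mul, Matrix.nonsing_inv_mul _ Φ.det, map_one, one_mul]

theorem iso_extGL [NeZero k] (i : Fin (n + 1)) (g : GL (Fin n → Fin k) F) :
    Φ.Iso (extGL i g) ↔ Φ.Iso g := by
  rw [Iso, Iso, extGL_val, adj_ext, ← map_mul]
  exact ⟨fun h => ext_injective i (by rw [h, map_one]), fun h => by rw [h, map_one]⟩

end OForm

end CfsgLib.MaxSub.TensorPowOrth
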