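import Cfsg.Agent.Lib.MaxSub.TensorPowOrth.Shell

/-!
The group of isometries trivial on the flag of an isotropic slice.
-/

set_option autoImplicit false
set_option maxHeartbeats 800000
set_option linter.unusedSectionVars false

namespace CfsgLib.MaxSub.TensorPowOrth

open Matrix Module
open CfsgLib.Aschbacher CfsgLib.MaxSub.TensorPow
open CfsgLib.MaxSub.TensorOO (exists_pair split_pair pairPerp mem_pairPerp proj_pairPerp eich_apply
  eich_fix)

variable {F : Type*} [Field F] {k t : ℕ}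

local notation "Vk" => Fin k → F
local notation "Mm" => Matrix (Fin k) (Fin k) F
local notation "MT" => Matrix (Fin t → Fin k) (Fin t → Fin k) F

namespace OForm

variable (Φ : OForm F k)

/-- The Levi component is linear. -/
noncomputable def GaL (i : Fin t) (e' : Vk) (h : GL (Fin t → Fin k) F) : Vk →ₗ[F] MT where
  toFun x := Φ.Ga i e' x h
  map_add' _ _ := Φ.comp_add_right _ _ _ _ _
  map_smul' _ _ := Φ.comp_smul_right _ _ _ _ _

theorem GaL_apply (i : Fin t) (e' x : Vk) (h : GL (Fin t → Fin k) F) :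
    Φ.GaL i e' h x = Φ.Ga i e' x h := rfl

variable {Φ} {i : Fin t} {e e' : Fin k → F} {h h' : GL (Fin t → Fin k) F}

theorem DT.one : Φ.DT i e (1 : GL (Fin t → Fin k) F) := by
  refine ⟨?_, by rw [Units.val_one, one_mul], fun x z _ _ => ?_⟩
  · show Φ.adj ((1 : GL (Fin t → Fin k) F) : MT) * _ = 1
    rw [Units.val_one, adj_one, one_mul]
  · rw [Units.val_one, Φ.comp_cm cm_one]

theorem DT.P_mul (hD : Φ.DT i e h) : Φ.P i e e * (h : MT) = Φ.P i e e := by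
  have e1 := congrArg Φ.adj hD.2.1
  rw [adj_mul, adj_P] at e1
  conv_lhs => rw [← e1, mul_assoc, hD.1, mul_one]

theorem DT.inv (hD : Φ.DT i e h) : Φ.DT i e h⁻¹ := by
  refine ⟨hD.1.inv, ?_, fun x z hx hz => ?_⟩
  · rw [← hD.1.adj_eq]
    have := congrArg Φ.adj hD.P_mul
    rwa [adj_mul, adj_P] at this
  · rw [← hD.1.adj_eq]
    have := congrArg Φ.adj (hD.2.2 z x hz hx)
    rwa [adj_comp, adj_smul, adj_one, Φ.beta_symm z x] at this

theorem dt_E {u : GL (Fin t → Fin k) F} {θ : Vk} (he : Φ.β e e = 0) (hθ : Φ.β θ e = 0)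
    (hu : (u : MT) = Φ.E i e θ) : Φ.DT i e u := by
  refine ⟨?_, ?_, fun x z hx hz => ?_⟩
  · show Φ.adj (u : MT) * (u : MT) = 1
    rw [hu, adj_E, Φ.E_mul i he (by rw [Φ.sform.neg_left, hθ, neg_zero]) hθ, neg_add_cancel, E_zero]
  · rw [hu, E, fa_mul_P, E1_mulVec, eich_fix Φ.sform he (Φ.sform.symm0 hθ)]
  · rw [hu, E, comp_fa, E1_mulVec, eich_apply]
    congr 1
    simp only [Φ.sform.add_right, Φ.sform.sub_right, Φ.sform.smul_right, hx, hz]
    ring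

section pair

variable (he : Φ.β e e = 0) (he' : Φ.β e' e' = 0) (hee : Φ.β e e' = 1)
include he he' hee

/-- The products of parts. -/
theorem DT.mul_val (hD : Φ.DT i e h) (hD' : Φ.DT i e h') :
    (h : MT) * (h' : MT) = 1 + (Φ.P i e e * (Φ.Tp i e' h + Φ.Tp i e' h') +
      (Φ.Lv i e e' h + Φ.Lv i e e' h') - (Φ.adj (Φ.Lv i e e' h) + Φ.adj (Φ.Lv i e e' h')) -
        Φ.Lv i e e' h * Φ.adj (Φ.Lv i e e' h')) := by
  have hT : Cm i (Φ.Tp i e' h) := Φ.cm_comp _ _ _ _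
  have z1 : ∀ (x y : Vk) (Z : MT), Φ.P i x e * (Φ.P i e y * Z) = 0 := fun x y Z => by
    rw [P_mul', he, zero_smul]
  have z2 : ∀ (x : Vk) (Z : MT), Φ.P i x e * (Φ.Pr i e e' * Z) = 0 := fun x Z => by
    rw [← mul_assoc, P_Pr_self he he' hee, zero_mul]
  have z3 : ∀ (y : Vk) (Z : MT), Φ.Pr i e e' * (Φ.P i e y * Z) = 0 := fun y Z => by
    rw [← mul_assoc, Pr_P_self he he' hee, zero_mul]
  have hTP : ∀ (Z : MT), Φ.Tp i e' h * (Φ.P i e e * Z) = Φ.P i e e * (Φ.Tp i e' h * Z) := fun Z => by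
    rw [← mul_assoc, P, (hT _).eq, mul_assoc]
  have hTP' : ∀ (Z : MT), Φ.Tp i e' h * (Φ.P i e e' * Z) = Φ.P i e e' * (Φ.Tp i e' h * Z) :=
    fun Z => by
      rw [← mul_assoc, P, (hT _).eq, mul_assoc]
  have hTR : ∀ (Z : MT), Φ.Tp i e' h * (Φ.Pr i e e' * Z) = Φ.Pr i e e' * (Φ.Tp i e' h * Z) :=
    fun Z => by
      rw [← mul_assoc, Pr, (hT _).eq, mul_assoc]
  have a1 : Φ.P i e e * Φ.Tp i e' h * (Φ.P i e e * Φ.Tp i e' h') = 0 := by
    rw [mul_assoc, hTP, z1]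
  have a2 : Φ.P i e e * Φ.Tp i e' h * Φ.Lv i e e' h' = 0 := by
    rw [Lv]; simp only [mul_assoc]; rw [hTP', z1]
  have a3 : Φ.P i e e * Φ.Tp i e' h * Φ.adj (Φ.Lv i e e' h') = 0 := by
    rw [Lv, adj_mul, adj_mul, adj_Pr]; simp only [mul_assoc]; rw [hTR, z2]
  have a4 : Φ.Lv i e e' h * (Φ.P i e e * Φ.Tp i e' h') = 0 := by
    rw [Lv]; simp only [mul_assoc]; rw [z3]; simp
  have a5 : Φ.Lv i e e' h * Φ.Lv i e e' h' = 0 := by
    rw [Lv, Lv]; simp only [mul_assoc]; rw [z3]; simp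
  have a6 : Φ.adj (Φ.Lv i e e' h) * (Φ.P i e e * Φ.Tp i e' h') = 0 := by
    rw [Lv, adj_mul, adj_mul, adj_Pr, adj_P]; simp only [mul_assoc]; rw [z1]; simp
  have a7 : Φ.adj (Φ.Lv i e e' h) * Φ.Lv i e e' h' = 0 := by
    rw [Lv, Lv, adj_mul, adj_mul, adj_Pr, adj_P]; simp only [mul_assoc]; rw [z1]; simp
  have a8 : Φ.adj (Φ.Lv i e e' h) * Φ.adj (Φ.Lv i e e' h') = 0 := by
    rw [Lv, Lv, adj_mul, adj_mul, adj_mul, adj_mul, adj_Pr, adj_P]
    simp only [mul_assoc]; rw [z2]; simp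
  rw [(hD.decomp he he' hee).1, (hD'.decomp he he' hee).1]
  simp only [add_mul, mul_add, sub_mul, mul_sub, one_mul, mul_one, a1, a2, a3, a4, a5, a6, a7, a8]
  abel

theorem DT.mul (hD : Φ.DT i e h) (hD' : Φ.DT i e h') : Φ.DT i e (h * h') := by
  refine ⟨hD.1.mul hD'.1, by rw [Units.val_mul, mul_assoc, hD'.2.1, hD.2.1], fun x z hx hz => ?_⟩
  have h1 := hD.2.2 x z hx hz
  have h2 := hD'.2.2 x z hx hz
  rw [(hD.decomp he he' hee).1] at h1
  rw [(hD'.decomp he he' hee).1] at h2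
  rw [comp_add, Φ.comp_cm cm_one, add_eq_left] at h1 h2
  rw [Units.val_mul, hD.mul_val he he' hee hD', comp_add, Φ.comp_cm cm_one, comp_sub,
    comp_Lv_mul he he' hee hD hD', hz, zero_mul, zero_smul, sub_zero, add_eq_left]
  rw [comp_sub, comp_add] at h1 h2
  simp only [comp_sub, comp_add, mul_add]
  linear_combination (norm := abel) h1 + h2

theorem DT.ga_mul (hD : Φ.DT i e h) (hD' : Φ.DT i e h') {x : Vk} (hx : Φ.β x e = 0) :
    Φ.Ga i e' x (h * h') = Φ.Ga i e' x h + Φ.Ga i e' x h' := by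
  rw [Ga, Ga, Ga, Units.val_mul, hD.mul_val he he' hee hD', (hD.decomp he he' hee).1,
    (hD'.decomp he he' hee).1, add_sub_cancel_left, add_sub_cancel_left, add_sub_cancel_left,
    comp_sub, comp_Lv_mul he he' hee hD hD', Φ.beta_symm x e, hx, mul_zero, zero_smul, sub_zero]
  simp only [comp_sub, comp_add, mul_add]
  abel

theorem DT.ga_inv (hD : Φ.DT i e h) {x : Vk} (hx : Φ.β x e = 0) :
    Φ.Ga i e' x h⁻¹ = -Φ.Ga i e' x h := by
  have := hD.ga_mul he he' hee hD.inv hx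
  rw [mul_inv_cancel] at this
  rw [eq_neg_iff_add_eq_zero, add_comm, ← this, Ga, Units.val_one, sub_self, comp_zero]

/-- The commutator of two elements trivial on the flag. -/
theorem DT.comm_val (hD : Φ.DT i e h) (hD' : Φ.DT i e h') :
    ((h * h' * (h' * h)⁻¹ : GL (Fin t → Fin k) F) : MT) =
      1 + Φ.P i e e * Φ.comp i e' e' (Φ.Lv i e e' h' * Φ.adj (Φ.Lv i e e' h) -
        Φ.Lv i e e' h * Φ.adj (Φ.Lv i e e' h')) := by
  set Z : MT := Φ.P i e e * Φ.comp i e' e' (Φ.Lv i e e' h' * Φ.adj (Φ.Lv i e e' h) -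
        Φ.Lv i e e' h * Φ.adj (Φ.Lv i e e' h')) with hZ
  have hee'' : Φ.β e' e = 1 := by rw [Φ.beta_symm e e', hee]
  have hrec : ∀ {a b : GL (Fin t → Fin k) F}, Φ.DT i e a → Φ.DT i e b →
      Φ.Lv i e e' a * Φ.adj (Φ.Lv i e e' b) =
        Φ.P i e e * Φ.comp i e' e' (Φ.Lv i e e' a * Φ.adj (Φ.Lv i e e' b)) := fun ha hb =>
    Φ.comp_ext i fun x y => by
      rw [comp_Lv_mul he he' hee ha hb, Φ.comp_P_mul (Φ.cm_comp _ _ _ _)]
  have hcm : Cm i (Φ.comp i e' e' (Φ.Lv i e e' h' * Φ.adj (Φ.Lv i e e' h) -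
      Φ.Lv i e e' h * Φ.adj (Φ.Lv i e e' h'))) := Φ.cm_comp _ _ _ _
  have hZd : Z = Φ.Lv i e e' h' * Φ.adj (Φ.Lv i e e' h) -
      Φ.Lv i e e' h * Φ.adj (Φ.Lv i e e' h') := by
    rw [hZ, comp_sub, mul_sub, ← hrec hD' hD, ← hrec hD hD']
  have hkey : (h : MT) * (h' : MT) = (1 + Z) * ((h' : MT) * (h : MT)) := by
    have hZP : Z * ((h' : MT) * (h : MT)) = Z := by
      rw [hZ, ← hcm.P_comm, mul_assoc, ← mul_assoc (Φ.P i e e), hD'.P_mul, hD.P_mul]
    rw [add_mul, one_mul, hZP, hD.mul_val he he' hee hD', hD'.mul_val he he' hee hD, hZd]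
    simp only [mul_add]
    abel
  rw [Units.val_mul, Units.val_mul, hkey, mul_assoc, ← Units.val_mul h' h, Units.mul_inv, mul_one]

/-- Compressions of the difference from the identity. -/
theorem DT.comp_sub_one (hD : Φ.DT i e h) {x : Vk} (hx : Φ.β x e = 0) (z : Vk) :
    Φ.comp i z x ((h : MT) - 1) = Φ.β z e • Φ.Ga i e' x h := by
  have h1 : Φ.comp i e x ((h : MT) - 1) = 0 := by
    rw [comp_sub, hD.2.2 x e hx he, Φ.comp_cm cm_one, sub_self]
  obtain ⟨a, b, l, hl, rfl⟩ := split_pair Φ.sform he he' hee z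
  obtain ⟨hl1, -⟩ := (mem_pairPerp Φ.sform).1 hl
  have h2 : Φ.comp i l x ((h : MT) - 1) = 0 := by
    rw [comp_sub, hD.2.2 x l hx hl1, Φ.comp_cm cm_one, sub_self]
  rw [comp_add_left, comp_add_left, comp_smul_left, comp_smul_left, h1, h2, smul_zero, zero_add,
    add_zero, Φ.sform.add_left, Φ.sform.add_left, Φ.sform.smul_left, Φ.sform.smul_left, he, hl1,
    Φ.sform.symm e e', hee, mul_zero, mul_one, zero_add, add_zero]
  rfl

theorem DT.ga_self (hD : Φ.DT i e h) : Φ.Ga i e' e h = 0 := by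
  have h1 : ((h : MT) - 1) * Φ.P i e e = 0 := by rw [sub_mul, one_mul, hD.2.1, sub_self]
  have := congrArg (Φ.comp i e' e') h1
  rw [comp_P_right, hee, one_smul, comp_zero] at this
  exact this

/-- The Levi part from the components. -/
theorem comp_Lv (x y : Vk) :
    Φ.comp i x y (Φ.Lv i e e' h) = Φ.β x e • Φ.Ga i e' (Φ.pr1 e e' *ᵥ y) h := by
  rw [Lv, mul_assoc, comp_P_left, Ga, Pr,
    show ((h : MT) - 1) * fa i (Φ.pr1 e e') = fa i (1 : Mm) * ((h : MT) - 1) * fa i (Φ.pr1 e e') by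
      rw [map_one, one_mul],
    comp_conj, adj1_one, Matrix.one_mulVec]

end pair

/-- Conjugation in another factor. -/
theorem DT.conj_other {j : Fin t} (hji : j ≠ i) {M : Mm} (hM : Φ.adj1 M * M = 1)
    {u : GL (Fin t → Fin k) F} (hu : (u : MT) = fa j M) (hD : Φ.DT i e h) :
    Φ.DT i e (u * h * u⁻¹) ∧ ∀ e' x, Φ.Ga i e' x (u * h * u⁻¹) =
      fa j M * Φ.Ga i e' x h * fa j (Φ.adj1 M) := by
  have hv : ((u * h * u⁻¹ : GL (Fin t → Fin k) F) : MT) = fa j M * (h : MT) * fa j (Φ.adj1 M) := by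
    rw [Units.val_mul, Units.val_mul, FacIn.inv_val hM hu, hu]
  have huI : Φ.Iso u := by
    show Φ.adj (u : MT) * (u : MT) = 1
    rw [hu, adj_fa, ← map_mul, hM, map_one]
  have h1 : fa j M * fa j (Φ.adj1 M) = (1 : MT) := by
    rw [← map_mul, mul_eq_one_comm.1 hM, map_one]
  refine ⟨⟨(huI.mul hD.1).mul huI.inv, ?_, fun x z hx hz => ?_⟩, fun e' x => ?_⟩
  · rw [hv, mul_assoc, show fa j (Φ.adj1 M) * Φ.P i e e = Φ.P i e e * fa j (Φ.adj1 M) from
      (fa_commute hji _ _).eq, ← mul_assoc, mul_assoc (fa j M), hD.2.1,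
      show fa j M * Φ.P i e e = Φ.P i e e * fa j M from (fa_commute hji _ _).eq, mul_assoc, h1,
      mul_one]
  · rw [hv, Φ.comp_mul_cm (cm_fa hji _), Φ.cm_mul_comp (cm_fa hji _), hD.2.2 x z hx hz,
      Matrix.mul_smul, mul_one, Matrix.smul_mul, h1]
  · rw [Ga, Ga, hv, ← Φ.cm_mul_comp (cm_fa hji _), ← Φ.comp_mul_cm (cm_fa hji _), mul_sub, sub_mul,
      mul_one, h1]

/-- Conjugation in the same factor. -/
theorem DT.conj_self (he : Φ.β e e = 0) (he' : Φ.β e' e' = 0) (hee : Φ.β e e' = 1) {M : Mm} {s : F}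
    (hs : s ≠ 0) (hM : Φ.adj1 M * M = 1) (hMe : M *ᵥ e = s • e)
    {u : GL (Fin t → Fin k) F} (hu : (u : MT) = fa i M) (hD : Φ.DT i e h) :
    Φ.DT i e (u * h * u⁻¹) ∧ ∀ x, Φ.β x e = 0 → Φ.Ga i e' x (u * h * u⁻¹) =
      s • Φ.Ga i e' (Φ.adj1 M *ᵥ x) h := by
  have hv : ((u * h * u⁻¹ : GL (Fin t → Fin k) F) : MT) = fa i M * (h : MT) * fa i (Φ.adj1 M) := by
    rw [Units.val_mul, Units.val_mul, FacIn.inv_val hM hu, hu]
  have huI : Φ.Iso u := by
    show Φ.adj (u : MT) * (u : MT) = 1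
    rw [hu, adj_fa, ← map_mul, hM, map_one]
  have hMx : ∀ x, Φ.β x e = 0 → Φ.β (Φ.adj1 M *ᵥ x) e = 0 := fun x hx => by
    rw [beta_mulVec, adj1_adj1, hMe, Φ.sform.smul_right, hx, mul_zero]
  have hMse : Φ.adj1 M *ᵥ e = s⁻¹ • e := by
    have := congrArg (Φ.adj1 M *ᵥ ·) hMe
    simp only [Matrix.mulVec_mulVec, hM, Matrix.one_mulVec, Matrix.mulVec_smul] at this
    conv_rhs => rw [this, inv_smul_smul₀ hs]
  refine ⟨⟨(huI.mul hD.1).mul huI.inv, ?_, fun x z hx hz => ?_⟩, fun x hx => ?_⟩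
  · rw [hv, mul_assoc, fa_mul_P, hMse, P_smul_left, Matrix.mul_smul, mul_assoc, hD.2.1, fa_mul_P,
      hMe, P_smul_left, smul_smul, inv_mul_cancel₀ hs, one_smul]
  · rw [hv, comp_conj, hD.2.2 _ _ (hMx x hx) (hMx z hz), beta_mulVec, adj1_adj1,
      Matrix.mulVec_mulVec, mul_eq_one_comm.1 hM, Matrix.one_mulVec]
  · rw [Ga, hv, show fa i M * (h : MT) * fa i (Φ.adj1 M) - 1 =
        fa i M * ((h : MT) - 1) * fa i (Φ.adj1 M) by
      rw [mul_sub, sub_mul, mul_one, ← map_mul, mul_eq_one_comm.1 hM, map_one],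
      comp_conj, hD.comp_sub_one he he' hee (hMx x hx), beta_mulVec, adj1_adj1, hMe,
      Φ.sform.smul_right, Φ.sform.symm e e', hee, mul_one]

end OForm

end CfsgLib.MaxSub.TensorPowOrth
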