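import Cfsg.Agent.Lib.MaxSub.TensorPowOrth.Root

/-!
An additive group of operators invariant under the Eichler transformations and half turns of a factor
contains a decomposed operator, unless it commutes with the factor.
-/

set_option autoImplicit false
set_option maxHeartbeats 400000
set_option linter.unusedSectionVars false

namespace CfsgLib.MaxSub.TensorPowOrth

open Matrix Module
open CfsgLib.Aschbacher CfsgLib.MaxSub.TensorPow
open CfsgLib.MaxSub.TensorSympOrth (SForm)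
open CfsgLib.MaxSub.TensorOO (exists_pair split_pair mem_pairPerp pairPerp exists_aniso_pairPerp
  exists_two_pairPerp exists_value)

variable {F : Type*} [Field F] {k t : ℕ}

local notation "Vk" => Fin k → F
local notation "MT" => Matrix (Fin t → Fin k) (Fin t → Fin k) F

namespace OForm

variable (Φ : OForm F k)

/-- An additive group invariant under the generators in a factor. -/
structure InvSet (c₀ : F) (i : Fin t) (𝒳 : AddSubgroup MT) : Prop where
  eu : ∀ e θ, Φ.β e e = 0 → Φ.β θ e = 0 → ∀ Y ∈ 𝒳, Φ.E i e θ * Y * Φ.E i e (-θ) ∈ 𝒳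
  turn : Odd k ∨ 3 ≤ t → ∀ a, Φ.Cls c₀ a → ∀ Y ∈ 𝒳, Φ.Tn i a * Y * Φ.Tn i a ∈ 𝒳
  pair : Even k → ∀ a b, Φ.β a a ≠ 0 → Φ.β b b ≠ 0 → ∀ Y ∈ 𝒳,
    Φ.Tn i a * Φ.Tn i b * Y * (Φ.Tn i b * Φ.Tn i a) ∈ 𝒳

/-- The quadratic part of the symmetric second difference. -/
noncomputable def Qd (i : Fin t) (e : Vk) (Y : MT) (θ : Vk) : MT :=
  (Φ.β θ θ / 2) • (Φ.P i e e * Y + Y * Φ.P i e e) + Φ.W i θ e * Y * Φ.W i θ e

variable {Φ} {c₀ : F} {i : Fin t} {𝒳 : AddSubgroup (Matrix (Fin t → Fin k) (Fin t → Fin k) F)}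
  (h𝒳 : Φ.InvSet c₀ i 𝒳)
include h𝒳

theorem InvSet.phi_mem {e θ : Vk} (he : Φ.β e e = 0) (hθ : Φ.β θ e = 0) {Y : MT} (hY : Y ∈ 𝒳) :
    (2 : F) • ((Φ.β θ θ / 2) ^ 2 • (Φ.P i e e * Y * Φ.P i e e) - Φ.Qd i e Y θ) ∈ 𝒳 := by
  have h1 := h𝒳.eu e θ he hθ Y hY
  have h2 := h𝒳.eu e (-θ) he (by rw [Φ.sform.neg_left, hθ, neg_zero]) Y hY
  rw [neg_neg] at h2
  have h3 := 𝒳.sub_mem (𝒳.sub_mem (𝒳.add_mem h1 h2) hY) hY
  convert h3 using 1
  have e1 : Φ.β (-θ) (-θ) = Φ.β θ θ := by rw [Φ.sform.neg_left, Φ.sform.neg_right, neg_neg]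
  rw [E_eq, E_eq, e1, W_neg_left, Qd]
  simp only [add_mul, mul_add, sub_mul, mul_sub, neg_mul, mul_neg, Matrix.smul_mul, Matrix.mul_smul,
    one_mul, mul_one, mul_assoc, smul_add, smul_sub, smul_neg, neg_neg, smul_smul]
  module

omit h𝒳 in
theorem qd_smul (e : Vk) (Y : MT) (s : F) (θ : Vk) :
    Φ.Qd i e Y (s • θ) = s ^ 2 • Φ.Qd i e Y θ := by
  simp only [Qd, W, P_smul_left, P_smul_right, Φ.sform.smul_left, Φ.sform.smul_right, ← smul_sub,
    Matrix.smul_mul, Matrix.mul_smul, smul_add, smul_smul]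
  module

omit h𝒳 in
theorem W_add_left (x y z : Vk) : Φ.W i (x + y) z = (Φ.W i x z + Φ.W i y z : MT) := by
  rw [W, W, W, P_add_left, P_add_right]; abel

omit h𝒳 in
theorem qd_add (e : Vk) (Y : MT) {a b : Vk} (hab : Φ.β a b = 0) :
    Φ.Qd i e Y (a + b) = Φ.Qd i e Y a + Φ.Qd i e Y b +
      (Φ.W i a e * Y * Φ.W i b e + Φ.W i b e * Y * Φ.W i a e) := by
  simp only [Qd, W_add_left, Φ.sform.add_left, Φ.sform.add_right, hab, Φ.sform.symm0 hab,
    add_mul, mul_add]
  module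

omit h𝒳 in
theorem qd_neg (e : Vk) (Y : MT) (b : Vk) : Φ.Qd i e Y (-b) = Φ.Qd i e Y b := by
  simp only [Qd, W_neg_left, Φ.sform.neg_left, Φ.sform.neg_right, neg_mul, mul_neg, neg_neg]

variable [Finite F]

omit h𝒳 in
theorem exists_scalar (h : Nat.card F ≠ 3) (h2 : (2 : F) ≠ 0) : ∃ s : F, s ≠ 0 ∧ s ^ 2 ≠ 1 := by
  classical
  by_contra hc
  push Not at hc
  letI := Fintype.ofFinite F
  have hsub : (Finset.univ : Finset F) ⊆ {0, 1, -1} := fun s _ => by
    rcases eq_or_ne s 0 with rfl | hs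
    · simp
    · rcases sq_eq_one_iff.1 (hc s hs) with rfl | rfl <;> simp
  have h3 : ({0, 1, -1} : Finset F).card ≤ 3 := Finset.card_le_three
  have hle : Nat.card F ≤ 3 := by
    rw [Nat.card_eq_fintype_card, ← Finset.card_univ]
    exact (Finset.card_le_card hsub).trans h3
  have hlt : 1 < Nat.card F := Finite.one_lt_card
  have hc2 : Nat.card F = 2 := by omega
  refine h2 ?_
  rw [Nat.card_eq_fintype_card] at hc2
  have := FiniteField.cast_card_eq_zero F
  rw [hc2] at this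
  exact_mod_cast this

/-- The sandwich by an isotropic rank one operator is in the group. -/
theorem InvSet.split_sandwich (hk : 3 ≤ k) (hq : k = 3 → Nat.card F ≠ 3) {e : Vk}
    (he : Φ.β e e = 0) {Y : MT} (hY : Y ∈ 𝒳) :
    ∃ c : F, c ≠ 0 ∧ c • (Φ.P i e e * Y * Φ.P i e e) ∈ 𝒳 := by
  rcases eq_or_ne e 0 with rfl | he0
  · exact ⟨1, one_ne_zero, by simp [P_zero_left, 𝒳.zero_mem]⟩
  obtain ⟨e', a, he', hee, ha, haa⟩ := Φ.exists_orth_aniso hk he0 he
  have hae := ((mem_pairPerp Φ.sform).1 ha).1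
  have hc : Φ.β a a / 2 ≠ 0 := div_ne_zero haa Φ.two
  by_cases h3 : Nat.card F = 3
  · have hk4 : 4 ≤ k := by
      rcases Nat.lt_or_ge k 4 with h | h
      · exact absurd h3 (hq (by omega))
      · exact h
    obtain ⟨b, hb, hbb, hba⟩ := exists_two_pairPerp Φ.sform (by rw [finrank_vk]; exact hk4) he he'
      hee ha haa
    have hbe := ((mem_pairPerp Φ.sform).1 hb).1
    have hab : Φ.β a b = 0 := Φ.sform.symm0 hba
    have hm : ∀ x, Φ.β x e = 0 → _ := fun x hx => h𝒳.phi_mem he hx hY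
    have h := 𝒳.sub_mem (𝒳.add_mem (hm (a + b) (by rw [Φ.sform.add_left, hae, hbe, add_zero]))
        (hm (a + -b) (by rw [Φ.sform.add_left, Φ.sform.neg_left, hae, hbe, neg_zero, add_zero])))
      (𝒳.add_mem (𝒳.add_mem (hm a hae) (hm a hae)) (𝒳.add_mem (hm b hbe) (hm b hbe)))
    refine ⟨8 * (Φ.β a a / 2) * (Φ.β b b / 2), ?_, ?_⟩
    · refine mul_ne_zero (mul_ne_zero ?_ hc) (div_ne_zero hbb Φ.two)
      rw [show (8 : F) = 2 ^ 3 by norm_num]
      exact pow_ne_zero _ Φ.two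
    convert h using 1
    rw [qd_add _ _ hab, qd_add _ _ (by rw [Φ.sform.neg_right, hab, neg_zero]), qd_neg, W_neg_left]
    simp only [Φ.sform.add_left, Φ.sform.add_right, Φ.sform.neg_left, Φ.sform.neg_right, hab,
      Φ.sform.symm0 hab, neg_mul, mul_neg]
    have := Φ.two
    match_scalars <;> field_simp <;> ring
  · obtain ⟨s, hs, hs1⟩ := exists_scalar h3 Φ.two
    have hm : ∀ r : F, _ := fun r : F =>
      h𝒳.phi_mem he (θ := r • a) (by rw [Φ.sform.smul_left, hae, mul_zero]) hY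
    have h := 𝒳.sub_mem (𝒳.sub_mem (hm (s + s)) (𝒳.add_mem (hm s) (hm s)))
      (𝒳.sub_mem (𝒳.sub_mem (hm (s ^ 2 + 1)) (hm (s ^ 2))) (hm 1))
    refine ⟨2 * -(4 * s ^ 2 * (s ^ 2 - 1) ^ 2 * (Φ.β a a / 2) ^ 2), ?_, ?_⟩
    · refine mul_ne_zero Φ.two (neg_ne_zero.2 (mul_ne_zero (mul_ne_zero (mul_ne_zero ?_ ?_) ?_) ?_))
      · rw [show (4 : F) = 2 ^ 2 by norm_num]
        exact pow_ne_zero _ Φ.two
      · exact pow_ne_zero _ hs
      · exact pow_ne_zero _ (sub_ne_zero.2 hs1)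
      · exact pow_ne_zero _ hc
    convert h using 1
    simp only [qd_smul, Φ.sform.smul_left, Φ.sform.smul_right]
    have := Φ.two
    match_scalars <;> field_simp <;> ring

omit h𝒳

variable (Φ)

/-- A symmetric pairing vanishing at singular vectors is a multiple of the form. -/
theorem sym_scalar {N : Type*} [AddCommGroup N] [Module F N] (hk : 3 ≤ k)
    (hq : k = 3 → Nat.card F ≠ 3) (S : Vk →ₗ[F] Vk →ₗ[F] N) (hS : ∀ x y, S x y = S y x)
    (h0 : ∀ e, e ≠ 0 → Φ.β e e = 0 → S e e = 0) :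
    ∃ u v : Vk, ∀ x y, S x y = Φ.β x y • S u v := by
  obtain ⟨e, he0, he⟩ := Φ.sform.exists_iso (by rw [finrank_vk]; exact hk)
  obtain ⟨e', he', hee⟩ := exists_pair Φ.sform he0 he
  have he'0 : e' ≠ 0 := fun h => by rw [h, Φ.sform.zero_right] at hee; exact zero_ne_one hee
  refine ⟨e, e', ?_⟩
  set Z := S e e'
  have rel : ∀ {θ}, θ ∈ pairPerp Φ.sform e e' → ∀ l : F,
      (2 * l) • S e θ - (2 * l ^ 2 * (Φ.β θ θ / 2)) • Z + l ^ 2 • S θ θ -
        (2 * l ^ 3 * (Φ.β θ θ / 2)) • S θ e' = 0 := by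
    intro θ hθ l
    obtain ⟨h1, h2⟩ := (mem_pairPerp Φ.sform).1 hθ
    have hv := h0 (e + l • θ - (l ^ 2 * (Φ.β θ θ / 2)) • e') (fun h => ?_) ?_
    · simp only [map_add, map_sub, map_smul, LinearMap.add_apply, LinearMap.sub_apply,
        LinearMap.smul_apply, h0 e he0 he, h0 e' he'0 he', hS θ e, hS e' e, hS e' θ] at hv
      rw [← hv]
      simp only [Z]
      module
    · have := congrArg (Φ.β · e') h
      simp [Φ.sform.add_left, Φ.sform.sub_left, Φ.sform.smul_left, hee, h2, he',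
        Φ.sform.zero_left] at this
    · simp only [Φ.sform.add_left, Φ.sform.add_right, Φ.sform.sub_left, Φ.sform.sub_right,
        Φ.sform.smul_left, Φ.sform.smul_right, he, he', hee, h1, h2, Φ.sform.symm e e',
        Φ.sform.symm θ e, Φ.sform.symm θ e']
      have := Φ.two
      field_simp
      ring
  have hθθ : ∀ {θ}, θ ∈ pairPerp Φ.sform e e' → S θ θ = Φ.β θ θ • Z := fun {θ} hθ => by
    have h2 : (2 : F) • (S θ θ - Φ.β θ θ • Z) = 0 := by
      have h := congrArg₂ (· + ·) (rel hθ 1) (rel hθ (-1))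
      simp only [add_zero] at h
      rw [← h]
      have := Φ.two
      match_scalars <;> field_simp <;> ring
    exact sub_eq_zero.1 ((smul_eq_zero.1 h2).resolve_left Φ.two)
  have hrel : ∀ {θ}, θ ∈ pairPerp Φ.sform e e' → ∀ l : F,
      (2 * l) • (S e θ - (l ^ 2 * (Φ.β θ θ / 2)) • S θ e') = 0 := fun {θ} hθ l => by
    rw [← rel hθ l, hθθ hθ]
    have := Φ.two
    match_scalars <;> field_simp <;> ring
  have hboth : ∀ {θ}, θ ∈ pairPerp Φ.sform e e' → Φ.β θ θ ≠ 0 → S e θ = 0 ∧ S θ e' = 0 := by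
    intro θ hθ hn
    have h1 := (smul_eq_zero.1 (hrel hθ 1)).resolve_left (mul_ne_zero Φ.two one_ne_zero)
    rw [one_pow, one_mul, sub_eq_zero] at h1
    suffices h : S θ e' = 0 by exact ⟨by rw [h1, h, smul_zero], h⟩
    rcases Nat.lt_or_ge k 4 with hk4 | hk4
    · obtain ⟨s, hs, hs1⟩ := exists_scalar (hq (by omega)) Φ.two
      have h2 := (smul_eq_zero.1 (hrel hθ s)).resolve_left (mul_ne_zero Φ.two hs)
      rw [h1, ← sub_smul] at h2
      refine (smul_eq_zero.1 h2).resolve_left ?_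
      rw [show Φ.β θ θ / 2 - s ^ 2 * (Φ.β θ θ / 2) = (1 - s ^ 2) * (Φ.β θ θ / 2) by ring]
      exact mul_ne_zero (sub_ne_zero.2 (Ne.symm hs1)) (div_ne_zero hn Φ.two)
    · obtain ⟨b, hb, hbb, hba⟩ := exists_two_pairPerp Φ.sform (by rw [finrank_vk]; exact hk4) he he'
        hee hθ hn
      have hab : Φ.β θ b = 0 := Φ.sform.symm0 hba
      have e1 := (smul_eq_zero.1 (hrel (add_mem hθ hb) 1)).resolve_left
        (mul_ne_zero Φ.two one_ne_zero)
      have e2 := (smul_eq_zero.1 (hrel (sub_mem hθ hb) 1)).resolve_left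
        (mul_ne_zero Φ.two one_ne_zero)
      simp only [Φ.sform.add_left, Φ.sform.add_right, Φ.sform.sub_left, Φ.sform.sub_right, hab, hba,
        add_zero, zero_add, sub_zero, zero_sub, map_add, map_sub, LinearMap.add_apply,
        LinearMap.sub_apply, h1] at e1 e2
      have h := congrArg₂ (· + ·) e1 e2
      simp only [add_zero] at h
      have h3 : (-(Φ.β b b)) • S θ e' = 0 := by
        rw [← h]
        have := Φ.two
        match_scalars <;> field_simp <;> ring
      exact (smul_eq_zero.1 h3).resolve_left (neg_ne_zero.2 hbb)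
  obtain ⟨a, ha, haa⟩ := exists_aniso_pairPerp Φ.sform (by rw [finrank_vk]; exact hk) he he' hee
  have hlin : ∀ {θ}, θ ∈ pairPerp Φ.sform e e' → S e θ = 0 ∧ S θ e' = 0 := by
    intro θ hθ
    by_cases hn : Φ.β θ θ = 0
    · obtain ⟨r, hr⟩ : ∃ r : F, Φ.β (θ + r • a) (θ + r • a) ≠ 0 ∧ Φ.β (r • a) (r • a) ≠ 0 := by
        by_contra hc
        push Not at hc
        have h1 := hc 1
        have h2 := hc (-1)
        simp only [one_smul, neg_smul, Φ.sform.add_left, Φ.sform.add_right, Φ.sform.neg_left,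
          Φ.sform.neg_right, neg_neg, hn, Φ.sform.symm a θ] at h1 h2
        refine haa ((mul_eq_zero.1 (?_ : (2 : F) * Φ.β a a = 0)).resolve_left Φ.two)
        by_contra hne
        have e1 : _ = (0 : F) := by_contra fun h' => haa (h1 h')
        have e2 : _ = (0 : F) := by_contra fun h' => haa (h2 h')
        exact hne (by linear_combination e1 + e2)
      obtain ⟨p1, p2⟩ := hboth (add_mem hθ (Submodule.smul_mem _ r ha)) hr.1
      obtain ⟨q1, q2⟩ := hboth (Submodule.smul_mem _ r ha) hr.2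
      rw [map_add, q1, add_zero] at p1
      rw [map_add, LinearMap.add_apply, q2, add_zero] at p2
      exact ⟨p1, p2⟩
    · exact hboth hθ hn
  intro x y
  obtain ⟨x1, x2, u, hu, rfl⟩ := split_pair Φ.sform he he' hee x
  obtain ⟨y1, y2, v, hv, rfl⟩ := split_pair Φ.sform he he' hee y
  obtain ⟨hu1, hu2⟩ := (mem_pairPerp Φ.sform).1 hu
  obtain ⟨hv1, hv2⟩ := (mem_pairPerp Φ.sform).1 hv
  have huv : S u v = Φ.β u v • Z := by
    have h2 : (2 : F) • (S u v - Φ.β u v • Z) = 0 := by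
      have h := hθθ (add_mem hu hv)
      simp only [map_add, LinearMap.add_apply, hθθ hu, hθθ hv, hS v u, Φ.sform.add_left,
        Φ.sform.add_right, Φ.beta_symm u v] at h
      rw [← sub_eq_zero] at h
      rw [← h]
      module
    exact sub_eq_zero.1 ((smul_eq_zero.1 h2).resolve_left Φ.two)
  simp only [map_add, map_smul, LinearMap.add_apply, LinearMap.smul_apply, h0 e he0 he,
    h0 e' he'0 he', (hlin hu).1, (hlin hu).2, (hlin hv).1, hS u e, hS e' e, hS e' v, (hlin hv).2,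
    huv, smul_zero, add_zero, zero_add, Φ.sform.add_left, Φ.sform.add_right, Φ.sform.smul_left,
    Φ.sform.smul_right, he, he', hee, hu1, hu2, Φ.sform.symm e e', Φ.sform.symm v e,
    Φ.sform.symm v e', hv1, hv2]
  module

/-- The compressions of an operator at a pair of vectors, as a bilinear map. -/
noncomputable def compL (i : Fin t) (Y : MT) : Vk →ₗ[F] Vk →ₗ[F] MT :=
  LinearMap.mk₂ F (fun x y => Φ.comp i x y Y) (fun _ _ _ => Φ.comp_add_left _ _ _ _ _)
    (fun _ _ _ => Φ.comp_smul_left _ _ _ _ _) (fun _ _ _ => Φ.comp_add_right _ _ _ _ _)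
    (fun _ _ _ => Φ.comp_smul_right _ _ _ _ _)

/-- A skew pairing vanishing at singular vectors and their perpendiculars is zero. -/
theorem skew_zero {N : Type*} [AddCommGroup N] [Module F N] (hk : 3 ≤ k)
    (A : Vk →ₗ[F] Vk →ₗ[F] N) (hA : ∀ x y, A x y = -A y x)
    (h0 : ∀ e θ, e ≠ 0 → Φ.β e e = 0 → Φ.β θ e = 0 → A e θ = 0) : A = 0 := by
  obtain ⟨e, he0, he⟩ := Φ.sform.exists_iso (by rw [finrank_vk]; exact hk)
  obtain ⟨e', he', hee⟩ := exists_pair Φ.sform he0 he
  have he'0 : e' ≠ 0 := fun h => by rw [h, Φ.sform.zero_right] at hee; exact zero_ne_one hee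
  have hd : ∀ x, A x x = 0 := fun x => by
    have h := hA x x
    rw [eq_neg_iff_add_eq_zero, ← two_smul F] at h
    exact (smul_eq_zero.1 h).resolve_left Φ.two
  have h1 : ∀ {θ}, θ ∈ pairPerp Φ.sform e e' → A e θ = 0 ∧ A e' θ = 0 := fun {θ} hθ =>
    ⟨h0 e θ he0 he ((mem_pairPerp Φ.sform).1 hθ).1, h0 e' θ he'0 he' ((mem_pairPerp Φ.sform).1 hθ).2⟩
  have hv : ∀ {θ}, θ ∈ pairPerp Φ.sform e e' → ∀ w,
      Φ.β w (e + θ - (Φ.β θ θ / 2) • e') = 0 → A (e + θ - (Φ.β θ θ / 2) • e') w = 0 := by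
    intro θ hθ w hw
    obtain ⟨g1, g2⟩ := (mem_pairPerp Φ.sform).1 hθ
    refine h0 _ _ (fun h => ?_) ?_ hw
    · have := congrArg (Φ.β · e') h
      simp [Φ.sform.add_left, Φ.sform.sub_left, Φ.sform.smul_left, hee, g2, he',
        Φ.sform.zero_left] at this
    · simp only [Φ.sform.add_left, Φ.sform.add_right, Φ.sform.sub_left, Φ.sform.sub_right,
        Φ.sform.smul_left, Φ.sform.smul_right, he, he', hee, g1, g2, Φ.sform.symm e e',
        Φ.sform.symm θ e, Φ.sform.symm θ e']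
      have := Φ.two
      field_simp
      ring
  have hperp : ∀ {θ θ'}, θ ∈ pairPerp Φ.sform e e' → θ' ∈ pairPerp Φ.sform e e' → Φ.β θ' θ = 0 →
      A θ θ' = 0 := by
    intro θ θ' hθ hθ' hb
    obtain ⟨g1, g2⟩ := (mem_pairPerp Φ.sform).1 hθ'
    have h := hv hθ θ' (by
      rw [Φ.sform.sub_right, Φ.sform.add_right, Φ.sform.smul_right, g1, g2, hb]; ring)
    rwa [map_sub, map_add, map_smul, LinearMap.sub_apply, LinearMap.add_apply, LinearMap.smul_apply,
      (h1 hθ').1, (h1 hθ').2, smul_zero, zero_add, sub_zero] at h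
  obtain ⟨a, ha, haa⟩ := exists_aniso_pairPerp Φ.sform (by rw [finrank_vk]; exact hk) he he' hee
  have hpair : A e e' = 0 := by
    obtain ⟨g1, g2⟩ := (mem_pairPerp Φ.sform).1 ha
    set c := Φ.β a a / 2 with hc
    have h := hv ha ((-2 * c) • e' + a) (by
      simp only [Φ.sform.add_left, Φ.sform.add_right, Φ.sform.sub_right, Φ.sform.smul_left,
        Φ.sform.smul_right, Φ.sform.symm e e', hee, g1, g2, he', Φ.sform.symm a e']
      rw [hc]
      have := Φ.two
      field_simp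
      ring)
    simp only [map_add, map_sub, map_smul, LinearMap.add_apply, LinearMap.sub_apply,
      LinearMap.smul_apply, (h1 ha).1, (h1 ha).2, hA a e', hd, ← hc, smul_zero, add_zero, neg_zero,
      sub_zero] at h
    exact (smul_eq_zero.1 h).resolve_left
      (mul_ne_zero (neg_ne_zero.2 Φ.two) (div_ne_zero haa Φ.two))
  have haniso : ∀ {θ θ'}, θ ∈ pairPerp Φ.sform e e' → θ' ∈ pairPerp Φ.sform e e' → Φ.β θ θ ≠ 0 →
      A θ θ' = 0 := by
    intro θ θ' hθ hθ' hn
    have h := hperp hθ (sub_mem hθ' (Submodule.smul_mem _ (Φ.β θ' θ / Φ.β θ θ) hθ))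
      (by rw [Φ.sform.sub_left, Φ.sform.smul_left, div_mul_cancel₀ _ hn, sub_self])
    rwa [map_sub, map_smul, hd, smul_zero, sub_zero] at h
  have hall : ∀ {θ θ'}, θ ∈ pairPerp Φ.sform e e' → θ' ∈ pairPerp Φ.sform e e' → A θ θ' = 0 := by
    intro θ θ' hθ hθ'
    rcases ne_or_eq (Φ.β θ θ) 0 with hn | hn
    · exact haniso hθ hθ' hn
    by_cases hp : Φ.β (θ + a) (θ + a) = 0
    · have hm : Φ.β (θ - a) (θ - a) ≠ 0 := fun hm => by
        simp only [Φ.sform.add_left, Φ.sform.add_right, Φ.sform.sub_left, Φ.sform.sub_right,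
          hn] at hp hm
        exact mul_ne_zero Φ.two haa (by linear_combination hp + hm)
      have h := haniso (sub_mem hθ ha) hθ' hm
      rwa [map_sub, LinearMap.sub_apply, haniso ha hθ' haa, sub_zero] at h
    · have h := haniso (add_mem hθ ha) hθ' hp
      rwa [map_add, LinearMap.add_apply, haniso ha hθ' haa, add_zero] at h
  refine LinearMap.ext fun x => LinearMap.ext fun y => ?_
  obtain ⟨x1, x2, u, hu, rfl⟩ := split_pair Φ.sform he he' hee x
  obtain ⟨y1, y2, v, hv', rfl⟩ := split_pair Φ.sform he he' hee y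
  simp only [map_add, map_smul, LinearMap.add_apply, LinearMap.smul_apply, hd, hpair, hA e' e,
    hA u e, hA u e', (h1 hu).1, (h1 hu).2, (h1 hv').1, (h1 hv').2, hall hu hv', smul_zero, neg_zero,
    add_zero, LinearMap.zero_apply]

variable {Φ}
include h𝒳

/-- If all isotropic sandwiches vanish and the operator does not commute with the factor, a skew
decomposed operator is in the group. -/
theorem InvSet.split_skew (hk : 3 ≤ k) (hq : k = 3 → Nat.card F ≠ 3) (hc₀ : c₀ ≠ 0)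
    (hminus : k = 4 → ∀ U : Submodule F Vk, (∀ x ∈ U, Φ.β x x = 0) → finrank F U ≤ 1) {Y : MT}
    (hscal : k = 4 → t ≤ 2 → ∀ x y, ∃ c : F, Φ.comp i x y Y = c • 1) (hY : Y ∈ 𝒳) (hsing : ∀ e, e ≠ 0 → Φ.β e e = 0 → Φ.comp i e e Y = 0) (hcm : ¬ Cm i Y) :
    ∃ (e θ x : Vk) (c : F), e ≠ 0 ∧ Φ.β e e = 0 ∧ Φ.β θ e = 0 ∧ Φ.β θ θ ≠ 0 ∧ Φ.β x e = 0 ∧
      c ≠ 0 ∧ Φ.comp i e x Y ≠ 0 ∧ Φ.comp i x e Y = -Φ.comp i e x Y ∧
      Φ.W i θ e * (c • Φ.comp i e x Y) ∈ 𝒳 := by
  obtain ⟨u, v, hZ⟩ := Φ.sym_scalar (N := MT) hk hq (Φ.compL i Y + (Φ.compL i Y).flip)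
    (fun x y => by simp [add_comm]) fun e he0 he => by
      simp [compL, hsing e he0 he]
  obtain ⟨Z, hZcm, hsum⟩ : ∃ Z, Cm i Z ∧ ∀ x y, Φ.comp i x y Y + Φ.comp i y x Y = Φ.β x y • Z :=
    ⟨Φ.comp i u v Y + Φ.comp i v u Y, Cm.add (Φ.cm_comp _ _ _ _) (Φ.cm_comp _ _ _ _), fun x y => by
      simpa [compL] using hZ x y⟩
  obtain ⟨e, x, he0, he, hxe, hR⟩ : ∃ e x, e ≠ 0 ∧ Φ.β e e = 0 ∧ Φ.β x e = 0 ∧
      Φ.comp i e x Y ≠ 0 := by
    by_contra hc
    push Not at hc
    have h := Φ.skew_zero (N := MT) hk (Φ.compL i (Y - (1 / 2 : F) • Z)) (fun x y => ?_)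
      fun e θ he0 he hθ => ?_
    · refine hcm ?_
      have hYZ : Y = (1 / 2 : F) • Z := sub_eq_zero.1 (Φ.comp_ext i fun x y => by
        have := LinearMap.congr_fun (LinearMap.congr_fun h x) y
        simpa [compL, comp_zero] using this)
      rw [hYZ]
      exact hZcm.smul _
    · simp only [compL, LinearMap.mk₂_apply, comp_sub, comp_smul, Φ.comp_cm hZcm, Φ.beta_symm x y]
      have e1 := eq_sub_of_add_eq (hsum x y)
      rw [e1]
      have := Φ.two
      match_scalars <;> field_simp <;> ring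
    · simp only [compL, LinearMap.mk₂_apply, comp_sub, comp_smul, Φ.comp_cm hZcm, hc e θ he0 he hθ,
        Φ.sform.symm0 hθ, zero_smul, smul_zero, sub_zero]
  have hP0 : Φ.P i e e * Y * Φ.P i e e = 0 := by rw [PXP, hsing e he0 he, mul_zero]
  have hsw : ∀ a : Vk, Φ.β a e = 0 → Φ.comp i a e Y = -Φ.comp i e a Y := fun a ha => by
    rw [eq_neg_iff_add_eq_zero, hsum a e, ha, zero_smul]
  have hmem : ∀ a, Φ.β a e = 0 → (2 : F) • (-Φ.Qd i e Y a) ∈ 𝒳 := fun a ha => by
    simpa [hP0] using h𝒳.phi_mem he ha hY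
  obtain ⟨e', he', hee⟩ := exists_pair Φ.sform he0 he
  obtain ⟨x1, x2, l, hl, rfl⟩ := split_pair Φ.sform he he' hee x
  obtain ⟨hl1, hl2⟩ := (mem_pairPerp Φ.sform).1 hl
  have hx2 : x2 = 0 := by
    simpa [Φ.sform.add_left, Φ.sform.smul_left, he, hl1, Φ.sform.symm e e', hee] using hxe
  subst hx2
  have hR' : Φ.comp i e l Y ≠ 0 := by
    intro h
    apply hR
    rw [zero_smul, add_zero, comp_add_right, comp_smul_right, hsing e he0 he, h, smul_zero, add_zero]
  rcases Nat.lt_or_ge k 4 with hk4 | hk4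
  · -- the three dimensional case
    obtain ⟨a, ha, haa⟩ := exists_aniso_pairPerp Φ.sform (by rw [finrank_vk]; exact hk) he he' hee
    obtain ⟨ha1, ha2⟩ := (mem_pairPerp Φ.sform).1 ha
    have hexp : ∀ y : Vk, y = Φ.β y e' • e + Φ.β y e • e' + (Φ.β y a / Φ.β a a) • a := by
      let L : Vk →ₗ[F] (Fin 3 → F) :=
        LinearMap.pi ![Φ.sform.lin e, Φ.sform.lin e', Φ.sform.lin a]
      have hLs : Function.Surjective L := fun w => by
        refine ⟨w 1 • e + w 0 • e' + (w 2 / Φ.β a a) • a, ?_⟩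
        funext j
        fin_cases j <;>
        · simp [L, Φ.sform.lin_apply, Φ.sform.add_left, Φ.sform.smul_left, he, he', hee, ha1, ha2,
            Φ.sform.symm e e', Φ.sform.symm a e, Φ.sform.symm a e', haa]
      have hLi : Function.Injective L :=
        (LinearMap.injective_iff_surjective_of_finrank_eq_finrank
          (by rw [finrank_vk, Module.finrank_fin_fun]; omega)).2 hLs
      intro y
      refine hLi ?_
      funext j
      fin_cases j <;>
      · simp [L, Φ.sform.lin_apply, Φ.sform.add_left, Φ.sform.smul_left, he, he', hee, ha1, ha2,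
          Φ.sform.symm e e', Φ.sform.symm a e, Φ.sform.symm a e', haa]
    set R := Φ.comp i e a Y with hRdef
    have hea : R ≠ 0 := by
      intro h
      apply hR'
      rw [hexp l, hl1, hl2, zero_smul, zero_smul, zero_add, zero_add, comp_smul_right, ← hRdef, h,
        smul_zero]
    have hRcm : Cm i R := Φ.cm_comp _ _ _ _
    have hXX : Φ.W i a e * Y * Φ.W i a e =
        Φ.W i a e * R - (Φ.β a a / 2) • (Φ.P i e e * Z) := by
      have hz : Φ.comp i a a Y = (Φ.β a a / 2) • Z := by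
        have := hsum a a
        rw [← two_smul F] at this
        rw [← inv_smul_smul₀ Φ.two (Φ.comp i a a Y), this, smul_smul, inv_mul_eq_div]
      simp only [W, sub_mul, mul_sub, PXP, hsing e he0 he, hsw a ha1, ← hRdef, hz, mul_zero,
        mul_neg, Matrix.mul_smul]
      abel
    have hPY : Φ.P i e e * Y + Y * Φ.P i e e =
        Φ.P i e e * Z + (Φ.β a a)⁻¹ • (Φ.W i e a * R) := by
      refine Φ.comp_ext i fun x y => ?_
      have hl1' : ∀ X : MT, Φ.comp i x y (Φ.P i e e * X) = Φ.β x e • Φ.comp i e y X := fun X => by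
        conv_lhs => rw [show Φ.P i e e * X = Φ.P i e e * X * fa i (1 : Matrix (Fin k) (Fin k) F) by simp,
          P, comp_conj, Matrix.one_mulVec, Φ.adj1_rk, rk_mulVec, comp_smul_left, Φ.beta_symm x e]
      have hr1 : Φ.comp i x y (Y * Φ.P i e e) = Φ.β e y • Φ.comp i x e Y := by
        conv_lhs => rw [show Y * Φ.P i e e = fa i (1 : Matrix (Fin k) (Fin k) F) * Y * Φ.P i e e by simp,
          P, comp_conj, Φ.adj1_one, Matrix.one_mulVec, rk_mulVec, comp_smul_right]
      rw [comp_add, hl1', hr1, comp_add, comp_smul, Φ.comp_W_mul hRcm, Φ.comp_P_mul hZcm]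
      have ey : Φ.comp i e y Y = Φ.β y e • Φ.comp i e e' Y + (Φ.β y a / Φ.β a a) • R := by
        conv_lhs => rw [hexp y]
        simp only [comp_add_right, comp_smul_right, hsing e he0 he, smul_zero, zero_add, hRdef]
      have ex : Φ.comp i x e Y = Φ.β x e • (Z - Φ.comp i e e' Y) - (Φ.β x a / Φ.β a a) • R := by
        conv_lhs => rw [hexp x]
        have h2 : Φ.comp i e' e Y = Z - Φ.comp i e e' Y := by
          have := hsum e e'
          rw [hee, one_smul] at this
          rw [eq_sub_iff_add_eq, add_comm, this]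
        simp only [comp_add_left, comp_smul_left, hsing e he0 he, smul_zero, zero_add, hsw a ha1,
          hRdef, h2, smul_neg, ← sub_eq_add_neg]
      rw [ey, ex, Φ.beta_symm e y, Φ.beta_symm a y]
      match_scalars <;> field_simp <;> ring
    refine ⟨e, a, a, -1, he0, he, ha1, haa, ha1, neg_ne_zero.2 one_ne_zero, hea, hsw a ha1, ?_⟩
    convert hmem a ha1 using 1
    rw [Qd, hPY, hXX, W_swap, ← hRdef]
    simp only [neg_mul, Matrix.mul_smul]
    have := Φ.two
    match_scalars <;> field_simp <;> ring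
  · -- at least four dimensions
    obtain ⟨a, ha, haval⟩ := exists_value Φ.sform (by rw [finrank_vk]; exact hk4) he he' hee hc₀
    obtain ⟨ha1, ha2⟩ := (mem_pairPerp Φ.sform).1 ha
    have hac : Φ.β a a = c₀ := haval
    have haa : Φ.β a a ≠ 0 := by rw [hac]; exact hc₀
    have hcls : Φ.Cls c₀ a := ⟨haa, Or.inr ⟨c₀, by rw [hac]⟩⟩
    have hD' : ∀ b, Φ.β b e = 0 → Φ.β b a = 0 →
        (-2 : F) • (Φ.W i a e * Φ.comp i e b Y + Φ.W i b e * Φ.comp i e a Y) ∈ 𝒳 := by
      intro b hb1 hba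
      have hab : Φ.β a b = 0 := Φ.sform.symm0 hba
      have e1 : Φ.W i a e * Y * Φ.W i b e + Φ.W i b e * Y * Φ.W i a e =
          Φ.W i a e * Φ.comp i e b Y + Φ.W i b e * Φ.comp i e a Y := by
        have hz : Φ.comp i b a Y = -Φ.comp i a b Y := by
          rw [eq_neg_iff_add_eq_zero, add_comm, hsum a b, hab, zero_smul]
        simp only [W, sub_mul, mul_sub, PXP, hsing e he0 he, hsw a ha1, hsw b hb1, hz, mul_neg,
          mul_zero]
        abel
      have hD := 𝒳.sub_mem (𝒳.sub_mem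
        (hmem (a + b) (by rw [Φ.sform.add_left, ha1, hb1, add_zero])) (hmem a ha1)) (hmem b hb1)
      convert hD using 1
      rw [← e1, qd_add _ _ hab]
      module
    have h2 : (-2 : F) ≠ 0 := neg_ne_zero.2 Φ.two
    by_cases hCa : Φ.comp i e a Y = 0
    · set b := l - (Φ.β l a / Φ.β a a) • a
      have hb1 : Φ.β b e = 0 := by
        rw [Φ.sform.sub_left, Φ.sform.smul_left, hl1, ha1, mul_zero, sub_zero]
      have hba : Φ.β b a = 0 := by
        rw [Φ.sform.sub_left, Φ.sform.smul_left, div_mul_cancel₀ _ haa, sub_self]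
      refine ⟨e, a, b, -2, he0, he, ha1, haa, hb1, h2, fun h => hR' ?_, hsw b hb1, ?_⟩
      · rw [comp_sub_right, comp_smul_right, hCa, smul_zero, sub_zero] at h
        exact h
      · have := hD' b hb1 hba
        rw [hCa, mul_zero, add_zero] at this
        rwa [Matrix.mul_smul]
    obtain ⟨b, hb, hbb, hba⟩ := exists_two_pairPerp Φ.sform (by rw [finrank_vk]; exact hk4) he he'
      hee ha haa
    obtain ⟨hb1, hb2⟩ := (mem_pairPerp Φ.sform).1 hb
    have hTW : ∀ (M : Matrix (Fin k) (Fin k) F) v C, Cm i C →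
        fa i M * (Φ.W i v e * C) * fa i (Φ.adj1 M) = Φ.W i (M *ᵥ v) (M *ᵥ e) * C := by
      intro M v C hC
      rw [mul_assoc, mul_assoc, (hC _).eq, ← mul_assoc, ← mul_assoc, W, mul_sub, sub_mul, conj_P,
        conj_P, adj1_adj1]
      rfl
    have hsep : ∀ M : Matrix (Fin k) (Fin k) F,
        (∀ X ∈ 𝒳, fa i M * X * fa i (Φ.adj1 M) ∈ 𝒳) →
        Φ.W i (M *ᵥ a) (M *ᵥ e) = (-Φ.W i a e : MT) → Φ.W i (M *ᵥ b) (M *ᵥ e) = (Φ.W i b e : MT) →
        (-4 : F) • (Φ.W i b e * Φ.comp i e a Y) ∈ 𝒳 := by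
      intro M hM h1 h2
      have hT := hM _ (hD' b hb1 hba)
      rw [Matrix.mul_smul, Matrix.smul_mul, mul_add, add_mul, hTW _ _ _ (Φ.cm_comp _ _ _ _),
        hTW _ _ _ (Φ.cm_comp _ _ _ _), h1, h2] at hT
      convert 𝒳.add_mem (hD' b hb1 hba) hT using 1
      simp only [neg_mul]
      module
    have h4 : (-4 : F) ≠ 0 := by
      rw [neg_ne_zero, show (4 : F) = 2 ^ 2 by norm_num]
      exact pow_ne_zero _ Φ.two
    rcases Nat.lt_or_ge t 3 with ht | ht
    swap
    · refine ⟨e, b, a, -4, he0, he, hb1, hbb, ha1, h4, hCa, hsw a ha1, ?_⟩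
      rw [Matrix.mul_smul]
      refine hsep (Φ.T1 a) (fun X hX => ?_) ?_ ?_
      · rw [adj1_T1]
        exact h𝒳.turn (Or.inr ht) a hcls X hX
      · rw [Φ.T1_self haa, Φ.T1_perp (Φ.sform.symm0 ha1), W_neg_right]
      · rw [Φ.T1_perp hba, Φ.T1_perp (Φ.sform.symm0 ha1), W_neg_right, W_neg_left, neg_neg]
    rcases Nat.even_or_odd k with hev | hodd
    swap
    · refine ⟨e, b, a, -4, he0, he, hb1, hbb, ha1, h4, hCa, hsw a ha1, ?_⟩
      rw [Matrix.mul_smul]
      refine hsep (Φ.T1 a) (fun X hX => ?_) ?_ ?_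
      · rw [adj1_T1]
        exact h𝒳.turn (Or.inl hodd) a hcls X hX
      · rw [Φ.T1_self haa, Φ.T1_perp (Φ.sform.symm0 ha1), W_neg_right]
      · rw [Φ.T1_perp hba, Φ.T1_perp (Φ.sform.symm0 ha1), W_neg_right, W_neg_left, neg_neg]
    rcases Nat.lt_or_ge k 5 with hk5 | hk5
    · -- four dimensions and two factors: the compressions are scalars
      have hk' : k = 4 := by omega
      obtain ⟨p, hp⟩ := hscal hk' (by omega) e a
      obtain ⟨r, hr⟩ := hscal hk' (by omega) e b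
      have hp0 : p ≠ 0 := fun h => hCa (by rw [hp, h, zero_smul])
      set θ := r • a + p • b with hθ
      have hθ1 : Φ.β θ e = 0 := by
        rw [hθ, Φ.sform.add_left, Φ.sform.smul_left, Φ.sform.smul_left, ha1, hb1, mul_zero, mul_zero,
          add_zero]
      have hθθ : Φ.β θ θ ≠ 0 := by
        intro h0
        have hθb : Φ.β θ b = p * Φ.β b b := by
          rw [hθ, Φ.sform.add_left, Φ.sform.smul_left, Φ.sform.smul_left, Φ.sform.symm0 hba, mul_zero,
            zero_add]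
        have hli : LinearIndependent F ![e, θ] := LinearIndependent.pair_iff.2 fun u v huv => by
          have e2 := congrArg (Φ.β · b) huv
          simp only [Φ.sform.add_left, Φ.sform.smul_left, Φ.sform.symm0 hb1, hθb, Φ.sform.zero_left,
            mul_zero, zero_add, mul_eq_zero, hp0, hbb, or_false] at e2
          rw [e2, zero_smul, add_zero] at huv
          exact ⟨(smul_eq_zero.1 huv).resolve_right he0, e2⟩
        have h1 := hminus hk' (Submodule.span F (Set.range ![e, θ])) (fun x hx => ?_)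
        · rw [finrank_span_eq_card hli, Fintype.card_fin] at h1
          omega
        · rw [Matrix.range_cons, Matrix.range_cons, Matrix.range_empty, Set.union_empty,
            Set.singleton_union] at hx
          obtain ⟨u, v, rfl⟩ := Submodule.mem_span_pair.1 hx
          simp [Φ.sform.add_left, Φ.sform.add_right, Φ.sform.smul_left, Φ.sform.smul_right, he, h0,
            hθ1, Φ.sform.symm0 hθ1]
      refine ⟨e, θ, a, -2 / p, he0, he, hθ1, hθθ, ha1, div_ne_zero h2 hp0, hCa, hsw a ha1, ?_⟩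
      convert hD' b hb1 hba using 1
      rw [hp, hr, hθ]
      simp only [W, P_add_left, P_add_right, P_smul_left, P_smul_right, Matrix.mul_smul,
        Matrix.smul_mul, mul_one, sub_mul, add_mul]
      match_scalars <;> field_simp
    · -- a third direction
      obtain ⟨c, hc, hcc, hca, hcb⟩ : ∃ c ∈ pairPerp Φ.sform e e',
          Φ.β c c ≠ 0 ∧ Φ.β c a = 0 ∧ Φ.β c b = 0 := by
        have HR := Φ.sform.restrict (CfsgLib.MaxSub.TensorOO.pairPerp_nondeg Φ.sform he he' hee)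
        have hd := CfsgLib.MaxSub.TensorOO.pairPerp_dim Φ.sform e e'
        rw [finrank_vk] at hd
        obtain ⟨z, hz1, hz2, hz3⟩ := HR.exists_aniso_perp (by omega) (n := ⟨a, ha⟩) (m := ⟨b, hb⟩)
          haa hbb (Φ.sform.symm0 hba)
        exact ⟨z, z.2, hz1, hz2, hz3⟩
      obtain ⟨hc1, -⟩ := (mem_pairPerp Φ.sform).1 hc
      refine ⟨e, b, a, -4, he0, he, hb1, hbb, ha1, h4, hCa, hsw a ha1, ?_⟩
      rw [Matrix.mul_smul]
      refine hsep (Φ.T1 a * Φ.T1 c) (fun X hX => ?_) ?_ ?_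
      · rw [adj1_mul, adj1_T1, adj1_T1, map_mul, map_mul]
        exact h𝒳.pair hev a c haa hcc X hX
      · rw [← Matrix.mulVec_mulVec, ← Matrix.mulVec_mulVec, Φ.T1_perp (Φ.sform.symm0 hca),
          Φ.T1_perp (Φ.sform.symm0 hc1), Matrix.mulVec_neg, Matrix.mulVec_neg, Φ.T1_self haa,
          Φ.T1_perp (Φ.sform.symm0 ha1), neg_neg, W_neg_left]
      · rw [← Matrix.mulVec_mulVec, ← Matrix.mulVec_mulVec, Φ.T1_perp (Φ.sform.symm0 hcb),
          Φ.T1_perp (Φ.sform.symm0 hc1), Matrix.mulVec_neg, Matrix.mulVec_neg, Φ.T1_perp hba,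
          Φ.T1_perp (Φ.sform.symm0 ha1), neg_neg, neg_neg]

end OForm

end CfsgLib.MaxSub.TensorPowOrth
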