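import Cfsg.Agent.Lib.MaxSub.TensorPowOrth.Flag
import Cfsg.Agent.Lib.MaxSub.TensorPowOrth.Split

/-!
Without elements trivial on the perpendicular of a slice, the elements of the group trivial on the flag
are Eichler transformations of the factor.
-/

set_option autoImplicit false
set_option maxHeartbeats 800000
set_option linter.unusedSectionVars false

namespace CfsgLib.MaxSub.TensorPowOrth

open Matrix Module
open CfsgLib.Aschbacher CfsgLib.MaxSub.TensorPow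
open CfsgLib.MaxSub.TensorOO (exists_pair split_pair pairPerp mem_pairPerp proj_pairPerp eich_apply
  eich_fix exists_aniso_pairPerp exists_two_pairPerp exists_value pairPerp_nondeg)

variable {F : Type*} [Field F] {k t : ℕ}

local notation "Vk" => Fin k → F
local notation "Mm" => Matrix (Fin k) (Fin k) F
local notation "MT" => Matrix (Fin t → Fin k) (Fin t → Fin k) F

namespace OForm

variable (Φ : OForm F k)

/-- No element is trivial on the perpendicular of a slice. -/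
def NoZS (G : Subgroup (GL (Fin t → Fin k) F)) : Prop :=
  ∀ i e T, e ≠ 0 → Φ.β e e = 0 → Φ.ZS G i e T → T = (0 : MT)

/-- The components at a vector of the elements supported there. -/
def gaGrp {G : Subgroup (GL (Fin t → Fin k) F)} {i : Fin t} {e e' : Vk} (he : Φ.β e e = 0)
    (he' : Φ.β e' e' = 0) (hee : Φ.β e e' = 1) (a : Vk) : AddSubgroup MT where
  carrier := {R | ∃ h ∈ G, Φ.DT i e h ∧
    ∀ x ∈ pairPerp Φ.sform e e', Φ.Ga i e' x h = (Φ.β x a / Φ.β a a) • R}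
  zero_mem' := ⟨1, one_mem G, DT.one, fun x _ => by
    rw [Ga, Units.val_one, sub_self, comp_zero, smul_zero]⟩
  add_mem' := by
    rintro R R' ⟨h, hh, hD, hR⟩ ⟨h', hh', hD', hR'⟩
    refine ⟨h * h', mul_mem hh hh', hD.mul he he' hee hD', fun x hx => ?_⟩
    rw [hD.ga_mul he he' hee hD' ((mem_pairPerp Φ.sform).1 hx).1, hR x hx, hR' x hx, smul_add]
  neg_mem' := by
    rintro R ⟨h, hh, hD, hR⟩
    refine ⟨h⁻¹, inv_mem hh, hD.inv, fun x hx => ?_⟩
    rw [hD.ga_inv he he' hee ((mem_pairPerp Φ.sform).1 hx).1, hR x hx, smul_neg]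

variable {Φ} {c₀ : F} {G : Subgroup (GL (Fin t → Fin k) F)} (O : Φ.Ov c₀ G)
include O

variable {i : Fin t} {e e' : Fin k → F} {h : GL (Fin t → Fin k) F}

/-- The Levi components are symmetric. -/
theorem Ov.ga_sym (hz : Φ.NoZS G) (he0 : e ≠ 0) (he : Φ.β e e = 0) (he' : Φ.β e' e' = 0)
    (hee : Φ.β e e' = 1) (hh : h ∈ G) (hD : Φ.DT i e h) {a : Vk}
    (ha : a ∈ pairPerp Φ.sform e e') : Φ.adj (Φ.Ga i e' a h) = Φ.Ga i e' a h := by
  obtain ⟨ha1, ha2⟩ := (mem_pairPerp Φ.sform).1 ha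
  obtain ⟨u, hu, huv⟩ := O.eu i e a he ha1
  have hD' : Φ.DT i e u := dt_E he ha1 huv
  have hLu : Φ.Lv i e e' u = -Φ.P i e a := by
    rw [Lv, huv, E_eq, add_sub_cancel_left, W]
    simp only [mul_sub, sub_mul, Matrix.mul_smul, Matrix.smul_mul, P_mul, P_Pr,
      pr1_self he he' hee, pr1_perp he he' hee ha, P_zero_right, Φ.sform.symm0 ha2,
      Φ.sform.symm e e', hee, zero_smul, one_smul, smul_zero, sub_zero, zero_sub, neg_mul]
  have hL : Φ.Lv i e e' h * Φ.P i a e = Φ.P i e e * Φ.Ga i e' a h := by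
    rw [Lv, mul_assoc, Pr, fa_mul_P, pr1_perp he he' hee ha, PXP]
    rfl
  have hval := hD.comm_val he he' hee hD'
  have hc : Φ.comp i e' e' (Φ.Lv i e e' u * Φ.adj (Φ.Lv i e e' h) -
      Φ.Lv i e e' h * Φ.adj (Φ.Lv i e e' u)) =
      Φ.Ga i e' a h - Φ.adj (Φ.Ga i e' a h) := by
    have e1 : Φ.P i e a * Φ.adj (Φ.Lv i e e' h) = Φ.adj (Φ.Lv i e e' h * Φ.P i a e) := by
      rw [adj_mul, adj_P]
    rw [hLu, adj_neg, adj_P, neg_mul, mul_neg, e1, hL, adj_mul, adj_P,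
      (Cm.adj Φ (show Cm i (Φ.Ga i e' a h) from Φ.cm_comp _ _ _ _)).P_comm]
    rw [comp_sub, comp_neg, comp_neg,
      Φ.comp_P_mul (show Cm i (Φ.adj (Φ.Ga i e' a h)) from Cm.adj Φ (Φ.cm_comp _ _ _ _)),
      Φ.comp_P_mul (show Cm i (Φ.Ga i e' a h) from Φ.cm_comp _ _ _ _), Φ.sform.symm e e', hee,
      one_mul, one_smul, one_smul]
    abel
  rw [hc] at hval
  have h0 := hz i e _ he0 he ⟨Cm.sub (Φ.cm_comp _ _ _ _) (Cm.adj Φ (Φ.cm_comp _ _ _ _)), by
      rw [adj_sub, adj_adj, neg_sub], _,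
      mul_mem (mul_mem hh hu) (inv_mem (mul_mem hu hh)), hval⟩
  exact (sub_eq_zero.1 h0).symm

variable [Finite F]

/-- The components supported at one vector commute and are scalars. -/
theorem Ov.gaGrp_scalar (hz : Φ.NoZS G) (he0 : e ≠ 0) (he : Φ.β e e = 0) (he' : Φ.β e' e' = 0)
    (hee : Φ.β e e' = 1) {a : Vk} (ha : a ∈ pairPerp Φ.sform e e') (haa : Φ.β a a ≠ 0) {R : MT}
    (hR : R ∈ Φ.gaGrp (G := G) (i := i) he he' hee a) : ∃ c : F, R = c • 1 := by
  have hsym : ∀ R ∈ Φ.gaGrp (G := G) (i := i) he he' hee a, Φ.adj R = R ∧ Cm i R := by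
    rintro R ⟨h, hh, hD, hR⟩
    have h1 := hR a ha
    rw [div_self haa, one_smul] at h1
    exact ⟨h1 ▸ O.ga_sym hz he0 he he' hee hh hD ha, h1 ▸ Φ.cm_comp _ _ _ _⟩
  have hcomm : ∀ R ∈ Φ.gaGrp (G := G) (i := i) he he' hee a,
      ∀ R' ∈ Φ.gaGrp (G := G) (i := i) he he' hee a, Commute R R' := by
    rintro R hR' R' hR''
    obtain ⟨hRs, hRc⟩ := hsym R hR'
    obtain ⟨hR's, hR'c⟩ := hsym R' hR''
    obtain ⟨h, hh, hD, hR⟩ := hR'
    obtain ⟨h', hh', hD', hR'⟩ := hR''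
    have hL : ∀ {h : GL (Fin t → Fin k) F} {R : MT}, Cm i R →
        (∀ x ∈ pairPerp Φ.sform e e', Φ.Ga i e' x h = (Φ.β x a / Φ.β a a) • R) →
        Φ.Lv i e e' h = (Φ.β a a)⁻¹ • (Φ.P i e a * R) := by
      intro h R hc hR
      refine Φ.comp_ext i fun x y => ?_
      obtain ⟨ha1, ha2⟩ := (mem_pairPerp Φ.sform).1 ha
      rw [comp_Lv he he' hee, hR _ (pr1_mem he he' hee y), comp_smul, Φ.comp_P_mul hc, pr1_mulVec,
        Φ.sform.sub_left, Φ.sform.sub_left, Φ.sform.smul_left, Φ.sform.smul_left,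
        Φ.sform.symm0 ha1, Φ.sform.symm0 ha2, Φ.beta_symm a y, smul_smul, smul_smul]
      congr 1
      ring
    have hp : ∀ {R R' : MT}, Cm i R → Cm i R' → Φ.adj R' = R' →
        ((Φ.β a a)⁻¹ • (Φ.P i e a * R)) * Φ.adj ((Φ.β a a)⁻¹ • (Φ.P i e a * R')) =
          (Φ.β a a)⁻¹ • (Φ.P i e e * (R * R')) := by
      intro R R' hc hc' hs
      rw [adj_smul, adj_mul, adj_P, hs, hc'.P_comm, Matrix.smul_mul, Matrix.mul_smul, smul_smul,
        mul_assoc (Φ.P i e a), ← mul_assoc R, hc.P_comm, mul_assoc (Φ.P i a e), P_mul', smul_smul]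
      congr 1
      field_simp
    have hval := hD.comm_val he he' hee hD'
    rw [hL hRc hR, hL hR'c hR', hp hR'c hRc hRs, hp hRc hR'c hR's, ← smul_sub, ← mul_sub,
      comp_smul, Φ.comp_P_mul ((hR'c.mul hRc).sub (hRc.mul hR'c)), Φ.sform.symm e e', hee, one_mul,
      one_smul] at hval
    have h0 := hz i e _ he0 he ⟨((hR'c.mul hRc).sub (hRc.mul hR'c)).smul _, by
        rw [adj_smul, adj_sub, adj_mul, adj_mul, hRs, hR's, ← smul_neg, neg_sub], _,
        mul_mem (mul_mem hh hh') (inv_mem (mul_mem hh' hh)), hval⟩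
    exact (sub_eq_zero.1 ((smul_eq_zero.1 h0).resolve_left (inv_ne_zero haa))).symm
  have hinv : ∀ m, m ≠ i → ∀ M, Φ.FacIn G m M →
      ∀ R ∈ Φ.gaGrp (G := G) (i := i) he he' hee a,
        fa m M * R * fa m (Φ.adj1 M) ∈ Φ.gaGrp (G := G) (i := i) he he' hee a := by
    rintro m hm M hM R ⟨h, hh, hD, hR⟩
    obtain ⟨hM1, u, hu, huv⟩ := hM
    obtain ⟨hD', hga⟩ := hD.conj_other hm hM1 huv
    refine ⟨u * h * u⁻¹, mul_mem (mul_mem hu hh) (inv_mem hu), hD', fun x hx => ?_⟩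
    rw [hga, hR x hx, Matrix.mul_smul, Matrix.smul_mul]
  refine scalar_of_commute fun m => ?_
  rcases eq_or_ne m i with rfl | hmi
  · exact (hsym R hR).2
  revert R
  intro R hR
  change Cm m R
  by_contra hcm
  set 𝒳 := Φ.gaGrp (G := G) (i := i) he he' hee a
  have hI : Φ.InvSet c₀ m 𝒳 := O.conj_mem fun M hM => hinv m hmi M hM
  have hanti : ∀ {S : Set MT}, (∀ R ∈ S, Cm m R ∧ Cm i R) →
      (∀ R ∈ S, ∀ R' ∈ S, R * R' = 0) →
      (∀ j, j ≠ m → j ≠ i → ∀ M, Φ.FacIn G j M → ∀ R ∈ S, fa j M * R * fa j (Φ.adj1 M) ∈ S) →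
      ∀ R ∈ S, R = 0 := by
    intro S hS h0 hSinv R hR
    refine Φ.nilp_zero O.hk S (fun A hA B hB => by rw [h0 A hA B hB, h0 B hB A hA, neg_zero])
      (fun l => ?_) hR
    by_cases hlm : l = m
    · exact Or.inl fun R hR => hlm ▸ (hS R hR).1
    by_cases hli : l = i
    · exact Or.inl fun R hR => hli ▸ (hS R hR).2
    refine Or.inr fun f θ hf hθ R hR => ?_
    have := hSinv l hlm hli _ (O.facIn_E hf hθ) R hR
    rwa [adj1_E1] at this
  have hpush : ∀ (X : MT) (j : Fin t) (M : Mm), Cm j X → ∀ Y : MT,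
      fa j M * (X * Y) * fa j (Φ.adj1 M) = X * (fa j M * Y * fa j (Φ.adj1 M)) := fun X j M hX Y => by
    rw [← mul_assoc (fa j M), ← (hX M).eq, mul_assoc X, mul_assoc X]
  by_cases hsing : ∀ f, f ≠ 0 → Φ.β f f = 0 → Φ.comp m f f R = 0
  · obtain ⟨f, θ, x, c, hf0, hf, hθf, hθθ, -, hc, hne, -, hmem⟩ :=
      hI.split_skew O.hk O.hq O.c₀_ne O.minus
        (O.comp_scalar (D := {i}) (by simp [hmi])
          (fun q hq => Finset.mem_singleton.1 hq ▸ (hsym R hR).2) (Finset.mem_singleton_self i))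
        hR hsing hcm
    obtain ⟨f', hf', hff⟩ := exists_pair Φ.sform hf0 hf
    set b := θ - Φ.β θ f' • f
    have hb1 : Φ.β b f = 0 := by
      rw [Φ.sform.sub_left, Φ.sform.smul_left, hθf, hf, mul_zero, sub_zero]
    have hb2 : Φ.β b f' = 0 := by
      rw [Φ.sform.sub_left, Φ.sform.smul_left, hff, mul_one, sub_self]
    have hbb : Φ.β b b = Φ.β θ θ := by
      simp only [b, Φ.sform.sub_left, Φ.sform.sub_right, Φ.sform.smul_left, Φ.sform.smul_right, hθf,
        Φ.sform.symm0 hθf, hf]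
      ring
    have hWb : Φ.W m θ f = (Φ.W m b f : MT) := by
      simp only [b, W, P_sub_left, P_sub_right, P_smul_left, P_smul_right]
      abel
    set n := Φ.β b b with hn
    have hn0 : n ≠ 0 := by rw [hbb]; exact hθθ
    let S : Set MT := {A | Cm m A ∧ Cm i A ∧ Φ.W m b f * A ∈ 𝒳}
    have hseed : c • Φ.comp m f x R ∈ S :=
      ⟨(Φ.cm_comp _ _ _ _).smul _, Cm.smul (Cm.sum _ _ fun r _ =>
        ((cm_fa hmi _).mul (hsym R hR).2).mul (cm_fa hmi _)) _, by rw [← hWb]; exact hmem⟩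
    have hzero : ∀ A ∈ S, ∀ B ∈ S, A * B = 0 := by
      rintro A ⟨hAm, hAi, hA⟩ B ⟨hBm, hBi, hB⟩
      have hM := (O.facIn_E (i := m) (θ := (n / 2)⁻¹ • b) hf
        (by rw [Φ.sform.smul_left, hb1, mul_zero])).mul (O.facIn_E hf' hb2)
      have hB' := hinv m hmi _ hM _ hB
      rw [conj_dec hBm, W, mul_sub, sub_mul, conj_P, conj_P, adj1_adj1,
        show (Φ.E1 f ((n / 2)⁻¹ • b) * Φ.E1 f' b) *ᵥ f = -(n / 2) • f' by
          rw [← Matrix.mulVec_mulVec, E1_mulVec, E1_mulVec,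
            CfsgLib.MaxSub.TensorOO.eich_swap Φ.sform hf hff
              ((mem_pairPerp Φ.sform).2 ⟨hb1, hb2⟩) hn0],
        show (Φ.E1 f ((n / 2)⁻¹ • b) * Φ.E1 f' b) *ᵥ b = -b - n • f' by
          rw [← Matrix.mulVec_mulVec, E1_mulVec, E1_mulVec]
          simp only [eich_apply, Φ.sform.add_left, Φ.sform.add_right, Φ.sform.sub_left,
            Φ.sform.sub_right, Φ.sform.smul_left, Φ.sform.smul_right, hf, hf', hff,
            Φ.sform.symm f f', Φ.sform.symm b f, Φ.sform.symm b f', hb1, hb2, ← hn]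
          have := Φ.two
          match_scalars <;> field_simp <;> ring] at hB'
      have e1 : Φ.P m (-b - n • f') (-(n / 2) • f') - Φ.P m (-(n / 2) • f') (-b - n • f') =
          (n / 2) • (Φ.W m b f' : MT) := by
        simp only [W, P_sub_left, P_sub_right, P_smul_left, P_smul_right, P_neg_left, P_neg_right]
        module
      rw [e1, Matrix.smul_mul] at hB'
      have h1 := congrArg (Φ.comp m f' f) (hcomm _ hA _ hB').eq
      have hd : ∀ {u v : Vk} {C D : MT}, Cm m C →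
          Φ.W m b u * C * (Φ.W m b v * D) = Φ.W m b u * Φ.W m b v * (C * D) := fun {u v C D} hC => by
        rw [mul_assoc, ← mul_assoc C, show C * Φ.W m b v = Φ.W m b v * C by
          simp only [W, mul_sub, sub_mul, hC.P_comm], mul_assoc (Φ.W m b v), ← mul_assoc]
      rw [Matrix.mul_smul, Matrix.smul_mul, comp_smul, comp_smul, hd hAm, hd hBm,
        Φ.comp_mul_cm (hAm.mul hBm), Φ.comp_mul_cm (hBm.mul hAm)] at h1
      simp only [W, sub_mul, mul_sub, P_mul, comp_sub, comp_neg, comp_smul, comp_P, hf, hf', hff, hb1, hb2,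
        Φ.sform.symm f f', Φ.sform.symm b f, Φ.sform.symm b f', ← hn, zero_mul, mul_zero, zero_smul,
        smul_zero, sub_zero, zero_sub, one_mul, one_smul, Matrix.neg_mul, Matrix.smul_mul,
        neg_zero] at h1
      refine (smul_eq_zero.1 (?_ : (n / 2 * n) • (A * B) = 0)).resolve_left
        (mul_ne_zero (div_ne_zero hn0 Φ.two) hn0)
      rw [mul_smul]
      simpa using h1
    refine hne ((smul_eq_zero.1 (hanti (fun A hA => ⟨hA.1, hA.2.1⟩) hzero ?_ _ hseed)).resolve_left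
      hc)
    rintro j hjm hji M hM A ⟨hAm, hAi, hA⟩
    refine ⟨((cm_fa hjm _).mul hAm).mul (cm_fa hjm _), ((cm_fa hji _).mul hAi).mul (cm_fa hji _), ?_⟩
    have := hinv j hji M hM _ hA
    rwa [hpush _ j M (Φ.cm_W (Ne.symm hjm) b f)] at this
  · push Not at hsing
    obtain ⟨f, hf0, hf, hne⟩ := hsing
    obtain ⟨c, hc, hmem⟩ := hI.split_sandwich O.hk O.hq hf hR
    rw [PXP, ← Matrix.mul_smul] at hmem
    obtain ⟨f', hf', hff⟩ := exists_pair Φ.sform hf0 hf
    obtain ⟨M, hM, s, hs, hMf⟩ := O.facIn_step (i := m) hf hf' (by rw [hff]; exact one_ne_zero)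
    let S : Set MT := {A | Cm m A ∧ Cm i A ∧ Φ.P m f f * A ∈ 𝒳}
    have hseed : c • Φ.comp m f f R ∈ S :=
      ⟨(Φ.cm_comp _ _ _ _).smul _, Cm.smul (Cm.sum _ _ fun r _ =>
        ((cm_fa hmi _).mul (hsym R hR).2).mul (cm_fa hmi _)) _, hmem⟩
    have hzero : ∀ A ∈ S, ∀ B ∈ S, A * B = 0 := by
      rintro A ⟨hAm, hAi, hA⟩ B ⟨hBm, hBi, hB⟩
      have hB' := hinv m hmi _ hM _ hB
      rw [conj_dec hBm, conj_P, adj1_adj1, hMf, P_smul_left, P_smul_right, smul_smul,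
        Matrix.smul_mul] at hB'
      have h1 := congrArg (Φ.comp m f' f) (hcomm _ hA _ hB').eq
      have hd : ∀ {u v : Vk} {C D : MT}, Cm m C →
          Φ.P m u u * C * (Φ.P m v v * D) = Φ.β u v • (Φ.P m u v * (C * D)) := fun {u v C D} hC => by
        rw [mul_assoc, ← mul_assoc C, hC.P_comm, mul_assoc (Φ.P m v v), P_mul']
      rw [Matrix.mul_smul, Matrix.smul_mul, comp_smul, comp_smul, hd hAm, hd hBm, comp_smul,
        comp_smul, Φ.comp_P_mul (hAm.mul hBm), Φ.comp_P_mul (hBm.mul hAm), hf', hf,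
        Φ.sform.symm f f', hff, zero_mul, zero_smul, smul_zero, one_mul, one_smul, one_smul,
        smul_zero] at h1
      exact (smul_eq_zero.1 h1).resolve_left (mul_ne_zero hs hs)
    refine hne ((smul_eq_zero.1 (hanti (fun A hA => ⟨hA.1, hA.2.1⟩) hzero ?_ _ hseed)).resolve_left
      hc)
    rintro j hjm hji M hM A ⟨hAm, hAi, hA⟩
    refine ⟨((cm_fa hjm _).mul hAm).mul (cm_fa hjm _), ((cm_fa hji _).mul hAi).mul (cm_fa hji _), ?_⟩
    have := hinv j hji M hM _ hA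
    rwa [hpush _ j M (Φ.cm_P (Ne.symm hjm) f f)] at this

/-- The turnable vectors span the perpendicular of a pair, in dimension at least four. -/
theorem Ov.span_cls (hk4 : 4 ≤ k) (he : Φ.β e e = 0) (he' : Φ.β e' e' = 0)
    (hee : Φ.β e e' = 1) (P : Submodule F Vk)
    (hP : ∀ a ∈ pairPerp Φ.sform e e', Φ.Cls c₀ a → a ∈ P) {x : Vk}
    (hx : x ∈ pairPerp Φ.sform e e') : x ∈ P := by
  have h4 : 4 ≤ finrank F Vk := by rw [finrank_vk]; exact hk4
  obtain ⟨a, ha, hav⟩ := exists_value Φ.sform h4 he he' hee O.c₀_ne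
  have hca : Φ.β a a = c₀ := hav
  have hcls : ∀ {v : Vk}, Φ.β v v = c₀ → Φ.Cls c₀ v := fun hv =>
    ⟨by rw [hv]; exact O.c₀_ne, Or.inr ⟨c₀, by rw [hv]⟩⟩
  have haP : a ∈ P := hP a ha (hcls hca)
  have hrefl : ∀ w ∈ pairPerp Φ.sform e e', Φ.β w w ≠ 0 → Φ.β w a ≠ 0 → w ∈ P := by
    intro w hw hww hwa
    set r := a - (2 * Φ.β w a / Φ.β w w) • w with hr
    have hrK : r ∈ pairPerp Φ.sform e e' := sub_mem ha (Submodule.smul_mem _ _ hw)
    have hrr : Φ.β r r = c₀ := by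
      rw [hr]
      simp only [Φ.sform.sub_left, Φ.sform.sub_right, Φ.sform.smul_left, Φ.sform.smul_right, hca,
        Φ.beta_symm w a]
      field_simp
      ring
    have h1 := P.sub_mem haP (hP r hrK (hcls hrr))
    rw [hr, sub_sub_cancel] at h1
    have hne : 2 * Φ.β w a / Φ.β w w ≠ 0 := div_ne_zero (mul_ne_zero Φ.two hwa) hww
    have := P.smul_mem (2 * Φ.β w a / Φ.β w w)⁻¹ h1
    rwa [inv_smul_smul₀ hne] at this
  have hperp : ∀ w ∈ pairPerp Φ.sform e e', Φ.β w a = 0 → Φ.β w w ≠ 0 → w ∈ P := by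
    intro w hw hwa hww
    rcases Nat.even_or_odd k with hev | hodd
    · exact hP w hw ⟨hww, Or.inl hev⟩
    have hwa' : Φ.β a w = 0 := Φ.sform.symm0 hwa
    have hsum : ∀ v ∈ pairPerp Φ.sform e e', Φ.β v a = 0 → Φ.β v v + c₀ ≠ 0 → a + v ∈ P := by
      intro v hv hva hn
      refine hrefl _ (add_mem ha hv) ?_ ?_
      · simp only [Φ.sform.add_left, Φ.sform.add_right, hva, Φ.sform.symm0 hva, hca]
        rw [add_zero, zero_add, add_comm]
        exact hn
      · rw [Φ.sform.add_left, hva, add_zero, hca]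
        exact O.c₀_ne
    by_cases hn : Φ.β w w + c₀ = 0
    · -- a third direction
      have h5 : 5 ≤ k := by
        rcases hodd with ⟨j, rfl⟩
        omega
      obtain ⟨z, hz, hzz, hza, hzw⟩ : ∃ z ∈ pairPerp Φ.sform e e',
          Φ.β z z ≠ 0 ∧ Φ.β z a = 0 ∧ Φ.β z w = 0 := by
        have HR := Φ.sform.restrict (pairPerp_nondeg Φ.sform he he' hee)
        have hd := CfsgLib.MaxSub.TensorOO.pairPerp_dim Φ.sform e e'
        rw [finrank_vk] at hd
        obtain ⟨z, hz1, hz2, hz3⟩ := HR.exists_aniso_perp (by omega) (n := ⟨a, ha⟩) (m := ⟨w, hw⟩)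
          (by show Φ.β a a ≠ 0; rw [hca]; exact O.c₀_ne) hww hwa'
        exact ⟨z, z.2, hz1, hz2, hz3⟩
      have hwz : Φ.β w z = 0 := Φ.sform.symm0 hzw
      have hne : ∀ v, v = w + z ∨ v = w - z → Φ.β v v + c₀ ≠ 0 := by
        rintro v (rfl | rfl) <;>
        · simp only [Φ.sform.add_left, Φ.sform.add_right, Φ.sform.sub_left, Φ.sform.sub_right, hzw,
            hwz]
          intro h0
          exact hzz (by linear_combination h0 - hn)
      have h1 := hsum (w + z) (add_mem hw hz) (by rw [Φ.sform.add_left, hwa, hza, add_zero])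
        (hne _ (Or.inl rfl))
      have h2 := hsum (w - z) (sub_mem hw hz) (by rw [Φ.sform.sub_left, hwa, hza, sub_zero])
        (hne _ (Or.inr rfl))
      have h3 := P.sub_mem (P.smul_mem (2⁻¹ : F) (P.add_mem h1 h2)) haP
      convert h3 using 1
      have := Φ.two
      match_scalars <;> field_simp <;> ring
    · have := P.sub_mem (hsum w hw hwa hn) haP
      rwa [add_sub_cancel_left] at this
  have haa : Φ.β a a ≠ 0 := by rw [hca]; exact O.c₀_ne
  set y := x - (Φ.β x a / Φ.β a a) • a with hy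
  have hyK : y ∈ pairPerp Φ.sform e e' := sub_mem hx (Submodule.smul_mem _ _ ha)
  have hya : Φ.β y a = 0 := by
    rw [hy, Φ.sform.sub_left, Φ.sform.smul_left, div_mul_cancel₀ _ haa, sub_self]
  suffices hyP : y ∈ P by
    have := P.add_mem hyP (P.smul_mem (Φ.β x a / Φ.β a a) haP)
    rwa [hy, sub_add_cancel] at this
  by_cases hyy : Φ.β y y = 0
  · obtain ⟨b, hb, hbb, hba⟩ := exists_two_pairPerp Φ.sform h4 he he' hee ha haa
    obtain ⟨v, hv, hvv, hva, hyv⟩ : ∃ v ∈ pairPerp Φ.sform e e', Φ.β v v ≠ 0 ∧ Φ.β v a = 0 ∧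
        Φ.β (y + v) (y + v) ≠ 0 := by
      by_cases h1 : Φ.β (y + b) (y + b) = 0
      · refine ⟨-b, neg_mem hb, by rwa [Φ.sform.neg_left, Φ.sform.neg_right, neg_neg],
          by rw [Φ.sform.neg_left, hba, neg_zero], fun h2 => ?_⟩
        simp only [Φ.sform.add_left, Φ.sform.add_right, Φ.sform.neg_left, Φ.sform.neg_right,
          hyy] at h1 h2
        exact mul_ne_zero Φ.two hbb (by linear_combination h1 + h2)
      · exact ⟨b, hb, hbb, hba, h1⟩
    have := P.sub_mem (hperp (y + v) (add_mem hyK hv) (by rw [Φ.sform.add_left, hya, hva, add_zero])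
      hyv) (hperp v hv hva hvv)
    rwa [add_sub_cancel_right] at this
  · exact hperp y hyK hya hyy

/-- Combining an element with its conjugate by an isometry fixing the centre. -/
theorem Ov.ga_diff (he : Φ.β e e = 0) (he' : Φ.β e' e' = 0) (hee : Φ.β e e' = 1) (hh : h ∈ G)
    (hD : Φ.DT i e h) {M : Mm} (hM : Φ.FacIn G i M) (hMe : M *ᵥ e = e) :
    ∃ h' ∈ G, Φ.DT i e h' ∧ ∀ y, Φ.β y e = 0 →
      Φ.Ga i e' y h' = Φ.Ga i e' y h - Φ.Ga i e' (Φ.adj1 M *ᵥ y) h := by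
  obtain ⟨hM1, u, hu, huv⟩ := hM
  obtain ⟨hD', hga⟩ := hD.inv.conj_self he he' hee one_ne_zero hM1
    (by rw [hMe, one_smul]) huv
  refine ⟨h * (u * h⁻¹ * u⁻¹), mul_mem hh (mul_mem (mul_mem hu (inv_mem hh)) (inv_mem hu)),
    hD.mul he he' hee hD', fun y hy => ?_⟩
  have hMy : Φ.β (Φ.adj1 M *ᵥ y) e = 0 := by
    rw [beta_mulVec, adj1_adj1, hMe, hy]
  rw [hD.ga_mul he he' hee hD' hy, hga y hy, one_smul, hD.ga_inv he he' hee hMy, ← sub_eq_add_neg]

omit O [Finite F] in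
theorem pair_mulVec {a c : Vk} (ha : Φ.β a a ≠ 0) (hc : Φ.β c c ≠ 0) (hca : Φ.β c a = 0) (y : Vk) :
    Φ.adj1 (Φ.T1 a * Φ.T1 c) *ᵥ y =
      y - (2 * Φ.β y a / Φ.β a a) • a - (2 * Φ.β y c / Φ.β c c) • c := by
  rw [adj1_mul, adj1_T1, adj1_T1, ← Matrix.mulVec_mulVec, T1_mulVec, T1_mulVec,
    Φ.sform.sub_right, Φ.sform.smul_right, hca, Φ.beta_symm y a, Φ.beta_symm y c]
  match_scalars <;> field_simp <;> ring

/-- In four dimensions and two factors the Levi components are scalars. -/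
theorem Ov.ga_scalar_four (hk4 : k = 4) (ht : t ≤ 2) (hz : Φ.NoZS G) (he0 : e ≠ 0)
    (he : Φ.β e e = 0) (he' : Φ.β e' e' = 0) (hee : Φ.β e e' = 1) (hh : h ∈ G) (hD : Φ.DT i e h)
    {a : Vk} (ha : a ∈ pairPerp Φ.sform e e') :
    ∃ c : F, Φ.Ga i e' a h = c • 1 := by
  have hGcm : ∀ x, Cm i (Φ.Ga i e' x h) := fun x => Φ.cm_comp _ _ _ _
  by_cases hm : ∃ m : Fin t, m ≠ i
  swap
  · push Not at hm
    exact scalar_of_commute fun l X => by rw [hm l]; exact hGcm a X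
  obtain ⟨m, hmi⟩ := hm
  let 𝒳 : AddSubgroup MT :=
    { carrier := {L | ∃ h ∈ G, Φ.DT i e h ∧ Φ.Lv i e e' h = L}
      zero_mem' := ⟨1, one_mem G, DT.one, by rw [Lv, Units.val_one, sub_self, mul_zero, zero_mul]⟩
      add_mem' := by
        rintro _ _ ⟨h, hh, hD, rfl⟩ ⟨h', hh', hD', rfl⟩
        refine ⟨h * h', mul_mem hh hh', hD.mul he he' hee hD', Φ.comp_ext i fun x y => ?_⟩
        rw [comp_Lv he he' hee, comp_add, comp_Lv he he' hee, comp_Lv he he' hee,
          hD.ga_mul he he' hee hD' ((mem_pairPerp Φ.sform).1 (pr1_mem he he' hee y)).1, smul_add]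
      neg_mem' := by
        rintro _ ⟨h, hh, hD, rfl⟩
        refine ⟨h⁻¹, inv_mem hh, hD.inv, Φ.comp_ext i fun x y => ?_⟩
        rw [comp_Lv he he' hee, comp_neg, comp_Lv he he' hee,
          hD.ga_inv he he' hee ((mem_pairPerp Φ.sform).1 (pr1_mem he he' hee y)).1, smul_neg] }
  have hconj : ∀ M, Φ.FacIn G m M → ∀ L ∈ 𝒳, fa m M * L * fa m (Φ.adj1 M) ∈ 𝒳 := by
    rintro M ⟨hM1, u, hu, huv⟩ L ⟨h, hh, hD, rfl⟩
    refine ⟨u * h * u⁻¹, mul_mem (mul_mem hu hh) (inv_mem hu), (hD.conj_other hmi hM1 huv).1, ?_⟩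
    refine Φ.comp_ext i fun x y => ?_
    rw [comp_Lv he he' hee, (hD.conj_other hmi hM1 huv).2, Φ.comp_mul_cm (cm_fa hmi _),
      Φ.cm_mul_comp (cm_fa hmi _), comp_Lv he he' hee, Matrix.mul_smul, Matrix.smul_mul]
  have hI : Φ.InvSet c₀ m 𝒳 := O.conj_mem hconj
  have hscal : ∀ {X : MT}, Cm i X → Cm m X → ∃ c : F, X = c • 1 := fun {X} h1 h2 =>
    scalar_of_commute fun l Y => by
      rcases eq_or_ne l m with rfl | hlm
      · exact h2 Y
      · obtain rfl : l = i := by omega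
        exact h1 Y
  have hcomm : ∀ L ∈ 𝒳, ∀ L' ∈ 𝒳, L * Φ.adj L' = L' * Φ.adj L := by
    rintro _ ⟨h, hh, hD, rfl⟩ _ ⟨h', hh', hD', rfl⟩
    have hv := hD.comm_val he he' hee hD'
    have hskew : Φ.adj (Φ.Lv i e e' h' * Φ.adj (Φ.Lv i e e' h) -
        Φ.Lv i e e' h * Φ.adj (Φ.Lv i e e' h')) = -(Φ.Lv i e e' h' * Φ.adj (Φ.Lv i e e' h) -
        Φ.Lv i e e' h * Φ.adj (Φ.Lv i e e' h')) := by
      rw [adj_sub, adj_mul, adj_mul, adj_adj, adj_adj, neg_sub]
    have h0 := hz i e _ he0 he ⟨Φ.cm_comp _ _ _ _, by rw [adj_comp, hskew, comp_neg], _,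
      mul_mem (mul_mem hh hh') (inv_mem (mul_mem hh' hh)), hv⟩
    have h1 : Φ.Lv i e e' h' * Φ.adj (Φ.Lv i e e' h) -
        Φ.Lv i e e' h * Φ.adj (Φ.Lv i e e' h') = 0 := Φ.comp_ext i fun x y => by
      rw [comp_sub, comp_Lv_mul he he' hee hD' hD, comp_Lv_mul he he' hee hD hD', ← smul_sub,
        ← comp_sub, h0, smul_zero, comp_zero]
    exact (sub_eq_zero.1 h1).symm
  have hzero : ∀ f, f ≠ 0 → Φ.β f f = 0 → ∀ x ∈ pairPerp Φ.sform e e',
      Φ.comp m f f (Φ.Ga i e' x h) = 0 := by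
    intro f hf0 hf x hx
    obtain ⟨f', hf', hff⟩ := exists_pair Φ.sform hf0 hf
    obtain ⟨c, hc, hmem⟩ := hI.split_sandwich O.hk O.hq hf (Y := Φ.Lv i e e' h) ⟨h, hh, hD, rfl⟩
    rw [PXP] at hmem
    set C := Φ.comp m f f (Φ.Lv i e e' h) with hC
    obtain ⟨M, hM, s, hs, hMf⟩ := O.facIn_step (i := m) hf hf' (by rw [hff]; exact one_ne_zero)
    have hmem' := hconj M hM _ hmem
    have hCm : Cm m C := Φ.cm_comp _ _ _ _
    rw [Matrix.mul_smul, Matrix.smul_mul, conj_dec hCm, conj_P, adj1_adj1, hMf, P_smul_left,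
      P_smul_right, smul_smul, Matrix.smul_mul, smul_smul] at hmem'
    have h1 := congrArg (Φ.comp m f' f) (hcomm _ hmem _ hmem')
    have hd : ∀ u v, Φ.P m u u * C * (Φ.adj C * Φ.P m v v) =
        Φ.β u v • (Φ.P m u v * (C * Φ.adj C)) := fun u v => by
      rw [mul_assoc, ← mul_assoc C, (hCm.mul (Cm.adj Φ hCm)).P_comm, P_mul']
    simp only [adj_smul, adj_mul, adj_P, Matrix.mul_smul, Matrix.smul_mul, hd, comp_smul,
      Φ.comp_P_mul (hCm.mul (Cm.adj Φ hCm)), hf, hf', hff, Φ.sform.symm f f', zero_mul, one_mul,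
      zero_smul, one_smul, smul_zero, smul_smul] at h1
    have h2 : C * Φ.adj C = 0 := (smul_eq_zero.1 h1).resolve_left (by simp [hc, hs])
    have hC1 : ∀ u v, ∃ c : F, Φ.comp i u v C = c • 1 := fun u v => hscal (Φ.cm_comp _ _ _ _)
      (Cm.sum _ _ fun r _ => ((cm_fa (Ne.symm hmi) _).mul hCm).mul (cm_fa (Ne.symm hmi) _))
    have hswap : ∀ u v, Φ.comp i u v C = Φ.comp m f f (Φ.comp i u v (Φ.Lv i e e' h)) := fun u v => by
      simp only [hC, comp, Finset.mul_sum, Finset.sum_mul]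
      rw [Finset.sum_comm]
      refine Finset.sum_congr rfl fun r _ => Finset.sum_congr rfl fun q _ => ?_
      simp only [← mul_assoc]
      rw [(fa_commute (Ne.symm hmi) _ _).eq]
      simp only [mul_assoc]
      rw [(fa_commute (Ne.symm hmi) _ _).eq]
    obtain ⟨φ, hφ⟩ : ∃ φ : Vk →ₗ[F] F, ∀ v, Φ.comp i e' v C = φ v • (1 : MT) := by
      haveI : Nonempty (Fin t → Fin k) := ⟨fun _ => ⟨0, by omega⟩⟩
      obtain ⟨x₀⟩ := ‹Nonempty (Fin t → Fin k)›
      refine ⟨(Matrix.entryLinearMap F F x₀ x₀).comp ((Φ.compL i C) e'), fun v => ?_⟩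
      obtain ⟨c, hc⟩ := hC1 e' v
      simp [compL, hc]
    obtain ⟨w, hw⟩ := Φ.sform.exists_repr φ
    have hCP : C = Φ.P i e w := Φ.comp_ext i fun u v => by
      have e1 : ∀ u v, Φ.comp i u v C = Φ.β u e • Φ.comp m f f (Φ.Ga i e' (Φ.pr1 e e' *ᵥ v) h) :=
        fun u v => by rw [hswap, comp_Lv he he' hee, comp_smul]
      rw [comp_P, e1, ← Φ.beta_symm w v, ← hw, ← smul_smul, ← hφ, e1, Φ.sform.symm e e', hee,
        one_smul]
    rw [hCP, adj_P, P_mul] at h2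
    have hww : Φ.β w w = 0 := by
      have h3 := congrArg (Φ.comp i e' e') h2
      rw [comp_smul, comp_P, comp_zero, Φ.sform.symm e e', hee, one_mul, one_smul] at h3
      haveI : Nonempty (Fin t → Fin k) := ⟨fun _ => ⟨0, by omega⟩⟩
      exact (smul_eq_zero.1 h3).resolve_right one_ne_zero
    have hφpr : ∀ v, φ v = φ (Φ.pr1 e e' *ᵥ v) := fun v => by
      haveI : Nonempty (Fin t → Fin k) := ⟨fun _ => ⟨0, by omega⟩⟩
      refine smul_left_injective F (one_ne_zero (α := MT)) ?_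
      show φ v • (1 : MT) = φ _ • 1
      rw [← hφ, ← hφ, hswap, hswap, comp_Lv he he' hee, comp_Lv he he' hee,
        pr1_perp he he' hee (pr1_mem he he' hee v)]
    have hwe : Φ.β w e = 0 := by
      rw [← Φ.beta_symm w e, ← hw, hφpr, pr1_self he he' hee, map_zero]
    have hw0 : w = 0 := by
      by_contra hw0
      have hwe' : Φ.β w e' = 0 := by
        rw [← Φ.beta_symm w e', ← hw, hφpr, pr1_self' he he' hee, map_zero]
      have hli : LinearIndependent F ![e, w] := LinearIndependent.pair_iff.2 fun p q hpq => by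
        have e2 := congrArg (Φ.β · e') hpq
        simp only [Φ.sform.add_left, Φ.sform.smul_left, hee, hwe', Φ.sform.zero_left, mul_zero,
          mul_one, add_zero] at e2
        rw [e2, zero_smul, zero_add] at hpq
        exact ⟨e2, (smul_eq_zero.1 hpq).resolve_right hw0⟩
      have h1 := O.minus hk4 (Submodule.span F (Set.range ![e, w])) (fun v hv => ?_)
      · rw [finrank_span_eq_card hli, Fintype.card_fin] at h1
        omega
      · rw [Matrix.range_cons, Matrix.range_cons, Matrix.range_empty, Set.union_empty,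
          Set.singleton_union] at hv
        obtain ⟨p, q, rfl⟩ := Submodule.mem_span_pair.1 hv
        simp [Φ.sform.add_left, Φ.sform.add_right, Φ.sform.smul_left, Φ.sform.smul_right, he, hww,
          hwe, Φ.sform.symm0 hwe]
    have h3 : Φ.comp i e' x C = 0 := by rw [hφ, hw, hw0, Φ.sform.zero_right, zero_smul]
    rwa [hswap, comp_Lv he he' hee, comp_smul, Φ.sform.symm e e', hee, one_smul,
      pr1_perp he he' hee hx] at h3
  have hsym := O.ga_sym hz he0 he he' hee hh hD ha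
  have hcs : ∀ u v, ∃ c : F, Φ.comp m u v (Φ.Ga i e' a h) = c • 1 := fun u v => hscal
    (Cm.sum _ _ fun r _ => ((cm_fa hmi _).mul (hGcm a)).mul (cm_fa hmi _)) (Φ.cm_comp _ _ _ _)
  have hflip : ∀ u v, Φ.comp m v u (Φ.Ga i e' a h) = Φ.comp m u v (Φ.Ga i e' a h) := fun u v => by
    obtain ⟨c, hc⟩ := hcs u v
    have := Φ.adj_comp m u v (Φ.Ga i e' a h)
    rw [hsym, hc, adj_smul, adj_one] at this
    rw [← this, hc]
  obtain ⟨u, v, huv⟩ := Φ.sym_scalar (N := MT) O.hk O.hq (Φ.compL m (Φ.Ga i e' a h))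
    (fun x y => by simpa [compL] using hflip y x) fun f hf0 hf => by
      simpa [compL] using hzero f hf0 hf a ha
  obtain ⟨c, hc⟩ := hcs u v
  refine ⟨c, Φ.comp_ext m fun x y => ?_⟩
  have := huv x y
  simp only [compL, LinearMap.mk₂_apply] at this
  rw [this, hc, comp_smul, Φ.comp_cm cm_one, smul_comm]

/-- The Levi components are scalars. -/
theorem Ov.ga_scalar (hz : Φ.NoZS G) (he0 : e ≠ 0) (he : Φ.β e e = 0) (he' : Φ.β e' e' = 0)
    (hee : Φ.β e e' = 1) (hh : h ∈ G) (hD : Φ.DT i e h) {x : Vk}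
    (hx : x ∈ pairPerp Φ.sform e e') : ∃ c : F, Φ.Ga i e' x h = c • 1 := by
  rcases Nat.lt_or_ge k 4 with hk4 | hk4
  · obtain ⟨a, ha, haa⟩ := exists_aniso_pairPerp Φ.sform (by rw [finrank_vk]; exact O.hk) he he' hee
    obtain ⟨ha1, ha2⟩ := (mem_pairPerp Φ.sform).1 ha
    have hline : ∀ y ∈ pairPerp Φ.sform e e', y = (Φ.β y a / Φ.β a a) • a := by
      intro y hy
      by_contra hne
      set z := y - (Φ.β y a / Φ.β a a) • a with hzd
      have hzK : z ∈ pairPerp Φ.sform e e' := sub_mem hy (Submodule.smul_mem _ _ ha)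
      obtain ⟨hz1, hz2⟩ := (mem_pairPerp Φ.sform).1 hzK
      have hza : Φ.β z a = 0 := by
        rw [hzd, Φ.sform.sub_left, Φ.sform.smul_left, div_mul_cancel₀ _ haa, sub_self]
      let L : Vk →ₗ[F] (Fin 3 → F) :=
        LinearMap.pi ![Φ.sform.lin e, Φ.sform.lin e', Φ.sform.lin a]
      have hLs : Function.Surjective L := fun w => by
        refine ⟨w 1 • e + w 0 • e' + (w 2 / Φ.β a a) • a, ?_⟩
        funext j
        fin_cases j <;>
        · simp [L, Φ.sform.lin_apply, Φ.sform.add_left, Φ.sform.smul_left, he, he', hee, ha1, ha2,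
            Φ.sform.symm e e', Φ.sform.symm a e, Φ.sform.symm a e', haa]
      have hLi : Function.Injective L :=
        (LinearMap.injective_iff_surjective_of_finrank_eq_finrank
          (by rw [finrank_vk, Module.finrank_fin_fun]; have := O.hk; omega)).2 hLs
      refine hne (sub_eq_zero.1 (hLi ?_))
      rw [map_zero]
      funext j
      fin_cases j <;> simp [L, Φ.sform.lin_apply, ← hzd, hz1, hz2, hza]
    have hmem : Φ.Ga i e' a h ∈ Φ.gaGrp (G := G) (i := i) he he' hee a := ⟨h, hh, hD, fun y hy => by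
      conv_lhs => rw [hline y hy]
      exact (Φ.GaL i e' h).map_smul _ _⟩
    obtain ⟨c, hc⟩ := O.gaGrp_scalar hz he0 he he' hee ha haa hmem
    refine ⟨Φ.β x a / Φ.β a a * c, ?_⟩
    conv_lhs => rw [hline x hx]
    rw [show Φ.Ga i e' ((Φ.β x a / Φ.β a a) • a) h = (Φ.β x a / Φ.β a a) • Φ.Ga i e' a h from
      (Φ.GaL i e' h).map_smul _ _, hc, smul_smul]
  · let P : Submodule F Vk := (Submodule.span F {(1 : MT)}).comap (Φ.GaL i e' h)
    suffices hxP : x ∈ P by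
      obtain ⟨c, hc⟩ := Submodule.mem_span_singleton.1 hxP
      exact ⟨c, hc.symm⟩
    refine O.span_cls hk4 he he' hee P (fun a ha hcl => ?_) hx
    obtain ⟨ha1, ha2⟩ := (mem_pairPerp Φ.sform).1 ha
    have haa := hcl.1
    by_cases hg : Odd k ∨ 3 ≤ t
    swap
    · rw [not_or] at hg
      have hev : Even k := Nat.not_odd_iff_even.1 hg.1
      rcases Nat.lt_or_ge k 5 with hk5 | hk5
      · obtain ⟨c, hc⟩ := O.ga_scalar_four (by omega) (by omega) hz he0 he he' hee hh hD ha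
        exact Submodule.mem_span_singleton.2 ⟨c, hc.symm⟩
      have h4 : 4 ≤ finrank F Vk := by rw [finrank_vk]; exact hk4
      obtain ⟨b, hb, hbb, hba⟩ := exists_two_pairPerp Φ.sform h4 he he' hee ha haa
      obtain ⟨c, hc, hcc, hca, hcb⟩ : ∃ c ∈ pairPerp Φ.sform e e',
          Φ.β c c ≠ 0 ∧ Φ.β c a = 0 ∧ Φ.β c b = 0 := by
        have HR := Φ.sform.restrict (pairPerp_nondeg Φ.sform he he' hee)
        have hd := CfsgLib.MaxSub.TensorOO.pairPerp_dim Φ.sform e e'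
        rw [finrank_vk] at hd
        obtain ⟨z, hz1, hz2, hz3⟩ := HR.exists_aniso_perp (by omega) (n := ⟨a, ha⟩) (m := ⟨b, hb⟩)
          haa hbb (Φ.sform.symm0 hba)
        exact ⟨z, z.2, hz1, hz2, hz3⟩
      have hfix : ∀ v ∈ pairPerp Φ.sform e e', Φ.β v v ≠ 0 → (Φ.T1 a * Φ.T1 v) *ᵥ e = e := by
        intro v hv hvv
        rw [← Matrix.mulVec_mulVec, Φ.T1_perp (Φ.sform.symm0 ((mem_pairPerp Φ.sform).1 hv).1),
          Matrix.mulVec_neg, Φ.T1_perp (Φ.sform.symm0 ha1), neg_neg]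
      obtain ⟨h₁, hh₁, hD₁, hg₁⟩ := O.ga_diff he he' hee hh hD (O.facIn_pair hev haa hbb)
        (hfix b hb hbb)
      obtain ⟨h₂, hh₂, hD₂, hg₂⟩ := O.ga_diff he he' hee hh₁ hD₁ (O.facIn_pair hev haa hcc)
        (hfix c hc hcc)
      have hlin : ∀ (g : GL (Fin t → Fin k) F) (y : Vk) (p q : F) (u : Vk),
          Φ.Ga i e' (y - p • a - q • u) g =
            Φ.Ga i e' y g - p • Φ.Ga i e' a g - q • Φ.Ga i e' u g := fun g y p q u => by
        simp only [← GaL_apply, map_sub, map_smul]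
      have hc₁ : Φ.Ga i e' c h₁ = 0 := by
        rw [hg₁ c ((mem_pairPerp Φ.sform).1 hc).1, pair_mulVec haa hbb hba, hlin, hca, hcb]
        simp
      have ha₁ : Φ.Ga i e' a h₁ = (2 : F) • Φ.Ga i e' a h := by
        rw [hg₁ a ha1, pair_mulVec haa hbb hba, hlin, Φ.sform.symm0 hba, mul_div_assoc,
          div_self haa]
        simp
      have hmem : (4 : F) • Φ.Ga i e' a h ∈ Φ.gaGrp (G := G) (i := i) he he' hee a := by
        refine ⟨h₂, hh₂, hD₂, fun y hy => ?_⟩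
        rw [hg₂ y ((mem_pairPerp Φ.sform).1 hy).1, pair_mulVec haa hcc hca, hlin, ha₁, hc₁]
        module
      obtain ⟨r, hr⟩ := O.gaGrp_scalar hz he0 he he' hee ha haa hmem
      refine Submodule.mem_span_singleton.2 ⟨4⁻¹ * r, ?_⟩
      have h40 : (4 : F) ≠ 0 := by
        rw [show (4 : F) = 2 ^ 2 by norm_num]
        exact pow_ne_zero _ Φ.two
      rw [← smul_smul, ← hr, smul_smul, inv_mul_cancel₀ h40, one_smul, GaL_apply]
    obtain ⟨u, hu, huv⟩ := O.turn hg i a hcl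
    have hTe : Φ.T1 a *ᵥ e = (-1 : F) • e := by
      rw [Φ.T1_perp (Φ.sform.symm0 ha1), neg_one_smul]
    obtain ⟨hD', hga⟩ := hD.inv.conj_self he he' hee (neg_ne_zero.2 one_ne_zero)
      (by rw [adj1_T1, Φ.T1_mul_self haa]) hTe huv
    have hmem : (2 : F) • Φ.Ga i e' a h ∈ Φ.gaGrp (G := G) (i := i) he he' hee a := by
      refine ⟨h * (u * h⁻¹ * u⁻¹), mul_mem hh (mul_mem (mul_mem hu (inv_mem hh)) (inv_mem hu)),
        hD.mul he he' hee hD', fun y hy => ?_⟩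
      have hy1 := ((mem_pairPerp Φ.sform).1 hy).1
      have hTy : Φ.T1 a *ᵥ y = (2 * (Φ.β y a / Φ.β a a)) • a - y := by
        rw [T1_mulVec, Φ.beta_symm y a]
        congr 2
        ring
      have hTy1 : Φ.β (Φ.T1 a *ᵥ y) e = 0 := by
        rw [hTy, Φ.sform.sub_left, Φ.sform.smul_left, ha1, hy1, mul_zero, sub_zero]
      rw [hD.ga_mul he he' hee hD' hy1, hga y hy1, adj1_T1, hD.ga_inv he he' hee hTy1, hTy]
      have e1 : ∀ r : F, Φ.Ga i e' (r • a - y) h = r • Φ.Ga i e' a h - Φ.Ga i e' y h := fun r => by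
        simp only [← GaL_apply, map_sub, map_smul]
      rw [e1]
      module
    obtain ⟨c, hc⟩ := O.gaGrp_scalar hz he0 he he' hee ha haa hmem
    refine Submodule.mem_span_singleton.2 ⟨2⁻¹ * c, ?_⟩
    rw [← smul_smul, ← hc, smul_smul, inv_mul_cancel₀ Φ.two, one_smul, GaL_apply]

/-- An element trivial on the flag is an Eichler transformation, up to a central part. -/
theorem exists_E_of_ga (he : Φ.β e e = 0) (he' : Φ.β e' e' = 0) (hee : Φ.β e e' = 1)
    (hD : Φ.DT i e h) (hga : ∀ x ∈ pairPerp Φ.sform e e', ∃ c : F, Φ.Ga i e' x h = c • 1) :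
    ∃ θ, Φ.β θ e = 0 ∧ ∀ u : GL (Fin t → Fin k) F, (u : MT) = Φ.E i e θ →
      ∃ T : MT, Cm i T ∧ Φ.adj T = -T ∧ ((h * u⁻¹ : GL (Fin t → Fin k) F) : MT) =
        1 + Φ.P i e e * T := by
  have hne : Nonempty (Fin t → Fin k) := ⟨fun _ => ⟨0, by have := O.hk; omega⟩⟩
  obtain ⟨φ, hφ⟩ : ∃ φ : Vk →ₗ[F] F,
      ∀ x, Φ.Ga i e' (Φ.pr1 e e' *ᵥ x) h = φ x • (1 : MT) := by
    obtain ⟨x₀⟩ := hne
    refine ⟨((Matrix.entryLinearMap F F x₀ x₀).comp (Φ.GaL i e' h)).comp (Φ.pr1 e e').mulVecLin,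
      fun x => ?_⟩
    obtain ⟨c, hc⟩ := hga _ (pr1_mem he he' hee x)
    simp only [LinearMap.comp_apply, Matrix.mulVecLin_apply, GaL_apply, hc]
    simp
  obtain ⟨w, hw⟩ := Φ.sform.exists_repr φ
  have hker : ∀ x, Φ.pr1 e e' *ᵥ x = 0 → Φ.β x w = 0 := fun x hx => by
    have h1 := hφ x
    rw [hx, show Φ.Ga i e' 0 h = 0 from (Φ.GaL i e' h).map_zero, hw] at h1
    exact (smul_eq_zero.1 h1.symm).resolve_right one_ne_zero
  have hwe : Φ.β w e = 0 := Φ.sform.symm0 (hker e (pr1_self he he' hee))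
  have hwe' : Φ.β w e' = 0 := Φ.sform.symm0 (hker e' (pr1_self' he he' hee))
  have hθe : Φ.β (-w) e = 0 := by rw [Φ.sform.neg_left, hwe, neg_zero]
  refine ⟨-w, hθe, fun u hu => ?_⟩
  have hDu : Φ.DT i e u := dt_E he hθe hu
  have hgu : ∀ x ∈ pairPerp Φ.sform e e', Φ.Ga i e' x u = Φ.β x w • (1 : MT) := by
    intro x hx
    obtain ⟨hx1, hx2⟩ := (mem_pairPerp Φ.sform).1 hx
    rw [Ga, hu, comp_sub, E, comp_fa, Φ.comp_cm cm_one, ← sub_smul, E1_mulVec, eich_apply]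
    congr 1
    simp only [Φ.sform.add_right, Φ.sform.sub_right, Φ.sform.smul_right, Φ.sform.neg_right,
      Φ.sform.symm e e', hee, hx1, hwe', Φ.sform.symm w e']
    ring
  set k₀ := h * u⁻¹ with hk₀
  have hDk : Φ.DT i e k₀ := hD.mul he he' hee hDu.inv
  have hL0 : Φ.Lv i e e' k₀ = 0 := Φ.comp_ext i fun x y => by
    have hy := pr1_mem he he' hee y
    obtain ⟨hy1, -⟩ := (mem_pairPerp Φ.sform).1 hy
    rw [comp_Lv he he' hee, comp_zero, hD.ga_mul he he' hee hDu.inv hy1, hDu.ga_inv he he' hee hy1,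
      hgu _ hy, hφ, hw, pr1_mulVec, Φ.sform.sub_left, Φ.sform.sub_left, Φ.sform.smul_left,
      Φ.sform.smul_left, Φ.sform.symm0 hwe, Φ.sform.symm0 hwe']
    simp
  obtain ⟨hv, hT⟩ := hDk.decomp he he' hee
  rw [hL0, adj_zero] at hv
  refine ⟨Φ.Tp i e' k₀, Φ.cm_comp _ _ _ _, ?_, by rw [hv]; abel⟩
  rw [hL0, zero_mul, comp_zero, neg_zero, add_comm] at hT
  exact eq_neg_of_add_eq_zero_left hT

/-- Without elements trivial on the perpendicular of a slice, an element of the group trivial on the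
flag is an Eichler transformation. -/
theorem Ov.dt_eu (hz : Φ.NoZS G) (he0 : e ≠ 0) (he : Φ.β e e = 0) (hh : h ∈ G)
    (hD : Φ.DT i e h) : ∃ θ, Φ.β θ e = 0 ∧ (h : MT) = Φ.E i e θ := by
  obtain ⟨e', he', hee⟩ := exists_pair Φ.sform he0 he
  obtain ⟨θ, hθ, hu⟩ := exists_E_of_ga O he he' hee hD fun x hx => O.ga_scalar hz he0 he he' hee hh hD hx
  obtain ⟨u, huG, huv⟩ := O.eu i e θ he hθ
  obtain ⟨T, hTc, hTa, hTv⟩ := hu u huv
  have hT0 := hz i e T he0 he ⟨hTc, hTa, h * u⁻¹, mul_mem hh (inv_mem huG), hTv⟩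
  rw [hT0, mul_zero, add_zero] at hTv
  have : h * u⁻¹ = 1 := Units.ext (by rw [hTv]; rfl)
  exact ⟨θ, hθ, by rw [mul_inv_eq_one.1 this, huv]⟩

end OForm

end CfsgLib.MaxSub.TensorPowOrth
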