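import Cfsg.Agent.Lib.MaxSub.TensorPowOrth.Diag
import Cfsg.Agent.Lib.MaxSub.TensorPowOrth.Defs
import Cfsg.Agent.Lib.MaxSub.TensorPow.Moving
import Cfsg.Agent.Lib.SympWeil.Class.Forms

/-!
A group containing all Eichler transformations of the tensor power contains a diagonal element which
is no pure tensor times a permutation.
-/

set_option autoImplicit false
set_option maxHeartbeats 400000
set_option linter.unusedSectionVars false

namespace CfsgLib.MaxSub.TensorPowOrth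

open Matrix Module
open CfsgLib.Aschbacher CfsgLib.MaxSub.TensorPow

variable {F : Type*} [Field F] {k t : ℕ}

local notation "Vk" => Fin k → F
local notation "VT" => (Fin t → Fin k) → F
local notation "Mm" => Matrix (Fin k) (Fin k) F
local notation "MT" => Matrix (Fin t → Fin k) (Fin t → Fin k) F

/-- A pure tensor. -/
def pv (f : Fin t → Vk) : VT := fun z => ∏ l, f l (z l)

theorem pureMat_pv (A : Fin t → Mm) (f : Fin t → Vk) :
    (pureMat A : MT) *ᵥ pv f = pv fun l => A l *ᵥ f l := by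
  funext x
  simp only [Matrix.mulVec, dotProduct, pv, pureMat_apply, ← Finset.prod_mul_distrib]
  exact (Fintype.prod_sum (fun l z => A l (x l) z * f l z)).symm

theorem fa_pv (l : Fin t) (A : Mm) (f : Fin t → Vk) :
    (fa l A : MT) *ᵥ pv f = pv (Function.update f l (A *ᵥ f l)) := by
  rw [fa_eq, pureMat_pv]
  congr 1
  funext j
  by_cases h : j = l
  · subst h; simp
  · simp [h]

theorem pv_update_smul (f : Fin t → Vk) (l : Fin t) (c : F) (v : Vk) :
    pv (Function.update f l (c • v)) = c • pv (Function.update f l v) := by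
  funext z
  simp only [pv, Pi.smul_apply, smul_eq_mul]
  rw [← Finset.mul_prod_erase _ _ (Finset.mem_univ l), ← Finset.mul_prod_erase _ _ (Finset.mem_univ l),
    Function.update_self, Function.update_self, Pi.smul_apply, smul_eq_mul, mul_assoc]
  congr 2
  exact Finset.prod_congr rfl fun j hj => by
    rw [Function.update_of_ne (Finset.ne_of_mem_erase hj), Function.update_of_ne (Finset.ne_of_mem_erase hj)]

namespace OForm

variable (Φ : OForm F k)

theorem βT_pv (f g : Fin t → Vk) : Φ.βT (pv f) (pv g) = ∏ l, Φ.β (f l) (g l) := by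
  rw [βT, ST, pureMat_pv]
  simp only [dotProduct, pv, ← Finset.prod_mul_distrib, β]
  exact (Fintype.prod_sum (fun l z => f l z * (Φ.S *ᵥ g l) z)).symm

theorem βT_symm (x y : VT) : Φ.βT y x = Φ.βT x y := by
  rw [βT, βT, dotProduct_mulVec, ← mulVec_transpose, ST_transpose, dotProduct_comm]

theorem βT_add_left (x y z : VT) : Φ.βT (x + y) z = Φ.βT x z + Φ.βT y z := add_dotProduct x y _

theorem βT_smul_left (c : F) (x z : VT) : Φ.βT (c • x) z = c * Φ.βT x z := smul_dotProduct c x _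

theorem βT_sub_left (x y z : VT) : Φ.βT (x - y) z = Φ.βT x z - Φ.βT y z := sub_dotProduct x y _

theorem βT_add_right (x y z : VT) : Φ.βT x (y + z) = Φ.βT x y + Φ.βT x z := by
  rw [βT_symm, βT_add_left, βT_symm Φ x y, βT_symm Φ x z]

theorem βT_smul_right (c : F) (x z : VT) : Φ.βT x (c • z) = c * Φ.βT x z := by
  rw [βT_symm, βT_smul_left, βT_symm Φ x z]

theorem βT_sub_right (x y z : VT) : Φ.βT x (y - z) = Φ.βT x y - Φ.βT x z := by
  rw [βT_symm, βT_sub_left, βT_symm Φ x y, βT_symm Φ x z]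

theorem βT_mulVec (g : MT) (x y : VT) : Φ.βT (g *ᵥ x) y = Φ.βT x (Φ.adj g *ᵥ y) := by
  rw [βT, βT, adj, Matrix.mulVec_mulVec, ← mul_assoc, ← mul_assoc, ST_mul, one_mul,
    ← Matrix.mulVec_mulVec, Matrix.dotProduct_mulVec x, Matrix.vecMul_transpose]

theorem RT_mulVec (x y z : VT) : Φ.RT x y *ᵥ z = Φ.βT y z • x := by
  rw [RT, Matrix.vecMulVec_mulVec, op_smul_eq_smul, βT]
  congr 1
  rw [dotProduct_mulVec y, ← mulVec_transpose, ST_transpose]

theorem mul_RT (g : MT) (x y : VT) : g * Φ.RT x y = Φ.RT (g *ᵥ x) y := Matrix.mul_vecMulVec _ _ _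

theorem RT_mul (g : MT) (x y : VT) : Φ.RT x y * g = Φ.RT x (Φ.adj g *ᵥ y) := by
  rw [RT, RT, Matrix.vecMulVec_mul, adj, Matrix.mulVec_mulVec, ← mul_assoc, ← mul_assoc, ST_mul,
    one_mul, ← Matrix.mulVec_mulVec, Matrix.mulVec_transpose]

theorem RT_mul_RT (x y z w : VT) : Φ.RT x y * Φ.RT z w = Φ.βT y z • Φ.RT x w := by
  rw [mul_RT, RT_mulVec, RT, RT, smul_vecMulVec]

theorem adj_RT (x y : VT) : Φ.adj (Φ.RT x y) = Φ.RT y x := by
  rw [adj, RT, RT, Matrix.transpose_vecMulVec, Matrix.mul_vecMulVec, Matrix.vecMulVec_mul,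
    Matrix.mulVec_mulVec, STi_mul, Matrix.one_mulVec, ← mulVec_transpose, ST_transpose]

variable {Φ}

theorem Iso.beta {g : GL (Fin t → Fin k) F} (hg : Φ.Iso g) (x y : VT) :
    Φ.βT ((g : MT) *ᵥ x) ((g : MT) *ᵥ y) = Φ.βT x y := by
  rw [βT_mulVec, Matrix.mulVec_mulVec, hg, Matrix.one_mulVec]

theorem Iso.conj_RT {g : GL (Fin t → Fin k) F} (hg : Φ.Iso g) (x y : VT) :
    (g : MT) * Φ.RT x y * ((g⁻¹ : GL (Fin t → Fin k) F) : MT) =
      Φ.RT ((g : MT) *ᵥ x) ((g : MT) *ᵥ y) := by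
  rw [mul_RT, RT_mul, ← hg.adj_eq, adj_adj]

theorem Iso.conj_EV {g : GL (Fin t → Fin k) F} (hg : Φ.Iso g) (u v : VT) :
    (g : MT) * Φ.EV u v * ((g⁻¹ : GL (Fin t → Fin k) F) : MT) =
      Φ.EV ((g : MT) *ᵥ u) ((g : MT) *ᵥ v) := by
  rw [EV, EV, mul_add, add_mul, mul_one, Units.mul_inv]
  simp only [mul_sub, sub_mul, Matrix.mul_smul, Matrix.smul_mul, hg.conj_RT, hg.beta]

variable {G : Subgroup (GL (Fin t → Fin k) F)} {c₀ : F} {a : Fin k → Fin k → F} {last : Fin k}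

theorem two_indices (hk : 3 ≤ k) (last : Fin k) :
    ∃ r₁ r₂ : Fin k, r₁ ≠ last ∧ r₂ ≠ last ∧ r₁ ≠ r₂ := by
  have h : 1 < (Finset.univ.erase last).card := by
    rw [Finset.card_erase_of_mem (Finset.mem_univ _), Finset.card_univ, Fintype.card_fin]
    omega
  obtain ⟨r₁, h1, r₂, h2, h12⟩ := Finset.one_lt_card.1 h
  exact ⟨r₁, r₂, Finset.ne_of_mem_erase h1, Finset.ne_of_mem_erase h2, h12⟩

/-- A diagonal element which is no pure tensor times a permutation. -/
theorem Big.exists_refl [Finite F] (hk : 3 ≤ k) (ht : 2 ≤ t) (hG : Φ.Big G)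
    (hiso : ∀ g ∈ G, Φ.Iso g) (D : Φ.Diag c₀ a last) :
    ∃ g ∈ G, ¬IsWr g ∧ ∀ (l : Fin t) r, Commute (g : MT) (Φ.P l (a r) (a r)) := by
  classical
  haveI : NeZero k := ⟨by omega⟩
  obtain ⟨r₁, r₂, h1, h2, h12⟩ := two_indices hk last
  have hc₀ : c₀ ≠ 0 := by rw [← D.norm r₁ h1]; exact D.ne r₁
  set l₀ : Fin t := ⟨0, by omega⟩
  set l₁ : Fin t := ⟨1, by omega⟩
  have hl : l₁ ≠ l₀ := by simp [l₀, l₁, Fin.ext_iff]
  let bv : (Fin t → Fin k) → VT := fun m => pv fun l => a (m l)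
  have hbb : ∀ m m', m ≠ m' → Φ.βT (bv m) (bv m') = 0 := fun m m' h => by
    obtain ⟨l, hl⟩ := Function.ne_iff.1 h
    rw [βT_pv]
    exact Finset.prod_eq_zero (Finset.mem_univ l) (D.orth _ _ hl)
  have hbn : ∀ m, Φ.βT (bv m) (bv m) ≠ 0 := fun m => by
    rw [βT_pv]
    exact Finset.prod_ne_zero_iff.2 fun l _ => D.ne (m l)
  set mx : Fin t → Fin k := fun _ => r₁ with hmx
  set my : Fin t → Fin k := Function.update mx l₀ r₂ with hmy
  set m₁ : Fin t → Fin k := Function.update mx l₀ last with hm₁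
  set m₂ : Fin t → Fin k := Function.update mx l₁ r₂ with hm₂
  have hxy : mx ≠ my := fun e => h12 (by simpa [hmx, hmy] using congrFun e l₀)
  have hx1 : mx ≠ m₁ := fun e => h1 (by simpa [hmx, hm₁] using congrFun e l₀)
  have hy1 : my ≠ m₁ := fun e => h2 (by simpa [hmy, hm₁] using congrFun e l₀)
  have hx2 : mx ≠ m₂ := fun e => h12 (by simpa [hmx, hm₂] using congrFun e l₁)
  have hy2 : my ≠ m₂ := fun e => h12 (by simpa [hmx, hmy, hm₂, hl] using congrFun e l₁)
  have h12' : m₁ ≠ m₂ := fun e => h12 (by simpa [hmx, hm₁, hm₂, hl] using congrFun e l₁)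
  set x := bv mx
  set y := bv my
  set N := Φ.βT x x with hN
  have hN0 : N ≠ 0 := hbn mx
  have hyN : Φ.βT y y = N := by
    rw [hN, βT_pv, βT_pv]
    refine Finset.prod_congr rfl fun l _ => ?_
    by_cases h : l = l₀
    · subst h; simp [hmx, hmy, D.norm r₁ h1, D.norm r₂ h2]
    · simp [hmx, hmy, h]
  have hxy0 : Φ.βT x y = 0 := hbb _ _ hxy
  have hyx0 : Φ.βT y x = 0 := hbb _ _ hxy.symm
  haveI : Fintype F := Fintype.ofFinite F
  obtain ⟨p, q, hpq⟩ := CfsgLib.SympWeil.exists_binary Φ.two (hbn m₁) (hbn m₂) (-N)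
  set w := p • bv m₁ + q • bv m₂ with hw
  have hwx : Φ.βT w x = 0 := by
    rw [hw, βT_add_left, βT_smul_left, βT_smul_left, hbb _ _ hx1.symm, hbb _ _ hx2.symm, mul_zero,
      mul_zero, add_zero]
  have hwy : Φ.βT w y = 0 := by
    rw [hw, βT_add_left, βT_smul_left, βT_smul_left, hbb _ _ hy1.symm, hbb _ _ hy2.symm, mul_zero,
      mul_zero, add_zero]
  have hxw : Φ.βT x w = 0 := by rw [βT_symm, hwx]
  have hyw : Φ.βT y w = 0 := by rw [βT_symm, hwy]
  have hww : Φ.βT w w = -N := by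
    rw [hw]
    simp only [βT_add_left, βT_add_right, βT_smul_left, βT_smul_right, hbb _ _ h12',
      hbb _ _ h12'.symm, mul_zero, add_zero, zero_add]
    linear_combination hpq
  set z := x + y + w with hz
  -- the element moving the first vector to the second
  have hstep : ∀ {b c : VT}, Φ.βT b b = N → Φ.βT c c = N → Φ.βT c b = N →
      ∃ g ∈ G, (g : MT) *ᵥ b = c ∧ (g : MT) = Φ.EV (c - b) ((-N⁻¹) • b) ∧
        Φ.βT (c - b) (c - b) = 0 ∧ Φ.βT ((-N⁻¹) • b) (c - b) = 0 := by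
    intro b c hb hc hcb
    have hbc : Φ.βT b c = N := by rw [βT_symm, hcb]
    have hu : Φ.βT (c - b) (c - b) = 0 := by
      rw [βT_sub_left, βT_sub_right, βT_sub_right, hb, hc, hcb, hbc]; ring
    have hv : Φ.βT ((-N⁻¹) • b) (c - b) = 0 := by
      rw [βT_smul_left, βT_sub_right, hb, hbc, sub_self, mul_zero]
    obtain ⟨g, hg, hgv⟩ := hG _ _ hu hv
    refine ⟨g, hg, ?_, hgv, hu, hv⟩
    rw [hgv, EV, Matrix.add_mulVec, Matrix.one_mulVec, Matrix.sub_mulVec, Matrix.sub_mulVec,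
      Matrix.smul_mulVec, RT_mulVec, RT_mulVec, RT_mulVec, βT_sub_left, hb, hcb, sub_self,
      βT_smul_left, hb]
    simp [hN0]
  have hzz : Φ.βT z z = N := by
    rw [hz]
    simp only [βT_add_left, βT_add_right, hxy0, hyx0, hwx, hwy, hxw, hyw, hww, hyN, ← hN]
    ring
  have hzx : Φ.βT z x = N := by
    rw [hz, βT_add_left, βT_add_left, hyx0, hwx, ← hN, add_zero, add_zero]
  have hyz : Φ.βT y z = N := by
    rw [hz, βT_add_right, βT_add_right, hyx0, hyN, hyw, zero_add, add_zero]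
  obtain ⟨g₁, hg₁, hgx, hgv₁, hu₁, hv₁⟩ := hstep rfl hzz hzx
  obtain ⟨g₂, hg₂, hgz, hgv₂, hu₂, hv₂⟩ := hstep hzz hyN hyz
  -- the reflection in the first vector
  have hR2 : ∀ {b : VT}, Φ.βT b b = N →
      (1 - (2 / N) • Φ.RT b b) * (1 - (2 / N) • Φ.RT b b) = (1 : MT) := fun {b} hb => by
    simp only [mul_sub, sub_mul, one_mul, mul_one, Matrix.smul_mul, Matrix.mul_smul, RT_mul_RT, hb,
      smul_smul]
    match_scalars <;> field_simp
    all_goals ring
  let R : GL (Fin t → Fin k) F :=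
    ⟨1 - (2 / N) • Φ.RT x x, 1 - (2 / N) • Φ.RT x x, hR2 rfl, hR2 rfl⟩
  have hRI : Φ.Iso R := by
    show Φ.adj (1 - (2 / N) • Φ.RT x x) * (1 - (2 / N) • Φ.RT x x) = 1
    rw [adj_sub, adj_one, adj_smul, adj_RT]
    exact hR2 rfl
  have hconjR : ∀ {g : GL (Fin t → Fin k) F} {u v : VT}, (g : MT) = Φ.EV u v →
      Φ.βT u u = 0 → Φ.βT v u = 0 → R * g * R⁻¹ ∈ G := by
    intro g u v hgv hu hv
    obtain ⟨g', hg', hgv'⟩ := hG ((R : MT) *ᵥ u) ((R : MT) *ᵥ v) (by rw [hRI.beta, hu])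
      (by rw [hRI.beta, hv])
    rwa [show R * g * R⁻¹ = g' from Units.ext (by
      rw [Units.val_mul, Units.val_mul, hgv, hRI.conj_EV, hgv'])]
  have hRg : R * (g₂ * g₁) * R⁻¹ ∈ G := by
    rw [show R * (g₂ * g₁) * R⁻¹ = R * g₂ * R⁻¹ * (R * g₁ * R⁻¹) by group]
    exact mul_mem (hconjR hgv₂ hu₂ hv₂) (hconjR hgv₁ hu₁ hv₁)
  set g := g₂ * g₁ with hg
  have hgG : g ∈ G := mul_mem hg₂ hg₁
  have hgxy : (g : MT) *ᵥ x = y := by
    rw [hg, Units.val_mul, ← Matrix.mulVec_mulVec, hgx, hgz]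
  set d := R * g * R⁻¹ * g⁻¹ with hd
  have hRinv : R⁻¹ = R := Units.ext rfl
  have hdv : (d : MT) = 1 - (2 / N) • (Φ.RT x x + Φ.RT y y) := by
    rw [hd, hRinv, mul_assoc (R * g), mul_assoc R, Units.val_mul, ← mul_assoc g, Units.val_mul,
      Units.val_mul]
    show (1 - (2 / N) • Φ.RT x x) * ((g : MT) * (1 - (2 / N) • Φ.RT x x) *
      ((g⁻¹ : GL (Fin t → Fin k) F) : MT)) = _
    rw [show (g : MT) * (1 - (2 / N) • Φ.RT x x) * ((g⁻¹ : GL (Fin t → Fin k) F) : MT) =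
        1 - (2 / N) • Φ.RT y y by
      rw [mul_sub, sub_mul, mul_one, Units.mul_inv, Matrix.mul_smul, Matrix.smul_mul,
        (hiso g hgG).conj_RT, hgxy]]
    simp only [mul_sub, sub_mul, one_mul, mul_one, Matrix.smul_mul, Matrix.mul_smul, RT_mul_RT, hxy0,
      zero_smul, smul_zero, sub_zero, smul_add]
    abel
  refine ⟨d, mul_mem hRg (inv_mem hgG), ?_, fun l r => ?_⟩
  · rintro ⟨A, σ, hA⟩
    have hfix : ∀ m, m ≠ mx → m ≠ my → (d : MT) *ᵥ bv m = bv m := fun m hm hm' => by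
      rw [hdv, Matrix.sub_mulVec, Matrix.one_mulVec, Matrix.smul_mulVec, Matrix.add_mulVec, RT_mulVec,
        RT_mulVec, hbb _ _ hm.symm, hbb _ _ hm'.symm, zero_smul, zero_smul, add_zero, smul_zero,
        sub_zero]
    have hdx : (d : MT) *ᵥ x = -x := by
      rw [hdv, Matrix.sub_mulVec, Matrix.one_mulVec, Matrix.smul_mulVec, Matrix.add_mulVec, RT_mulVec,
        RT_mulVec, hyx0, zero_smul, add_zero, smul_smul, ← hN, div_mul_cancel₀ _ hN0]
      module
    have hdd : ((d⁻¹ : GL (Fin t → Fin k) F) : MT) *ᵥ x = -x := by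
      have := congrArg (((d⁻¹ : GL (Fin t → Fin k) F) : MT) *ᵥ ·) hdx
      simp only [Matrix.mulVec_mulVec, Units.inv_mul, Matrix.one_mulVec, Matrix.mulVec_neg] at this
      rw [eq_neg_iff_add_eq_zero] at this ⊢
      rw [add_comm]; exact this
    have hdd₂ : ((d⁻¹ : GL (Fin t → Fin k) F) : MT) *ᵥ bv m₂ = bv m₂ := by
      have := congrArg (((d⁻¹ : GL (Fin t → Fin k) F) : MT) *ᵥ ·) (hfix m₂ hx2.symm hy2.symm)
      simpa [Matrix.mulVec_mulVec] using this.symm
    obtain ⟨Y, hY⟩ := maps_wr A σ l₀ (Φ.rk (a last) (a r₁))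
    rw [← hA] at hY
    set j := σ l₀
    have hP : ∀ m : Fin t → Fin k, m l₀ = r₁ → (Φ.P l₀ (a last) (a r₁) : MT) *ᵥ bv m =
        c₀ • bv (Function.update m l₀ last) := fun m hm => by
      show (fa l₀ _ : MT) *ᵥ pv _ = _
      rw [fa_pv, rk_mulVec, hm, D.norm r₁ h1, pv_update_smul]
      congr 2
      funext l
      by_cases h : l = l₀
      · subst h; simp
      · simp [h]
    set m₃ : Fin t → Fin k := Function.update m₂ l₀ last with hm₃
    have hx3 : mx ≠ m₃ := fun e => h1 (by simpa [hmx, hm₃] using congrFun e l₀)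
    have hy3 : my ≠ m₃ := fun e => h2 (by simpa [hmy, hm₃] using congrFun e l₀)
    have hm₂0 : m₂ l₀ = r₁ := by rw [hm₂, Function.update_of_ne hl.symm]
    have e1 : (fa j Y : MT) *ᵥ x = -(c₀ • bv m₁) := by
      rw [← hY, Ad_apply, ← Matrix.mulVec_mulVec, ← Matrix.mulVec_mulVec, hdd, Matrix.mulVec_neg,
        Matrix.mulVec_neg]
      show -((d : MT) *ᵥ ((Φ.P l₀ (a last) (a r₁) : MT) *ᵥ x)) = _
      rw [hP mx rfl, Matrix.mulVec_smul, ← hm₁, hfix m₁ hx1.symm hy1.symm]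
    have e2 : (fa j Y : MT) *ᵥ bv m₂ = c₀ • bv m₃ := by
      rw [← hY, Ad_apply, ← Matrix.mulVec_mulVec, ← Matrix.mulVec_mulVec, hdd₂]
      show (d : MT) *ᵥ ((Φ.P l₀ (a last) (a r₁) : MT) *ᵥ bv m₂) = _
      rw [hP m₂ hm₂0, Matrix.mulVec_smul, ← hm₃, hfix m₃ hx3.symm hy3.symm]
    have hneg : Φ.βT ((fa j Y : MT) *ᵥ x) (bv m₁) = -(c₀ * Φ.βT (bv m₁) (bv m₁)) := by
      rw [e1, ← neg_smul, βT_smul_left, neg_mul]
    by_cases hj : j = l₀
    · have e3 : ∀ m : Fin t → Fin k, m l₀ = r₁ →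
          Φ.βT ((fa j Y : MT) *ᵥ bv m) (bv (Function.update m l₀ last)) =
            Φ.β (Y *ᵥ a r₁) (a last) * ∏ l ∈ Finset.univ.erase l₀, Φ.β (a (m l)) (a (m l)) := by
        intro m hm
        rw [hj, fa_pv, βT_pv, ← Finset.mul_prod_erase _ _ (Finset.mem_univ l₀)]
        simp only [Function.update_self, hm]
        congr 1
        exact Finset.prod_congr rfl fun l hl => by simp [Finset.ne_of_mem_erase hl]
      have h5 := e3 mx rfl
      have h6 := e3 m₂ hm₂0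
      rw [← hm₁] at h5
      rw [← hm₃, e2, βT_smul_left] at h6
      rw [hneg] at h5
      have hprod : ∀ m : Fin t → Fin k, Φ.βT (bv (Function.update m l₀ last)) (bv (Function.update m l₀ last))
          = Φ.β (a last) (a last) * ∏ l ∈ Finset.univ.erase l₀, Φ.β (a (m l)) (a (m l)) := fun m => by
        rw [βT_pv, ← Finset.mul_prod_erase _ _ (Finset.mem_univ l₀)]
        simp only [Function.update_self]
        congr 1
        exact Finset.prod_congr rfl fun l hl => by simp [Finset.ne_of_mem_erase hl]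
      rw [hm₁, hprod] at h5
      rw [hm₃, hprod] at h6
      have p0 : ∀ m : Fin t → Fin k, ∏ l ∈ Finset.univ.erase l₀, Φ.β (a (m l)) (a (m l)) ≠ 0 :=
        fun m => Finset.prod_ne_zero_iff.2 fun l _ => D.ne (m l)
      have q1 : Φ.β (Y *ᵥ a r₁) (a last) = -(c₀ * Φ.β (a last) (a last)) :=
        mul_right_cancel₀ (p0 mx) (by rw [← h5]; ring)
      have q2 : Φ.β (Y *ᵥ a r₁) (a last) = c₀ * Φ.β (a last) (a last) :=
        mul_right_cancel₀ (p0 m₂) (by rw [← h6]; ring)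
      exact mul_ne_zero Φ.two (mul_ne_zero hc₀ (D.ne last)) (by linear_combination q1 - q2)
    · refine (neg_ne_zero.2 (mul_ne_zero hc₀ (hbn m₁))) (hneg.symm.trans ?_)
      rw [fa_pv, βT_pv]
      refine Finset.prod_eq_zero (Finset.mem_univ l₀) ?_
      simp only [Function.update_of_ne (Ne.symm hj)]
      rw [hm₁, Function.update_self, hmx]
      exact D.orth _ _ h1
  · have hPb : ∀ m : Fin t → Fin k, ∃ s : F, (Φ.P l (a r) (a r) : MT) *ᵥ bv m = s • bv m := by
      intro m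
      show ∃ s : F, (fa l _ : MT) *ᵥ pv _ = _
      rw [fa_pv, rk_mulVec]
      by_cases h : r = m l
      · refine ⟨Φ.β (a r) (a r), ?_⟩
        rw [← h, pv_update_smul]
        congr 2
        funext l'
        by_cases h' : l' = l
        · subst h'; simp [h]
        · simp [h']
      · refine ⟨0, ?_⟩
        rw [D.orth _ _ h, zero_smul, ← zero_smul F (a r), pv_update_smul, zero_smul, zero_smul]
    have hcomm : ∀ m : Fin t → Fin k, Commute (Φ.RT (bv m) (bv m)) (Φ.P l (a r) (a r)) := fun m => by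
      obtain ⟨s, hs⟩ := hPb m
      show _ * _ = _ * _
      rw [RT_mul, adj_P, mul_RT, hs, RT, RT, Matrix.mulVec_smul, vecMulVec_smul, smul_vecMulVec]
    rw [hdv]
    exact (Commute.one_left _).sub_left (((hcomm mx).add_left (hcomm my)).smul_left _)

end OForm

end CfsgLib.MaxSub.TensorPowOrth
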