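import Cfsg.Agent.Lib.MaxSub.TensorPowOrth.Omega
import Cfsg.Agent.Lib.MaxSub.TensorPowOrth.Refl
import Cfsg.Agent.Lib.MaxSub.TensorPowOrth.Similar
import Cfsg.Agent.Lib.MaxSub.SubspaceMaximalOrthGL
import Cfsg.Agent.Lib.MaxSub.TensorPow.Main
import Cfsg.Agent.Lib.Aschbacher.OrthMaximal

/-!
The stabiliser of an orthogonal tensor power is maximal in `Ω`, given the dichotomy for its
overgroups.
-/

set_option autoImplicit false
set_option maxHeartbeats 800000
set_option linter.unusedSectionVars false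

namespace CfsgLib.MaxSub.TensorPowOrth

open Matrix Module
open CfsgLib.Aschbacher CfsgLib.MaxSub.TensorPow
open CfsgLib.WittExtension (quadIso)
open CfsgLib.Eichler (IsEich exists_eich Sieg sieg_eich eich_unique)
open CfsgLib.MaxSub.Orth (toMat toMat_mulVec)
open CfsgLib.MaxSub.TensorOO (exists_pair pairPerp mem_pairPerp exists_aniso_pairPerp)

variable {F : Type*} [Field F] {k t : ℕ}

local notation "Vk" => Fin k → F
local notation "Mm" => Matrix (Fin k) (Fin k) F
local notation "VT" => (Fin t → Fin k) → F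
local notation "MT" => Matrix (Fin t → Fin k) (Fin t → Fin k) F

theorem permMat_pvec (σ : Equiv.Perm (Fin t)) (h : Fin t → Fin k → F) :
    (permMat k F σ : MT) *ᵥ pvec h = pvec fun l => h (σ.symm l) := by
  classical
  funext x
  show ∑ y, (if y = x ∘ σ then (1 : F) else 0) * pvec h y = _
  rw [Finset.sum_eq_single (x ∘ σ) (fun y _ hy => by rw [if_neg hy, zero_mul]) (by simp), if_pos rfl,
    one_mul]
  show ∏ l, h l (x (σ l)) = ∏ l, h (σ.symm l) (x l)
  exact Fintype.prod_equiv σ _ _ fun l => by rw [Equiv.symm_apply_apply]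

theorem isWr_pvec {g : GL (Fin t → Fin k) F} (hg : IsWr g) (h : Fin t → Fin k → F) :
    ∃ a : Fin t → Fin k → F, (g : MT) *ᵥ pvec h = pvec a := by
  obtain ⟨A, σ, rfl⟩ := hg
  refine ⟨fun l => (A l : Mm) *ᵥ h (σ.symm l), ?_⟩
  rw [Units.val_mul, ← Matrix.mulVec_mulVec, show (permGL k F σ : MT) = permMat k F σ from rfl,
    permMat_pvec]
  exact TensorPow.pureMat_mulVec _ _

namespace OForm

variable (Φ : OForm F k)

theorem EV_mulVec (u v z : VT) : Φ.EV u v *ᵥ z =
    z + (Φ.βT u z • v - Φ.βT v z • u - (Φ.βT v v / 2 * Φ.βT u z) • u) := by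
  rw [EV, Matrix.add_mulVec, Matrix.sub_mulVec, Matrix.sub_mulVec, Matrix.smul_mulVec,
    Matrix.one_mulVec, RT_mulVec, RT_mulVec, RT_mulVec, smul_smul]

end OForm

theorem gram_apply {f : (Fin k → F) → (Fin k → F) → F} (hf : Cfsg.Geo.IsSymmetricForm f)
    (u v : Vk) : f u v = u ⬝ᵥ (Cfsg.Geo.gramMatrix f *ᵥ v) := by
  let B : LinearMap.BilinForm F Vk := LinearMap.mk₂ F f hf.bilinear.add_left hf.bilinear.smul_left
    (fun v x y => hf.bilinear.add_right v x y) (fun c v x => hf.bilinear.smul_right c v x)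
  show B u v = _
  have hB : LinearMap.toMatrix₂' F B = Cfsg.Geo.gramMatrix f := by
    ext a b
    simp [B, Cfsg.Geo.gramMatrix, LinearMap.toMatrix₂'_apply]
  rw [← Matrix.toLinearMap₂'_toMatrix' (R := F) B, hB, Matrix.toLinearMap₂'_apply']

theorem exists_oform (h2 : (2 : F) ≠ 0) {f : (Fin k → F) → (Fin k → F) → F}
    (hf : Cfsg.Geo.IsSymmetricForm f) :
    ∃ Φ : OForm F k, Φ.S = Cfsg.Geo.gramMatrix f ∧ ∀ u v, Φ.β u v = f u v := by
  refine ⟨⟨Cfsg.Geo.gramMatrix f, ?_, ?_, h2⟩, rfl, fun u v => (gram_apply hf u v).symm⟩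
  · ext a b
    exact hf.symm _ _
  · rw [isUnit_iff_ne_zero]
    intro h0
    obtain ⟨v, hv, hSv⟩ := Matrix.exists_mulVec_eq_zero_iff.mpr h0
    obtain ⟨⟨x, hx⟩, -⟩ := hf.nondegenerate v hv
    exact hx (by rw [gram_apply hf, hSv, dotProduct_zero])

/-- The stabiliser of an orthogonal tensor power is maximal in `Ω`. -/
theorem orth_power_maximal [Fintype F] {ι : Type} [Fintype ι] [DecidableEq ι]
    (hk : 3 ≤ k) (ht : 2 ≤ t) (hq : Odd (Fintype.card F))
    (hq3 : k = 3 → Nat.card F ≠ 3) {Q : (ι → F) → F}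
    (hQ : Cfsg.Geo.IsNondegenerateQuadraticForm Q) (e : ι ≃ (Fin t → Fin k)) (P : GL ι F)
    (f₁ : (Fin k → F) → (Fin k → F) → F) (hf₁ : Cfsg.Geo.IsSymmetricForm f₁)
    (hminus : k = 4 → ∀ U : Submodule F (Fin k → F), (∀ x ∈ U, f₁ x x = 0) → finrank F U ≤ 1)
    (hT : Cfsg.Geo.IsTensorPowerFormStructure id (QuadraticMap.polar Q) f₁ e P)
    (hcore : ∀ {Φ : OForm F k} {c₀ : F} {G : Subgroup (GL (Fin t → Fin k) F)},
      Φ.Ov c₀ G → Φ.Concl G) :
    Cfsg.Geo.IsMaximalIn (Cfsg.Geo.omegaGL Q)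
      (Cfsg.Geo.tensorWreathSubgroup k t e P ⊓ Cfsg.Geo.omegaGL Q) := by
  have h2 : (2 : F) ≠ 0 := fun h => by
    have : CharP F 2 := CharTwo.of_one_ne_zero_of_two_eq_zero one_ne_zero h
    have := FiniteField.even_card_of_char_two (F := F) (ringChar.eq F 2)
    rw [Nat.odd_iff] at hq
    omega
  obtain ⟨R, rfl, hR⟩ := Orth.exists_form hQ
  obtain ⟨Φ, hS, hβ⟩ := exists_oform h2 hf₁
  obtain ⟨c, hc, hcT⟩ := hT
  have hN : 9 ≤ k ^ t := by
    calc 9 = 3 ^ 2 := by norm_num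
      _ ≤ k ^ 2 := Nat.pow_le_pow_left hk 2
      _ ≤ k ^ t := Nat.pow_le_pow_right (by omega) ht
  have hcard : Fintype.card ι = k ^ t := by simpa using Fintype.card_congr e
  have hn5 : 5 ≤ Fintype.card ι := by omega
  have hfin : finrank F (ι → F) = Fintype.card ι := Module.finrank_fintype_fun_eq_card F
  -- the identification of the spaces
  let L₀ : ((Fin t → Fin k) → F) →ₗ[F] (ι → F) :=
    (Matrix.toLin' (P : Matrix ι ι F)).comp (LinearMap.funLeft F F e)
  have hL₀ : ∀ x, L₀ x = (P : Matrix ι ι F) *ᵥ (x ∘ e) := fun x => rfl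
  let L : ((Fin t → Fin k) → F) ≃ₗ[F] (ι → F) := LinearEquiv.ofBijective L₀ ⟨fun x y h => by
      have h1 := congrArg (((P⁻¹ : GL ι F) : Matrix ι ι F) *ᵥ ·) h
      simp only [hL₀, mulVec_mulVec, Units.inv_mul, one_mulVec] at h1
      exact e.surjective.injective_comp_right h1,
    fun v => ⟨(((P⁻¹ : GL ι F) : Matrix ι ι F) *ᵥ v) ∘ e.symm, by
      rw [hL₀, Function.comp_assoc, Equiv.symm_comp_self, Function.comp_id, mulVec_mulVec,
        Units.mul_inv, one_mulVec]⟩⟩
  have hL : ∀ x, L x = (P : Matrix ι ι F) *ᵥ (x ∘ e) := fun x => rfl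
  let Q' : QuadraticForm F ((Fin t → Fin k) → F) := R.comp L.toLinearMap
  have hQ' : ∀ x, Q' x = R (L x) := fun x => rfl
  have hp : ∀ x y, QuadraticMap.polar Q' x y = c * Φ.βT x y := fun x y => by
    rw [show QuadraticMap.polar Q' x y = QuadraticMap.polar R (L x) (L y) by
      simp only [QuadraticMap.polar, hQ', map_add], hL, hL, hcT]
    congr 1
    simp only [OForm.βT, OForm.ST, hS, dotProduct, Matrix.mulVec, pureMat_apply, Finset.mul_sum,
      mul_assoc, id]
  have hpR : ∀ x y, QuadraticMap.polar R (L x) (L y) = c * Φ.βT x y := fun x y => by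
    rw [← hp]
    simp only [QuadraticMap.polar, hQ', map_add]
  have hact : ∀ (M : GL (Fin t → Fin k) F) x,
      ((frU e P M : GL ι F) : Matrix ι ι F) *ᵥ L x = L ((M : MT) *ᵥ x) := fun M x => by
    rw [frU_val, frAlg_apply, hL, hL, mulVec_mulVec, mul_assoc, Units.inv_mul, mul_one,
      ← mulVec_mulVec, submatrix_mulVec_equiv, Function.comp_assoc, Equiv.self_comp_symm,
      Function.comp_id]
  let Θ : quadIso Q' ≃* quadIso R :=
    { toFun := fun y => ⟨L.symm.trans (y.1.trans L), fun v => by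
        show R (L (y.1 (L.symm v))) = R v
        rw [← hQ', y.2, hQ', L.apply_symm_apply]⟩
      invFun := fun x => ⟨L.trans (x.1.trans L.symm), fun v => by
        show R (L (L.symm (x.1 (L v)))) = R (L v)
        rw [L.apply_symm_apply, x.2]⟩
      left_inv := fun y => Subtype.ext (LinearEquiv.ext fun v => by
        show L.symm (L (y.1 (L.symm (L v)))) = y.1 v
        rw [L.symm_apply_apply, L.symm_apply_apply])
      right_inv := fun x => Subtype.ext (LinearEquiv.ext fun v => by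
        show L (L.symm (x.1 (L (L.symm v)))) = x.1 v
        rw [L.apply_symm_apply, L.apply_symm_apply])
      map_mul' := fun x y => Subtype.ext (LinearEquiv.ext fun v => by
        show L (x.1 (y.1 (L.symm v))) = L (x.1 (L.symm (L (y.1 (L.symm v)))))
        rw [L.symm_apply_apply]) }
  have hΩ : Cfsg.Geo.omegaGL ⇑R = (commutator (quadIso R)).map (toMat R) := by
    rw [Orth.omegaGL_eq hR hn5, OmegaSimple.commutator_eq R hR (by omega)]
  have hΘc : ∀ y, y ∈ commutator (quadIso Q') ↔ Θ y ∈ commutator (quadIso R) := fun y => by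
    have h : (commutator (quadIso Q')).map Θ.toMonoidHom = commutator (quadIso R) := by
      rw [_root_.commutator_def, _root_.commutator_def, Subgroup.map_commutator,
        Subgroup.map_top_of_surjective _ Θ.surjective]
    rw [← h]
    exact (Subgroup.mem_map_iff_mem Θ.injective).symm
  have hmem : ∀ M, frU e P M ∈ Cfsg.Geo.omegaGL ⇑R ↔ M ∈ OForm.DG Q' := by
    intro M
    rw [hΩ]
    constructor
    · rintro ⟨x, hx, hxM⟩
      refine ⟨Θ.symm x, (hΘc _).2 (by rwa [Θ.apply_symm_apply]), LinearEquiv.ext fun v => ?_⟩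
      rw [toLE_apply]
      show L.symm (x.1 (L v)) = _
      rw [LinearEquiv.symm_apply_eq, ← hact, ← hxM, toMat_mulVec]
    · rintro ⟨y, hy, hyM⟩
      refine ⟨Θ y, (hΘc y).1 hy, Units.ext (Matrix.toLin'.injective (LinearMap.ext fun v => ?_))⟩
      obtain ⟨x, rfl⟩ := L.surjective v
      rw [Matrix.toLin'_apply, Matrix.toLin'_apply, toMat_mulVec, hact, ← toLE_apply, ← hyM]
      show L (y.1 (L.symm (L x))) = L (y.1 x)
      rw [L.symm_apply_apply]
  have hiso : ∀ M ∈ OForm.DG Q', Φ.Iso M := by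
    rintro M ⟨y, -, hyM⟩
    have hy := y.2
    refine (Matrix.toLin'.injective (LinearMap.ext fun z => sub_eq_zero.1 (Φ.betaT_nondeg _
      fun w => ?_)) : Φ.adj (M : MT) * (M : MT) = 1)
    have h1 : Φ.βT ((M : MT) *ᵥ w) ((M : MT) *ᵥ z) = Φ.βT w z := by
      have h := OrthOrder.polar_map hy w z
      rw [show (y.1 : _) = toLE M from hyM] at h
      rw [hp, hp] at h
      simpa [toLE_apply] using mul_left_cancel₀ hc h
    rw [Matrix.toLin'_apply, Matrix.toLin'_apply, Matrix.one_mulVec, ← Matrix.mulVec_mulVec,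
      OForm.βT, Matrix.mulVec_sub, dotProduct_sub, ← OForm.βT, ← OForm.βT,
      ← Φ.betaT_mulVec, h1, sub_self]
  have hstd : ∀ M, frU e P M ∈ Cfsg.Geo.tensorWreathSubgroup k t e P ↔ IsWr M := fun M => by
    rw [Cfsg.Geo.tensorWreathSubgroup, map_glReindex_conj]
    exact ⟨fun ⟨M', hM', h⟩ => (frU e P).injective h ▸ mem_std_iff.1 hM',
      fun h => ⟨M, mem_std_iff.2 h, rfl⟩⟩
  obtain ⟨c₀, hc₀, hturn⟩ : ∃ c₀ : F, c₀ ≠ 0 ∧ (Odd k ∨ 3 ≤ t → ∀ i a, Φ.Cls c₀ a →
      ∃ g ∈ OForm.DG Q', (g : MT) = Φ.Tn i a) := by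
    by_cases h : Odd k ∨ 3 ≤ t
    · obtain ⟨c₀, h0, h1⟩ := Φ.exists_turn_class hc hp ht h
      exact ⟨c₀, h0, fun _ => h1⟩
    · exact ⟨1, one_ne_zero, fun h' => absurd h' h⟩
  have : NeZero k := ⟨by omega⟩
  -- every overgroup
  have key : ∀ K : Subgroup (GL ι F),
      Cfsg.Geo.tensorWreathSubgroup k t e P ⊓ Cfsg.Geo.omegaGL ⇑R ≤ K →
      K ≤ Cfsg.Geo.omegaGL ⇑R → Φ.Ov c₀ (K.comap (frU e P).toMonoidHom) := by
    intro K hHK hKΩ
    have hin : ∀ {M : GL (Fin t → Fin k) F}, IsWr M → M ∈ OForm.DG Q' →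
        M ∈ K.comap (frU e P).toMonoidHom := fun hw hd => hHK ⟨(hstd _).2 hw, (hmem _).2 hd⟩
    exact
    { c₀_ne := hc₀
      hk := hk
      hq := hq3
      minus := fun h U hU => hminus h U fun x hx => by rw [← hβ]; exact hU x hx
      iso := fun g hg => hiso g ((hmem g).1 (hKΩ hg))
      eu := fun i e' θ he hθ => by
        obtain ⟨g, hg, hgv⟩ := Φ.eu_mem_DG hc hp (by omega) i he hθ
        exact ⟨g, hin (isWr_of_fa (i := i) (by rw [hgv]; rfl)) hg, hgv⟩
      turn := fun h i a ha => by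
        obtain ⟨g, hg, hgv⟩ := hturn h i a ha
        exact ⟨g, hin (isWr_of_fa (i := i) (by rw [hgv]; rfl)) hg, hgv⟩
      pair := fun h i a b ha hb => by
        obtain ⟨g, hg, hgv⟩ := Φ.pair_mem_DG hc hp h ht i ha hb
        exact ⟨g, hin (isWr_of_fa (i := i) (M := Φ.T1 a * Φ.T1 b)
          (by rw [hgv, map_mul]; rfl)) hg, hgv⟩
      perm := fun σ hσ => hin ⟨1, σ, by rw [pureGL_one, one_mul]⟩
        (Φ.perm_mem_DG hc hp (by omega) σ hσ) }
  refine ⟨lt_of_le_of_ne inf_le_right fun h => ?_, fun K hK hKG => ?_⟩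
  · -- an Eichler transformation outside the stabiliser
    obtain ⟨η, hη0, hη⟩ := Φ.sform.exists_iso (by rw [Module.finrank_fin_fun]; exact hk)
    obtain ⟨ζ, hζ, hηζ⟩ := exists_pair Φ.sform hη0 hη
    obtain ⟨z, hz, hzz⟩ := exists_aniso_pairPerp Φ.sform (by rw [Module.finrank_fin_fun]; exact hk)
      hη hζ hηζ
    obtain ⟨hzη, hzζ⟩ := (mem_pairPerp Φ.sform).1 hz
    have hηz : Φ.β η z = 0 := Φ.sform.symm0 hzη
    let i₀ : Fin t := ⟨0, by omega⟩
    let u : (Fin t → Fin k) → F := pvec fun _ => η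
    let v : (Fin t → Fin k) → F := pvec (Function.update (fun _ : Fin t => η) i₀ z)
    have hnt : (Finset.univ.erase i₀).Nonempty :=
      ⟨⟨1, by omega⟩, by simp [i₀, Fin.ext_iff]⟩
    have huu : Φ.βT u u = 0 := by
      rw [Φ.betaT_pvec, Finset.prod_eq_zero (Finset.mem_univ i₀) hη]
    have hvu : Φ.βT v u = 0 := by
      rw [Φ.betaT_pvec, Finset.prod_eq_zero (Finset.mem_univ i₀)]
      rw [Function.update_self, hzη]
    have hvv : Φ.βT v v = 0 := by
      obtain ⟨l, hl⟩ := hnt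
      rw [Φ.betaT_pvec, Finset.prod_eq_zero (Finset.mem_univ l)]
      rw [Function.update_of_ne (Finset.mem_erase.1 hl).1, hη]
    have hu0 : u ≠ 0 := fun h0 => by
      have h1 : Φ.βT u (pvec fun _ => ζ) = 0 := by rw [h0]; simp [OForm.βT]
      rw [Φ.betaT_pvec] at h1
      simp [hηζ] at h1
    have hQu : Q' u = 0 := by rw [Φ.quad_val hc hp, huu, mul_zero]
    have hpol : QuadraticMap.polar Q' u (c⁻¹ • v) = 0 := by
      rw [QuadraticMap.polar_smul_right, hp, Φ.betaT_symm v u, hvu, mul_zero, smul_zero]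
    obtain ⟨x, hx⟩ := exists_eich Q' hQu hpol
    have hxc : x ∈ commutator (quadIso Q') := by
      have hfin' : 5 ≤ finrank F ((Fin t → Fin k) → F) := by
        rw [Module.finrank_fintype_fun_eq_card]
        simp only [Fintype.card_fun, Fintype.card_fin]
        omega
      rw [OmegaSimple.commutator_eq Q' (Φ.quad_nondeg' hc hp) hfin']
      exact OmegaSimple.eich_mem Q' (Φ.quad_nondeg' hc hp) hfin' hu0 hQu hpol hx
    obtain ⟨M, hM⟩ : ∃ M : GL (Fin t → Fin k) F, toLE M = x.1 :=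
      ⟨Matrix.GeneralLinearGroup.toLin.symm
        ((LinearMap.GeneralLinearGroup.generalLinearEquiv F _).symm x.1),
        by simp [toLE]⟩
    have hMΩ : frU e P M ∈ Cfsg.Geo.omegaGL ⇑R := (hmem M).2 ⟨x, hxc, hM.symm⟩
    have hW : IsWr M := (hstd M).1 (h.ge hMΩ).1
    obtain ⟨a, ha⟩ := isWr_pvec hW fun _ => ζ
    rw [← toLE_apply, hM, hx, hp, hp, Φ.quad_val hc hp] at ha
    have huz : Φ.βT u (pvec fun _ => ζ) = 1 := by
      rw [Φ.betaT_pvec]; simp [hηζ]
    have hvz : Φ.βT v (pvec fun _ => ζ) = 0 := by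
      rw [Φ.betaT_pvec, Finset.prod_eq_zero (Finset.mem_univ i₀)]
      rw [Function.update_self, hzζ]
    have hvv' : Φ.βT (c⁻¹ • v) (c⁻¹ • v) = 0 := by
      rw [OForm.βT, Matrix.mulVec_smul, dotProduct_smul, smul_dotProduct, ← OForm.βT, hvv,
        smul_zero, smul_zero]
    have hvz' : Φ.βT (c⁻¹ • v) (pvec fun _ => ζ) = 0 := by
      rw [OForm.βT, smul_dotProduct, ← OForm.βT, hvz, smul_zero]
    rw [huz, hvv', hvz', mul_one, mul_zero, mul_zero, neg_zero, zero_mul, sub_zero, zero_smul,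
      add_zero, smul_smul, mul_inv_cancel₀ hc, one_smul] at ha
    let Fn : (Fin t → Fin k → F) → F := fun h => Φ.βT (pvec h) (pvec a)
    have hFn : ∀ h, Fn h = (∏ l, Φ.β (h l) ζ) +
        ∏ l, Φ.β (h l) (Function.update (fun _ : Fin t => η) i₀ z l) := fun h => by
      simp only [Fn]
      rw [← ha, OForm.βT, Matrix.mulVec_add, dotProduct_add, ← OForm.βT, ← OForm.βT, Φ.betaT_pvec,
        Φ.betaT_pvec]
    have hmix : ∀ (w : Fin k → F) (r : Fin k → F),
        Fn (Function.update (fun _ : Fin t => r) i₀ w) =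
          Φ.β w (a i₀) * ∏ l ∈ Finset.univ.erase i₀, Φ.β r (a l) := fun w r => by
      simp only [Fn]
      rw [Φ.betaT_pvec, ← Finset.mul_prod_erase _ _ (Finset.mem_univ i₀), Function.update_self]
      exact congrArg _ (Finset.prod_congr rfl fun l hl => by
        rw [Function.update_of_ne (Finset.mem_erase.1 hl).1])
    have hval : ∀ (w : Fin k → F) (r : Fin k → F),
        Fn (Function.update (fun _ : Fin t => r) i₀ w) =
          Φ.β w ζ * Φ.β r ζ ^ (Finset.univ.erase i₀).card +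
          Φ.β w z * Φ.β r η ^ (Finset.univ.erase i₀).card := fun w r => by
      rw [hFn, ← Finset.mul_prod_erase _ _ (Finset.mem_univ i₀),
        ← Finset.mul_prod_erase _ _ (Finset.mem_univ i₀), Function.update_self, Function.update_self,
        ← Finset.prod_const, ← Finset.prod_const]
      congr 2 <;>
      · refine Finset.prod_congr rfl fun l hl => ?_
        simp [Function.update_of_ne (Finset.mem_erase.1 hl).1]
    have hζz : Φ.β ζ z = 0 := Φ.sform.symm0 hzζ
    have hζη : Φ.β ζ η = 1 := by rw [Φ.beta_symm η ζ, hηζ]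
    have h0 : (Finset.univ.erase i₀).card ≠ 0 := hnt.card_pos.ne'
    have e1 := (hmix η η).symm.trans (hval η η)
    have e2 := (hmix z ζ).symm.trans (hval z ζ)
    have e3 := (hmix η ζ).symm.trans (hval η ζ)
    rw [hη, hηζ, hηz, one_pow, one_mul, zero_mul, add_zero] at e1
    rw [hζ, hζη, hzζ, zero_mul, zero_add, one_pow, mul_one] at e2
    rw [hζ, hζη, hηz, hηζ, zero_pow h0, mul_zero, zero_mul, add_zero] at e3
    set A := Φ.β η (a i₀)
    set B := ∏ l ∈ Finset.univ.erase i₀, Φ.β η (a l)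
    set C := Φ.β z (a i₀)
    set D := ∏ l ∈ Finset.univ.erase i₀, Φ.β ζ (a l)
    rcases mul_eq_zero.1 e3 with h' | h'
    · rw [h', zero_mul] at e1
      exact zero_ne_one e1
    · rw [h', mul_zero] at e2
      exact hzz e2.symm
  by_cases hin : K ≤ Cfsg.Geo.tensorWreathSubgroup k t e P
  · exact Or.inl (le_antisymm (le_inf hin hKG) hK)
  refine Or.inr (le_antisymm hKG ?_)
  rcases hcore (key K hK hKG) with hwr | hbig
  · exfalso
    refine hin fun g hg => ?_
    obtain ⟨M, rfl⟩ := (frU e P).surjective g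
    exact (hstd M).2 (hwr M hg)
  rw [Orth.omegaGL_eq hR hn5, Subgroup.map_le_iff_le_comap, Subgroup.closure_le]
  rintro x ⟨u, v, d, hu, hv, huv, hx⟩
  rw [sieg_eich R hv] at hx
  obtain ⟨u', rfl⟩ := L.surjective u
  obtain ⟨w, hw⟩ := L.surjective (d • v)
  rw [← hw] at hx
  have hu' : Φ.βT u' u' = 0 := by
    have h1 : Q' u' = 0 := hu
    rw [Φ.quad_val hc hp] at h1
    exact (mul_eq_zero.1 h1).resolve_left (div_ne_zero hc h2)
  have hwu : Φ.βT w u' = 0 := by
    have h1 : QuadraticMap.polar R (L u') (L w) = 0 := by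
      rw [hw, QuadraticMap.polar_smul_right, huv, smul_zero]
    rw [hpR, Φ.betaT_symm w u'] at h1
    exact (mul_eq_zero.1 h1).resolve_left hc
  obtain ⟨g, hg, hgv⟩ := hbig u' (c • w) hu' (by
    rw [OForm.βT, smul_dotProduct, ← OForm.βT, hwu, smul_zero])
  show toMat R x ∈ K
  convert (show frU e P g ∈ K from hg) using 1
  refine Units.ext (Matrix.toLin'.injective (LinearMap.ext fun y => ?_))
  obtain ⟨y', rfl⟩ := L.surjective y
  rw [Matrix.toLin'_apply, Matrix.toLin'_apply, toMat_mulVec, hact, hgv, hx, Φ.EV_mulVec,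
    hpR, hpR, ← hQ', Φ.quad_val hc hp]
  have e1 : ∀ y, Φ.βT (c • w) y = c * Φ.βT w y := fun y => by
    rw [OForm.βT, smul_dotProduct, ← OForm.βT, smul_eq_mul]
  have e2 : Φ.βT (c • w) (c • w) = c * (c * Φ.βT w w) := by
    rw [e1, OForm.βT, Matrix.mulVec_smul, dotProduct_smul, ← OForm.βT, smul_eq_mul]
  have e3 : Φ.βT w (c • w) = c * Φ.βT w w := by
    rw [OForm.βT, Matrix.mulVec_smul, dotProduct_smul, ← OForm.βT, smul_eq_mul]
  simp only [map_add, map_sub, map_smul, e1, e3]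
  match_scalars <;> field_simp

/-- Maximality in odd dimension. -/
theorem orth_power_maximal_odd [Fintype F] (hodd : Odd (Fintype.card F)) (m : ℕ) (hm : 6 ≤ m)
    (hk : 3 ≤ k) (ht : 2 ≤ t) (hex : ¬ (Fintype.card F = 3 ∧ k = 3))
    (e : (Unit ⊕ (Fin m ⊕ Fin m)) ≃ (Fin t → Fin k))
    (P : Matrix.GeneralLinearGroup (Unit ⊕ (Fin m ⊕ Fin m)) F)
    (f₁ : (Fin k → F) → (Fin k → F) → F) (hf₁ : Cfsg.Geo.IsSymmetricForm f₁)
    (hT : Cfsg.Geo.IsTensorPowerFormStructure id (QuadraticMap.polar (Cfsg.quadFormOdd m F)) f₁ e P)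
    (hcore : ∀ {Φ : OForm F k} {c₀ : F} {G : Subgroup (GL (Fin t → Fin k) F)},
      Φ.Ov c₀ G → Φ.Concl G) :
    Cfsg.Geo.IsMaximalIn (Cfsg.Geo.omegaGL (Cfsg.quadFormOdd m F))
      (Cfsg.Geo.tensorWreathSubgroup k t e P ⊓ Cfsg.Geo.omegaGL (Cfsg.quadFormOdd m F)) := by
  have h2 : (2 : F) ≠ 0 := fun h => by
    have : CharP F 2 := CharTwo.of_one_ne_zero_of_two_eq_zero one_ne_zero h
    have := FiniteField.even_card_of_char_two (F := F) (ringChar.eq F 2)
    rw [Nat.odd_iff] at hodd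
    omega
  refine orth_power_maximal hk ht hodd (fun h h' => hex ⟨by rwa [← Nat.card_eq_fintype_card], h⟩)
    (CfsgLib.Aschbacher.isNondegenerate_quadFormOdd (m := m) h2) e P f₁ hf₁
    (fun h => ?_) hT hcore
  exfalso
  have h1 : 1 + (m + m) = 4 ^ t := by
    have := Fintype.card_congr e
    simpa [h] using this
  have h4 : 2 ∣ 4 ^ t := dvd_pow (by norm_num) (by omega)
  omega

/-- Maximality in even dimension. -/
theorem orth_power_maximal_even [Fintype F] {n : ℕ} (Q : (Fin n → F) → F)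
    (hQ : Cfsg.Geo.IsNondegenerateQuadraticForm Q) (hodd : Odd (Fintype.card F)) (ht : 2 ≤ t)
    (e : (Fin n) ≃ (Fin t → Fin k)) (P : Matrix.GeneralLinearGroup (Fin n) F)
    (f₁ : (Fin k → F) → (Fin k → F) → F) (hf₁ : Cfsg.Geo.IsSymmetricForm f₁)
    (hsize : (6 ≤ k ∧ Cfsg.Geo.IsPlusTypeOn (fun v : Fin k → F => f₁ v v) ⊤) ∨
      (4 ≤ k ∧ ¬ Cfsg.Geo.IsPlusTypeOn (fun v : Fin k → F => f₁ v v) ⊤))
    (hT : Cfsg.Geo.IsTensorPowerFormStructure id (QuadraticMap.polar Q) f₁ e P)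
    (hcore : ∀ {Φ : OForm F k} {c₀ : F} {G : Subgroup (GL (Fin t → Fin k) F)},
      Φ.Ov c₀ G → Φ.Concl G) :
    Cfsg.Geo.IsMaximalIn (Cfsg.Geo.omegaGL Q)
      (Cfsg.Geo.tensorWreathSubgroup k t e P ⊓ Cfsg.Geo.omegaGL Q) := by
  have hk : 4 ≤ k := by rcases hsize with h | h <;> omega
  refine orth_power_maximal (by omega) ht hodd (fun h => by omega) hQ e P f₁ hf₁
    (fun h W hW => ?_) hT hcore
  rcases hsize with ⟨h6, -⟩ | ⟨-, hm⟩
  · omega
  subst h
  by_contra hc
  obtain ⟨g, hg⟩ := exists_linearIndependent_of_le_finrank (R := F) (M := W) (n := 2) (by omega)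
  refine hm ⟨Submodule.span F (Set.range fun i => (g i : Fin 4 → F)), le_top,
    fun w hw => hW w (Submodule.span_le.2 (Set.range_subset_iff.2 fun i => (g i).2) hw), ?_⟩
  have hg' : LinearIndependent F fun i => (g i : Fin 4 → F) := hg.map' W.subtype W.ker_subtype
  rw [finrank_span_eq_card hg', finrank_top, Module.finrank_fintype_fun_eq_card, Fintype.card_fin,
    Fintype.card_fin]

end CfsgLib.MaxSub.TensorPowOrth
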