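import Cfsg.Agent.Lib.MaxSub.TensorPowOrth.Defs
import Cfsg.Agent.Lib.MaxSub.TensorPow.Op

/-!
The factor algebras generate everything; a set of anticommuting operators invariant in every factor is
trivial.
-/

set_option autoImplicit false
set_option maxHeartbeats 400000
set_option linter.unusedSectionVars false

namespace CfsgLib.MaxSub.TensorPowOrth

open Matrix Module
open CfsgLib.Aschbacher CfsgLib.MaxSub.TensorPow

variable {F : Type*} [Field F] {k t : ℕ}

local notation "Mm" => Matrix (Fin k) (Fin k) F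
local notation "VT" => (Fin t → Fin k) → F
local notation "MT" => Matrix (Fin t → Fin k) (Fin t → Fin k) F

/-- The factor algebras generate the whole algebra. -/
theorem fa_top (A : Subalgebra F MT) (h : ∀ l (X : Mm), (fa l X : MT) ∈ A) (Y : MT) : Y ∈ A := by
  have hp : ∀ (s : Finset (Fin t)) (B : Fin t → Mm),
      pureMat (fun l => if l ∈ s then B l else 1) ∈ A := fun s B => by
    induction s using Finset.induction_on with
    | empty => simpa using (pureMat_one (F := F) (m := k) (t := t)).symm ▸ A.one_mem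
    | @insert a s has ih =>
      have e : (pureMat (fun l => if l ∈ insert a s then B l else 1) : MT) =
          fa a (B a) * pureMat (fun l => if l ∈ s then B l else 1) := by
        rw [fa_eq, pureMat_mul]
        congr 1
        funext l
        by_cases hl : l = a
        · subst hl; simp [has]
        · simp [hl]
      rw [e]
      exact A.mul_mem (h a _) ih
  rw [Matrix.matrix_eq_sum_single Y]
  refine A.sum_mem fun x _ => A.sum_mem fun y _ => ?_
  have h1 := A.smul_mem (hp Finset.univ fun l => Matrix.single (x l) (y l) (1 : F)) (Y x y)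
  simp only [Finset.mem_univ, if_true, ← single_eq_pureMat] at h1
  simpa using h1

/-- A non-zero subspace invariant under all factor algebras is everything. -/
theorem fa_irreducible (K : Submodule F VT) (h : ∀ l (X : Mm), ∀ v ∈ K, (fa l X : MT) *ᵥ v ∈ K)
    {v : VT} (hv : v ∈ K) (hv0 : v ≠ 0) (w : VT) : w ∈ K := by
  have hall : ∀ (Y : MT), ∀ u ∈ K, Y *ᵥ u ∈ K := fa_top
    { carrier := {Y | ∀ u ∈ K, Y *ᵥ u ∈ K}
      mul_mem' := fun {X Z} hX hZ u hu => by
        rw [← Matrix.mulVec_mulVec]
        exact hX _ (hZ u hu)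
      one_mem' := fun u hu => by rwa [Matrix.one_mulVec]
      add_mem' := fun {X Z} hX hZ u hu => by
        rw [Matrix.add_mulVec]
        exact K.add_mem (hX u hu) (hZ u hu)
      zero_mem' := fun u _ => by simp
      algebraMap_mem' := fun c u hu => by
        rw [Algebra.algebraMap_eq_smul_one, Matrix.smul_mulVec, Matrix.one_mulVec]
        exact K.smul_mem c hu } h
  obtain ⟨x, hx⟩ := Function.ne_iff.1 hv0
  rw [pi_eq_sum_univ' w]
  refine K.sum_mem fun y _ => K.smul_mem _ ?_
  have h1 := K.smul_mem (v x)⁻¹ (hall (Matrix.single y x (1 : F)) v hv)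
  rw [Matrix.single_mulVec] at h1
  convert h1 using 1
  funext z
  by_cases hz : z = y
  · subst hz
    simp [Pi.single_apply, inv_mul_cancel₀ hx]
  · simp [hz, Pi.single_apply]

namespace OForm

variable (Φ : OForm F k) [Finite F]

/-- Pairwise anticommuting operators, commuting with or invariant in each factor, are zero. -/
theorem nilp_zero (hk : 3 ≤ k) (S : Set MT)
    (hanti : ∀ R ∈ S, ∀ R' ∈ S, R * R' = -(R' * R))
    (hinv : ∀ l, (∀ R ∈ S, Cm l R) ∨ ∀ e θ, Φ.β e e = 0 → Φ.β θ e = 0 → ∀ R ∈ S,
      Φ.E l e θ * R * Φ.E l e (-θ) ∈ S) {R : MT} (hR : R ∈ S) : R = 0 := by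
  have hne : Nonempty (Fin t → Fin k) := ⟨fun _ => ⟨0, by omega⟩⟩
  have hsq : ∀ R ∈ S, R * R = 0 := fun R hR => by
    have h := hanti R hR R hR
    rw [eq_neg_iff_add_eq_zero, ← two_smul F] at h
    exact (smul_eq_zero.1 h).resolve_left Φ.two
  have hker : ∀ s : Finset MT, (↑s ⊆ S) → ∃ v : VT, v ≠ 0 ∧ ∀ R ∈ s, R *ᵥ v = 0 := fun s => by
    classical
    induction s using Finset.induction_on with
    | empty =>
      obtain ⟨x⟩ := hne
      exact fun _ => ⟨Pi.single x 1, by simp, by simp⟩
    | @insert R s _ ih =>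
      intro hs
      rw [Finset.coe_insert, Set.insert_subset_iff] at hs
      obtain ⟨v, hv0, hv⟩ := ih hs.2
      by_cases h : R *ᵥ v = 0
      · exact ⟨v, hv0, fun R' hR' => (Finset.mem_insert.1 hR').elim (· ▸ h) (hv R')⟩
      · refine ⟨R *ᵥ v, h, fun R' hR' => ?_⟩
        rcases Finset.mem_insert.1 hR' with rfl | hR'
        · rw [Matrix.mulVec_mulVec, hsq _ hs.1, Matrix.zero_mulVec]
        · rw [Matrix.mulVec_mulVec, hanti _ (hs.2 hR') _ hs.1, Matrix.neg_mulVec,
            ← Matrix.mulVec_mulVec, hv R' hR', Matrix.mulVec_zero, neg_zero]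
  haveI : Finite MT := inferInstanceAs (Finite ((Fin t → Fin k) → (Fin t → Fin k) → F))
  obtain ⟨v, hv0, hv⟩ := hker (Set.toFinite S).toFinset (by simp)
  let K : Submodule F VT :=
    { carrier := {w | ∀ R ∈ S, R *ᵥ w = 0}
      zero_mem' := fun R _ => Matrix.mulVec_zero R
      add_mem' := fun {a b} ha hb R hR => by rw [Matrix.mulVec_add, ha R hR, hb R hR, add_zero]
      smul_mem' := fun c a ha R hR => by rw [Matrix.mulVec_smul, ha R hR, smul_zero] }
  have hK : ∀ l (X : Mm), ∀ w ∈ K, (fa l X : MT) *ᵥ w ∈ K := fun l X w hw => by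
    rcases hinv l with h | h
    · intro R hR
      rw [Matrix.mulVec_mulVec, (h R hR X).eq, ← Matrix.mulVec_mulVec, hw R hR, Matrix.mulVec_zero]
    · refine Φ.invariant_of_E hk K (fun e θ he hθ u hu R hR => ?_) X hw
      have hnθ : Φ.β (-θ) e = 0 := by rw [Φ.sform.neg_left, hθ, neg_zero]
      have h1 := hu _ (h e (-θ) he hnθ R hR)
      rw [neg_neg, ← Matrix.mulVec_mulVec, ← Matrix.mulVec_mulVec] at h1
      have h2 := congrArg (Φ.E l e θ *ᵥ ·) h1
      simpa only [Matrix.mulVec_mulVec, ← mul_assoc, Φ.E_mul_neg l he hθ, one_mul,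
        Matrix.mulVec_zero] using h2
  have hall := fa_irreducible K hK (v := v)
    (fun R hR => hv R ((Set.toFinite S).mem_toFinset.2 hR)) hv0
  exact Matrix.ext_of_mulVec_single fun x => by
    rw [Matrix.zero_mulVec]
    exact hall (Pi.single x 1) R hR

end OForm

end CfsgLib.MaxSub.TensorPowOrth
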