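import Cfsg.Agent.Lib.MaxSub.TensorPowOrth.Defs
import Cfsg.Agent.Lib.MaxSub.TensorPow.RankTools
import Cfsg.Agent.Lib.MaxSub.TensorOO.Main
import Mathlib.GroupTheory.SpecificGroups.Alternating

/-!
The generators of the stabiliser of an orthogonal tensor power that lie in the derived group of the
isometry group of the tensor power.
-/

set_option autoImplicit false
set_option maxHeartbeats 800000
set_option linter.unusedSectionVars false

namespace CfsgLib.MaxSub.TensorPowOrth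

open Matrix Module
open CfsgLib.Aschbacher CfsgLib.MaxSub.TensorPow
open CfsgLib.WittExtension (quadIso)
open CfsgLib.SpinorNorm (refl refl_apply refl_conj refl_mul_self)
open CfsgLib.MaxSub.TensorOO (mem_commutator_of_odd refl_pair_eq)

variable {F : Type*} [Field F] {k t : ℕ}

local notation "Vk" => Fin k → F
local notation "Mm" => Matrix (Fin k) (Fin k) F
local notation "VT" => (Fin t → Fin k) → F
local notation "MT" => Matrix (Fin t → Fin k) (Fin t → Fin k) F
local notation "GT" => GL (Fin t → Fin k) F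

/-- An invertible matrix as a linear automorphism. -/
def toLE : GT →* (VT ≃ₗ[F] VT) :=
  ((Matrix.GeneralLinearGroup.toLin).trans
    (LinearMap.GeneralLinearGroup.generalLinearEquiv F VT)).toMonoidHom

theorem toLE_apply (g : GT) (x : VT) : toLE g x = (g : MT) *ᵥ x := rfl

/-- The class of a reflection. -/
noncomputable def rc {Q : QuadraticForm F ((Fin t → Fin k) → F)} (v : (Fin t → Fin k) → F)
    (hv : Q v ≠ 0) : Abelianization (quadIso Q) :=
  Abelianization.of (refl Q hv)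

namespace OForm

variable (Φ : OForm F k)

theorem betaT_mulVec (X : MT) (x y : VT) : Φ.βT (X *ᵥ x) y = Φ.βT x (Φ.adj X *ᵥ y) := by
  rw [βT, βT, adj, Matrix.mulVec_mulVec, ← mul_assoc, ← mul_assoc, ST_mul, one_mul,
    ← Matrix.mulVec_mulVec, dotProduct_mulVec x, Matrix.vecMul_transpose]

theorem betaT_pvec (u v : Fin t → Vk) : Φ.βT (pvec u) (pvec v) = ∏ l, Φ.β (u l) (v l) := by
  rw [βT, ST, TensorPow.pureMat_mulVec]
  simp only [pvec, dotProduct, β, ← Finset.prod_mul_distrib]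
  exact (Fintype.prod_sum fun i z => u i z * (Φ.S *ᵥ v i) z).symm

theorem betaT_symm (x y : VT) : Φ.βT y x = Φ.βT x y := by
  rw [βT, βT, dotProduct_mulVec, ← mulVec_transpose, ST_transpose, dotProduct_comm]

theorem betaT_nondeg (x : VT) (h : ∀ y, Φ.βT y x = 0) : x = 0 := by
  have h1 : Φ.ST t *ᵥ x = 0 := dotProduct_eq_zero _ fun w => by
    rw [dotProduct_comm]; exact h w
  have := congrArg (Φ.STi t *ᵥ ·) h1
  simpa [Matrix.mulVec_mulVec, STi_mul] using this

/-- The isometry group of the tensor power. -/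
def isoGrp (t : ℕ) : Subgroup (GL (Fin t → Fin k) F) where
  carrier := {g | Φ.Iso g}
  mul_mem' := fun hg hh => hg.mul hh
  one_mem' := by
    show Φ.Iso _
    simp [Iso, adj_one]
  inv_mem' := fun hg => hg.inv

/-- An orthogonal basis of a factor. -/
theorem exists_orth_basis : ∃ ε : Module.Basis (Fin k) F (Fin k → F),
    (∀ a b, a ≠ b → Φ.β (ε a) (ε b) = 0) ∧ ∀ a, Φ.β (ε a) (ε a) ≠ 0 := by
  have : Invertible (2 : F) := invertibleOfNonzero Φ.two
  set B : LinearMap.BilinForm F Vk := LinearMap.mk₂ F Φ.β Φ.sform.add_left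
    (fun s x z => Φ.sform.smul_left s x z) Φ.sform.add_right (fun s x z => Φ.sform.smul_right s x z)
  have hBs : LinearMap.IsSymm B := ⟨fun x y => Φ.sform.symm y x⟩
  obtain ⟨bas₀, hbas₀⟩ := LinearMap.BilinForm.exists_orthogonal_basis (B := B) hBs
  let ε := bas₀.reindex (finCongr (Module.finrank_fin_fun (R := F) (n := k)))
  have horth : ∀ a b, a ≠ b → Φ.β (ε a) (ε b) = 0 := fun a b hab => by
    simp only [ε, Basis.reindex_apply]
    exact hbas₀ (i := (finCongr (Module.finrank_fin_fun (R := F) (n := k))).symm a)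
      (j := (finCongr (Module.finrank_fin_fun (R := F) (n := k))).symm b)
      (fun e => hab ((finCongr (Module.finrank_fin_fun (R := F) (n := k))).symm.injective e))
  refine ⟨ε, horth, fun a h0 => ε.ne_zero a (Φ.sform.nondeg _ fun y => ?_)⟩
  rw [← ε.sum_repr y, Φ.sform.sum_right]
  refine Finset.sum_eq_zero fun b _ => ?_
  rw [Φ.sform.smul_right]
  rcases eq_or_ne a b with rfl | hab
  · rw [h0, mul_zero]
  · rw [horth a b hab, mul_zero]

section frame

variable (ε : Module.Basis (Fin k) F (Fin k → F)) (hεo : ∀ a b, a ≠ b → Φ.β (ε a) (ε b) = 0)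
  (hεn : ∀ a, Φ.β (ε a) (ε a) ≠ 0) (i : Fin t)

/-- The remaining coordinates. -/
abbrev Rest (t k : ℕ) (i : Fin t) := {l : Fin t // l ≠ i} → Fin k

/-- A pure vector with prescribed component in one factor. -/
noncomputable def fvec (a : Vk) (b : Rest t k i) : VT :=
  pvec fun l => if h : l = i then a else ε (b ⟨l, h⟩)

/-- The product of the diagonal values in the other factors. -/
noncomputable def rest (b : Rest t k i) : F := ∏ l, Φ.β (ε (b l)) (ε (b l))

theorem betaT_vec (a a' : Vk) (b b' : Rest t k i) :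
    Φ.βT (fvec ε i a b) (fvec ε i a' b') = Φ.β a a' * ∏ l, Φ.β (ε (b l)) (ε (b' l)) := by
  classical
  rw [fvec, fvec, betaT_pvec, ← Finset.mul_prod_erase _ _ (Finset.mem_univ i), dif_pos rfl,
    dif_pos rfl]
  congr 1
  refine (Finset.prod_bij (fun l _ => l.1) (fun l _ => by simp [l.2])
    (fun _ _ _ _ h => Subtype.ext h) (fun l hl => ⟨⟨l, (Finset.mem_erase.1 hl).1⟩, by simp, rfl⟩)
    fun l _ => ?_).symm
  rw [dif_neg l.2, dif_neg l.2]

include hεo in
theorem betaT_vec_of_ne (a a' : Vk) {b b' : Rest t k i} (h : b ≠ b') :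
    Φ.βT (fvec ε i a b) (fvec ε i a' b') = 0 := by
  obtain ⟨l, hl⟩ := Function.ne_iff.1 h
  rw [betaT_vec, Finset.prod_eq_zero (Finset.mem_univ l) (hεo _ _ hl), mul_zero]

theorem vec_frame (x : Fin t → Fin k) :
    fvec ε i (ε (x i)) (fun l => x l) = pvec fun l => ε (x l) := by
  refine congrArg pvec (funext fun l => ?_)
  by_cases h : l = i
  · rw [dif_pos h, h]
  · rw [dif_neg h]

include hεo hεn in
theorem frame_span : Submodule.span F (Set.range fun x : Fin t → Fin k =>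
    (pvec fun l => ε (x l) : VT)) = ⊤ := by
  set B : (Fin t → Fin k) → VT := fun x => pvec fun l => ε (x l)
  have hli : LinearIndependent F B := by
    refine Fintype.linearIndependent_iff.2 fun g hg x => ?_
    have h := congrArg (Φ.βT (B x)) hg
    have e1 : Φ.βT (B x) (0 : VT) = 0 := by simp [βT]
    rw [e1, βT, Matrix.mulVec_sum, dotProduct_sum, Finset.sum_eq_single x] at h
    · rw [Matrix.mulVec_smul, dotProduct_smul, ← βT, smul_eq_mul, betaT_pvec] at h
      exact (mul_eq_zero.1 h).resolve_right (Finset.prod_ne_zero_iff.2 fun l _ => hεn _)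
    · intro y _ hy
      obtain ⟨l, hl⟩ := Function.ne_iff.1 hy
      rw [Matrix.mulVec_smul, dotProduct_smul, ← βT, betaT_pvec,
        Finset.prod_eq_zero (Finset.mem_univ l) (hεo _ _ (Ne.symm hl)), smul_zero]
    · simp
  refine hli.span_eq_top_of_card_eq_finrank' ?_
  rw [Module.finrank_fintype_fun_eq_card]

theorem fa_vec (A : Mm) (a : Vk) (b : Rest t k i) :
    (fa i A : MT) *ᵥ fvec ε i a b = fvec ε i (A *ᵥ a) b := by
  rw [fa_eq, fvec, fvec, TensorPow.pureMat_mulVec]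
  refine congrArg pvec (funext fun l => ?_)
  by_cases h : l = i
  · subst h; simp
  · simp [h]

theorem fvec_apply (a : Vk) (b : Rest t k i) (x : Fin t → Fin k) :
    fvec ε i a b x = a (x i) * ∏ l : {l : Fin t // l ≠ i}, ε (b l) (x l) := by
  classical
  rw [fvec, pvec, ← Finset.mul_prod_erase _ _ (Finset.mem_univ i), dif_pos rfl]
  congr 1
  refine (Finset.prod_bij (fun l _ => l.1) (fun l _ => by simp [l.2])
    (fun _ _ _ _ h => Subtype.ext h) (fun l hl => ⟨⟨l, (Finset.mem_erase.1 hl).1⟩, by simp, rfl⟩)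
    fun l _ => ?_).symm
  rw [dif_neg l.2]

theorem vec_add (a a' : Vk) (b : Rest t k i) :
    fvec ε i (a + a') b = fvec ε i a b + fvec ε i a' b := by
  funext x
  simp [fvec_apply, add_mul]

theorem vec_smul (s : F) (a : Vk) (b : Rest t k i) : fvec ε i (s • a) b = s • fvec ε i a b := by
  funext x
  simp [fvec_apply, mul_assoc]

end frame

variable [Finite F] {c : F} {Q : QuadraticForm F ((Fin t → Fin k) → F)}
  (hc : c ≠ 0) (hp : ∀ x y, QuadraticMap.polar Q x y = c * Φ.βT x y)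
include hc hp

theorem quad_val (x : VT) : Q x = c / 2 * Φ.βT x x := by
  have h := hp x x
  rw [QuadraticMap.polar_self, two_nsmul] at h
  have := Φ.two
  field_simp
  linear_combination h

theorem quad_nondeg' : (QuadraticMap.polarBilin Q).Nondegenerate := by
  refine ⟨fun x h => Φ.betaT_nondeg x fun y => ?_, fun x h => Φ.betaT_nondeg x fun y => ?_⟩
  · have h1 : QuadraticMap.polar Q x y = 0 := h y
    rw [hp, Φ.betaT_symm x y] at *
    exact (mul_eq_zero.1 h1).resolve_left hc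
  · have h1 : QuadraticMap.polar Q y x = 0 := h y
    rw [hp] at h1
    exact (mul_eq_zero.1 h1).resolve_left hc

theorem toLE_mem {g : GT} (hg : Φ.Iso g) : toLE g ∈ quadIso Q := fun x => by
  rw [toLE_apply, Φ.quad_val hc hp, Φ.quad_val hc hp, betaT_mulVec, Matrix.mulVec_mulVec, hg,
    Matrix.one_mulVec]

/-- The isometries of the tensor power as isometries of the quadratic form. -/
def toIso : Φ.isoGrp t →* quadIso Q where
  toFun g := ⟨toLE (g : GT), Φ.toLE_mem hc hp g.2⟩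
  map_one' := Subtype.ext (map_one toLE)
  map_mul' g h := Subtype.ext (map_mul toLE (g : GT) h)

/-- The class modulo the derived group. -/
def cl : Φ.isoGrp t →* Abelianization (quadIso Q) :=
  Abelianization.of.comp (Φ.toIso hc hp)

theorem rc_sq (v : VT) (hv : Q v ≠ 0) : rc v hv * rc v hv = 1 := by
  rw [rc, ← map_mul, refl_mul_self, map_one]

theorem rc_congr {u v : VT} (hu : Q u ≠ 0) (hv : Q v ≠ 0) (h : IsSquare (Q v / Q u)) :
    rc u hu = rc v hv := by
  obtain ⟨s, hs⟩ := h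
  obtain ⟨g, hg⟩ := refl_conj Q (Φ.quad_nondeg' hc hp) hu hv (s := s)
    (by rw [← hs, div_mul_cancel₀ _ hu])
  rw [rc, rc, ← hg, map_mul, map_mul, map_inv, mul_comm (Abelianization.of g),
    mul_inv_cancel_right]

/-- An isometry that is a product of commuting reflections in orthogonal vectors. -/
theorem exists_refl_prod {J : Type*} (s : Finset J) (v : J → VT) (hv : ∀ b, Q (v b) ≠ 0)
    (ho : ∀ a b, a ≠ b → Φ.βT (v a) (v b) = 0) :
    ∃ g : quadIso Q, Abelianization.of g = ∏ b ∈ s, rc (v b) (hv b) ∧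
      ∀ x, g.1 x = x - ∑ b ∈ s, (2 * Φ.βT (v b) x / Φ.βT (v b) (v b)) • v b := by
  classical
  induction s using Finset.induction_on with
  | empty => exact ⟨1, by simp, fun x => by simp⟩
  | insert b s hb ih =>
    obtain ⟨g, hg, hgx⟩ := ih
    refine ⟨refl Q (hv b) * g, by rw [map_mul, hg, Finset.prod_insert hb]; rfl, fun x => ?_⟩
    show (refl Q (hv b)).1 (g.1 x) = _
    have hbv : Φ.βT (v b) (v b) ≠ 0 := fun h => hv b (by rw [Φ.quad_val hc hp, h, mul_zero])
    have h1 : Φ.βT (v b) (g.1 x) = Φ.βT (v b) x := by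
      rw [hgx, βT, βT, Matrix.mulVec_sub, Matrix.mulVec_sum, dotProduct_sub, dotProduct_sum]
      refine (sub_eq_self).2 (Finset.sum_eq_zero fun a ha => ?_)
      rw [Matrix.mulVec_smul, dotProduct_smul, ← βT, ho b a (fun e => hb (e ▸ ha)), smul_zero]
    rw [refl_apply, hp, h1, Φ.quad_val hc hp, hgx, Finset.sum_insert hb,
      show (c / 2 * Φ.βT (v b) (v b))⁻¹ * (c * Φ.βT (v b) x) =
        2 * Φ.βT (v b) x / Φ.βT (v b) (v b) by
        have := Φ.two
        field_simp]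
    module

/-- The class of an isometry acting as a product of reflections in orthogonal pure vectors. -/
theorem cl_eq_prod {J : Type*} [Fintype J] (v : J → VT) (hv : ∀ b, Q (v b) ≠ 0)
    (ho : ∀ a b, a ≠ b → Φ.βT (v a) (v b) = 0) (g : Φ.isoGrp t)
    {K : Type*} (B : K → VT) (hB : Submodule.span F (Set.range B) = ⊤)
    (h : ∀ a, ((g : GT) : MT) *ᵥ B a =
      B a - ∑ b, (2 * Φ.βT (v b) (B a) / Φ.βT (v b) (v b)) • v b) :
    Φ.cl hc hp g = ∏ b, rc (v b) (hv b) := by
  obtain ⟨g', hg', hgx⟩ := Φ.exists_refl_prod hc hp Finset.univ v hv ho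
  rw [← hg', cl, MonoidHom.comp_apply]
  refine congrArg Abelianization.of (Subtype.ext (LinearEquiv.toLinearMap_injective
    (LinearMap.ext_on hB ?_)))
  rintro _ ⟨a, rfl⟩
  show (toLE (g : GT)) (B a) = g'.1 (B a)
  rw [toLE_apply, h, hgx]

section frame

variable (ε : Module.Basis (Fin k) F (Fin k → F)) (hεo : ∀ a b, a ≠ b → Φ.β (ε a) (ε b) = 0)
  (hεn : ∀ a, Φ.β (ε a) (ε a) ≠ 0) (i : Fin t)
include hεo hεn

theorem vec_ne {a : Vk} (ha : Φ.β a a ≠ 0) (b : Rest t k i) : Q (fvec ε i a b) ≠ 0 := by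
  rw [Φ.quad_val hc hp, betaT_vec]
  exact mul_ne_zero (div_ne_zero hc Φ.two)
    (mul_ne_zero ha (Finset.prod_ne_zero_iff.2 fun l _ => hεn _))

/-- The class of the reflection of a factor. -/
noncomputable def fcl {a : Vk} (ha : Φ.β a a ≠ 0) : Abelianization (quadIso Q) :=
  ∏ b, rc _ (Φ.vec_ne hc hp ε hεo hεn i ha b)

theorem fcl_sq {a : Vk} (ha : Φ.β a a ≠ 0) :
    Φ.fcl hc hp ε hεo hεn i ha * Φ.fcl hc hp ε hεo hεn i ha = 1 := by
  rw [fcl, ← Finset.prod_mul_distrib]
  exact Finset.prod_eq_one fun b _ => Φ.rc_sq hc hp _ _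

theorem fcl_congr {a a' : Vk} (ha : Φ.β a a ≠ 0) (ha' : Φ.β a' a' ≠ 0)
    (h : IsSquare (Φ.β a' a' / Φ.β a a)) :
    Φ.fcl hc hp ε hεo hεn i ha = Φ.fcl hc hp ε hεo hεn i ha' := by
  refine Finset.prod_congr rfl fun b _ => Φ.rc_congr hc hp _ _ ?_
  convert h using 1
  rw [Φ.quad_val hc hp, Φ.quad_val hc hp, betaT_vec, betaT_vec]
  have := Φ.two
  have := Finset.prod_ne_zero_iff.2 fun l (_ : l ∈ Finset.univ) => hεn (b l)
  field_simp

/-- The class of the negation of a factor's reflection. -/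
theorem cl_neg_turn {a : Vk} (ha : Φ.β a a ≠ 0) (g : Φ.isoGrp t)
    (hg : ((g : GT) : MT) = -Φ.Tn i a) :
    Φ.cl hc hp g = Φ.fcl hc hp ε hεo hεn i ha := by
  classical
  refine Φ.cl_eq_prod hc hp _ (Φ.vec_ne hc hp ε hεo hεn i ha)
    (fun _ _ h => Φ.betaT_vec_of_ne ε hεo i a a h) g _ (Φ.frame_span ε hεo hεn) fun x => ?_
  have e1 : (pvec fun l => ε (x l) : VT) = fvec ε i (ε (x i)) (fun l => x l) :=
    (vec_frame ε i x).symm
  rw [e1]
  set z : Vk := ε (x i)
  set b₀ : Rest t k i := fun l => x l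
  rw [hg, Matrix.neg_mulVec, Tn, fa_vec, T1_mulVec, Finset.sum_eq_single b₀
    (fun b _ hb => by rw [Φ.betaT_vec_of_ne ε hεo i a z hb, mul_zero, zero_div, zero_smul])
    (by simp), sub_eq_add_neg, ← neg_one_smul F z, vec_add, vec_smul, vec_smul, betaT_vec,
    betaT_vec]
  have h1 := Finset.prod_ne_zero_iff.2 fun l (_ : l ∈ Finset.univ) => hεn (b₀ l)
  match_scalars <;> field_simp

/-- The class of minus the identity. -/
theorem cl_neg_one (g : Φ.isoGrp t) (hg : ((g : GT) : MT) = -1) :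
    Φ.cl hc hp g = ∏ j, Φ.fcl hc hp ε hεo hεn i (hεn j) := by
  classical
  have hv : ∀ p : Fin k × Rest t k i, Q (fvec ε i (ε p.1) p.2) ≠ 0 :=
    fun p => Φ.vec_ne hc hp ε hεo hεn i (hεn p.1) p.2
  have ho : ∀ p q : Fin k × Rest t k i, p ≠ q →
      Φ.βT (fvec ε i (ε p.1) p.2) (fvec ε i (ε q.1) q.2) = 0 := fun p q hpq => by
    by_cases h : p.2 = q.2
    · have h1 : p.1 ≠ q.1 := fun e => hpq (Prod.ext e h)
      rw [betaT_vec, hεo _ _ h1, zero_mul]
    · exact Φ.betaT_vec_of_ne ε hεo i _ _ h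
  rw [Φ.cl_eq_prod hc hp _ hv ho g _ (Φ.frame_span ε hεo hεn) fun x => ?_, Fintype.prod_prod_type]
  · rfl
  have e1 : (pvec fun l => ε (x l) : VT) = fvec ε i (ε (x i)) (fun l => x l) :=
    (vec_frame ε i x).symm
  rw [e1, hg, Matrix.neg_mulVec, Matrix.one_mulVec,
    Finset.sum_eq_single (x i, fun l : {l : Fin t // l ≠ i} => x l)
      (fun p _ hp' => by rw [ho _ _ hp', mul_zero, zero_div, zero_smul]) (by simp)]
  have h1 : Φ.βT (fvec ε i (ε (x i)) fun l => x l) (fvec ε i (ε (x i)) fun l => x l) ≠ 0 := by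
    rw [betaT_vec]
    exact mul_ne_zero (hεn _) (Finset.prod_ne_zero_iff.2 fun l _ => hεn _)
  rw [mul_div_assoc, div_self h1, mul_one, two_smul]
  abel

/-- In even dimension the class of a reflection does not depend on the vector. -/
theorem fcl_even (hk : Even k) (ht : 2 ≤ t) {a a' : Vk} (ha : Φ.β a a ≠ 0) (ha' : Φ.β a' a' ≠ 0) :
    Φ.fcl hc hp ε hεo hεn i ha = Φ.fcl hc hp ε hεo hεn i ha' := by
  classical
  have hQ := Φ.quad_nondeg' hc hp
  suffices h : Φ.fcl hc hp ε hεo hεn i ha * Φ.fcl hc hp ε hεo hεn i ha' = 1 by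
    calc _ = Φ.fcl hc hp ε hεo hεn i ha * (Φ.fcl hc hp ε hεo hεn i ha' *
          Φ.fcl hc hp ε hεo hεn i ha') := by rw [Φ.fcl_sq hc hp ε hεo hεn i ha', mul_one]
      _ = _ := by rw [← mul_assoc, h, one_mul]
  rcases isEmpty_or_nonempty (Rest t k i) with hJ | ⟨⟨b₀⟩⟩
  · rw [fcl, fcl, Fintype.prod_empty, Fintype.prod_empty, one_mul]
  have hpair : ∀ b, rc _ (Φ.vec_ne hc hp ε hεo hεn i ha b) *
      rc _ (Φ.vec_ne hc hp ε hεo hεn i ha' b) =
      rc _ (Φ.vec_ne hc hp ε hεo hεn i ha b₀) *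
      rc _ (Φ.vec_ne hc hp ε hεo hεn i ha' b₀) := fun b => by
    refine refl_pair_eq Q hQ _ _ _ _ (ρ := Φ.β a' a' / Φ.β a a) ?_ ?_ <;>
    · simp only [Φ.quad_val hc hp, betaT_vec]
      field_simp
  rw [fcl, fcl, ← Finset.prod_mul_distrib, Finset.prod_congr rfl fun b _ => hpair b,
    Finset.prod_const, Finset.card_univ]
  have hev : Even (Fintype.card (Rest t k i)) := by
    rw [Fintype.card_fun, Fintype.card_fin, Fintype.card_subtype_compl, Fintype.card_subtype_eq,
      Fintype.card_fin]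
    exact Nat.even_pow.2 ⟨hk, by omega⟩
  obtain ⟨n, hn⟩ := hev
  rw [hn, ← two_mul, pow_mul, pow_two, mul_mul_mul_comm, Φ.rc_sq hc hp, Φ.rc_sq hc hp, one_mul,
    one_pow]

/-- In even dimension and at least three factors the class of a reflection is trivial. -/
theorem fcl_three (hk : Even k) (ht : 3 ≤ t) {a : Vk} (ha : Φ.β a a ≠ 0) :
    Φ.fcl hc hp ε hεo hεn i ha = 1 := by
  classical
  have hQ := Φ.quad_nondeg' hc hp
  obtain ⟨l₀, hl₀⟩ : ∃ l : Fin t, l ≠ i := Fintype.exists_ne_of_one_lt_card (by simp; omega) i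
  let L : {l : Fin t // l ≠ i} := ⟨l₀, hl₀⟩
  let R := {l : {l : Fin t // l ≠ i} // l ≠ L} → Fin k
  let Ψ : Rest t k i ≃ Fin k × R := Equiv.funSplitAt L (Fin k)
  let r : Fin k → R → Abelianization (quadIso Q) := fun x y =>
    rc _ (Φ.vec_ne hc hp ε hεo hεn i ha (Ψ.symm (x, y)))
  have hval : ∀ x y, Q (fvec ε i a (Ψ.symm (x, y))) = c / 2 * (Φ.β a a *
      (Φ.β (ε x) (ε x) * ∏ l, Φ.β (ε (y l)) (ε (y l)))) := fun x y => by
    rw [Φ.quad_val hc hp, betaT_vec]
    congr 2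
    rw [← Finset.mul_prod_erase _ _ (Finset.mem_univ L)]
    congr 1
    · have e0 : Ψ.symm (x, y) L = x := by simp [Ψ, Equiv.funSplitAt, Equiv.piSplitAt]
      rw [e0]
    refine (Finset.prod_bij (fun l _ => l.1) (fun l _ => by simp [l.2])
      (fun _ _ _ _ h => Subtype.ext h) (fun l hl => ⟨⟨l, (Finset.mem_erase.1 hl).1⟩, by simp, rfl⟩)
      fun l _ => ?_).symm
    have e0 : Ψ.symm (x, y) l.1 = y l := by simp [Ψ, Equiv.funSplitAt, Equiv.piSplitAt, l.2]
    rw [e0]
  have hev : Even (Fintype.card R) := by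
    simp only [R, Fintype.card_fun, Fintype.card_fin, Fintype.card_subtype_compl,
      Fintype.card_subtype_eq]
    exact Nat.even_pow.2 ⟨hk, by omega⟩
  have hG : ∀ x x', (∏ y, r x y) = ∏ y, r x' y := by
    intro x x'
    have hsq : (∏ y, r x' y) * ∏ y, r x' y = 1 := by
      rw [← Finset.prod_mul_distrib]
      exact Finset.prod_eq_one fun y _ => Φ.rc_sq hc hp _ _
    suffices h : (∏ y, r x y) * ∏ y, r x' y = 1 by
      calc _ = (∏ y, r x y) * ((∏ y, r x' y) * ∏ y, r x' y) := by rw [hsq, mul_one]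
        _ = _ := by rw [← mul_assoc, h, one_mul]
    rcases isEmpty_or_nonempty R with hJ | ⟨⟨y₀⟩⟩
    · rw [Fintype.prod_empty, Fintype.prod_empty, one_mul]
    have hpair : ∀ y, r x y * r x' y = r x y₀ * r x' y₀ := fun y => by
      refine refl_pair_eq Q hQ _ _ _ _ (ρ := Φ.β (ε x') (ε x') / Φ.β (ε x) (ε x)) ?_ ?_ <;>
      · rw [hval, hval]
        have := hεn x
        field_simp
    rw [← Finset.prod_mul_distrib, Finset.prod_congr rfl fun y _ => hpair y, Finset.prod_const,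
      Finset.card_univ]
    obtain ⟨n, hn⟩ := hev
    rw [hn, ← two_mul, pow_mul, pow_two, mul_mul_mul_comm]
    simp only [r, Φ.rc_sq hc hp, one_mul, one_pow]
  have h0 : 0 < k := by
    rcases Nat.eq_zero_or_pos k with h | h
    · subst h
      exact absurd (Subsingleton.elim a 0) (Φ.sform.ne_zero ha)
    · exact h
  have e : Φ.fcl hc hp ε hεo hεn i ha = ∏ x, ∏ y, r x y := by
    rw [fcl, ← Fintype.prod_prod_type']
    exact Fintype.prod_equiv Ψ _ _ fun b => by simp only [r, Prod.mk.eta, Equiv.symm_apply_apply]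
  rw [e, Finset.prod_congr rfl fun x _ => hG x ⟨0, h0⟩, Finset.prod_const, Finset.card_univ,
    Fintype.card_fin]
  obtain ⟨n, hn⟩ := hk
  have h1 : (∏ y, r ⟨0, h0⟩ y) * ∏ y, r ⟨0, h0⟩ y = 1 := by
    rw [← Finset.prod_mul_distrib]
    exact Finset.prod_eq_one fun y _ => Φ.rc_sq hc hp _ _
  calc (∏ y, r ⟨0, h0⟩ y) ^ k = ((∏ y, r ⟨0, h0⟩ y) ^ 2) ^ n := by
        rw [← pow_mul]
        exact congrArg ((∏ y, r ⟨0, h0⟩ y) ^ ·) (by omega)
    _ = 1 := by rw [pow_two, h1, one_pow]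

end frame

section member

omit hc hp

theorem turn_unit {a : Vk} (i : Fin t) (ha : Φ.β a a ≠ 0) :
    ∃ g : Φ.isoGrp t, ((g : GT) : MT) = Φ.Tn i a :=
  ⟨⟨⟨Φ.Tn i a, Φ.Tn i a, Φ.Tn_mul_self i ha, Φ.Tn_mul_self i ha⟩,
    show Φ.adj (Φ.Tn i a : MT) * Φ.Tn i a = 1 by rw [adj_Tn, Φ.Tn_mul_self i ha]⟩, rfl⟩

/-- An isometry of an exponent two class with given values: a choice making a product trivial. -/
theorem exists_prod_mul {A : Type*} [CommGroup A] (h2 : ∀ x : A, x * x = 1) (hk : Odd k)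
    (f : Fin k → A) (χ : Fin k → Prop) (hf : ∀ a b, (χ a ↔ χ b) → f a = f b) :
    ∃ j, (∏ l, f l) * f j = 1 := by
  classical
  set S := Finset.univ.filter χ
  set U := Finset.univ.filter fun l => ¬ χ l
  have hcard : S.card + U.card = k := by
    rw [Finset.card_filter_add_card_filter_not, Finset.card_univ, Fintype.card_fin]
  have hsplit : (∏ l, f l) = (∏ l ∈ S, f l) * ∏ l ∈ U, f l :=
    (Finset.prod_filter_mul_prod_filter_not _ χ f).symm
  have hev : ∀ {T : Finset (Fin k)}, (∀ a ∈ T, ∀ b ∈ T, f a = f b) → Even T.card →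
      (∏ l ∈ T, f l) = 1 := by
    intro T hT hE
    rcases T.eq_empty_or_nonempty with rfl | ⟨j, hj⟩
    · simp
    rw [Finset.prod_congr rfl fun l hl => hT l hl j hj, Finset.prod_const]
    obtain ⟨n, hn⟩ := hE
    rw [hn, ← two_mul, pow_mul, pow_two, h2, one_pow]
  have hodd : ∀ {T : Finset (Fin k)}, (∀ a ∈ T, ∀ b ∈ T, f a = f b) → Odd T.card →
      ∃ j, (∏ l ∈ T, f l) = f j := by
    intro T hT hO
    obtain ⟨j, hj⟩ := Finset.card_pos.1 hO.pos
    refine ⟨j, ?_⟩
    rw [Finset.prod_congr rfl fun l hl => hT l hl j hj, Finset.prod_const]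
    obtain ⟨n, hn⟩ := hO
    rw [hn, pow_succ, pow_mul, pow_two, h2, one_pow, one_mul]
  have hS : ∀ a ∈ S, ∀ b ∈ S, f a = f b := fun a ha b hb =>
    hf a b (iff_of_true (Finset.mem_filter.1 ha).2 (Finset.mem_filter.1 hb).2)
  have hU : ∀ a ∈ U, ∀ b ∈ U, f a = f b := fun a ha b hb =>
    hf a b (iff_of_false (Finset.mem_filter.1 ha).2 (Finset.mem_filter.1 hb).2)
  rw [hsplit]
  rcases Nat.even_or_odd S.card with hE | hO
  · obtain ⟨j, hj⟩ := hodd hU (by
      rw [← hcard] at hk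
      exact (Nat.odd_add'.1 hk).2 hE)
    exact ⟨j, by rw [hev hS hE, hj, one_mul, h2]⟩
  · obtain ⟨j, hj⟩ := hodd hS hO
    refine ⟨j, ?_⟩
    rw [hj, hev hU (by
      rw [← hcard] at hk
      exact (Nat.odd_add.1 hk).1 hO), mul_one, h2]

include hc hp

omit hc hp in
/-- The isometries in the derived group. -/
def DG (Q : QuadraticForm F ((Fin t → Fin k) → F)) : Subgroup (GL (Fin t → Fin k) F) :=
  ((commutator (quadIso Q)).map (quadIso Q).subtype).comap toLE

theorem mem_DG_of_cl {g : Φ.isoGrp t} (h : Φ.cl hc hp g = 1) : (g : GT) ∈ DG Q := by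
  have h1 : Φ.toIso hc hp g ∈ commutator (quadIso Q) := by
    rw [← Abelianization.ker_of]
    exact h
  exact ⟨_, h1, rfl⟩

theorem mem_DG_of_odd (hN : k ^ t ≠ 4) {g : GT} (hg : Φ.Iso g) {n : ℕ} (hn : Odd n)
    (h : g ^ n = 1) : g ∈ DG Q := by
  let x : quadIso Q := Φ.toIso hc hp ⟨g, hg⟩
  refine ⟨x, mem_commutator_of_odd (Φ.quad_nondeg' hc hp) ?_ hn ?_, rfl⟩
  · rw [Module.finrank_fintype_fun_eq_card]
    simpa using hN
  · refine Subtype.ext ?_
    rw [SubgroupClass.coe_pow]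
    show toLE g ^ n = 1
    rw [← map_pow, h, map_one]

/-- The Eichler transformations of a factor are in the derived group. -/
theorem eu_mem_DG (hN : k ^ t ≠ 4) (i : Fin t) {e θ : Vk} (he : Φ.β e e = 0) (hθ : Φ.β θ e = 0) :
    ∃ g ∈ DG Q, (g : MT) = Φ.E i e θ := by
  have hneg : Φ.β (-θ) e = 0 := by rw [Φ.sform.neg_left, hθ, neg_zero]
  let g : GT := ⟨Φ.E i e θ, Φ.E i e (-θ), Φ.E_mul_neg i he hθ, by
    simpa using Φ.E_mul_neg i he hneg⟩
  have hpow : ∀ n : ℕ, ((g ^ n : GT) : MT) = Φ.E i e (n • θ) := by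
    intro n
    induction n with
    | zero => simp [E_zero]
    | succ n ih =>
      have hn : Φ.β (n • θ) e = 0 := by
        rw [← Nat.cast_smul_eq_nsmul F, Φ.sform.smul_left, hθ, mul_zero]
      rw [pow_succ, Units.val_mul, ih, succ_nsmul]
      exact Φ.E_mul i he hn hθ
  obtain ⟨p, hp'⟩ := CharP.exists F
  have : Fact p.Prime := ⟨CharP.char_is_prime F p⟩
  have hp2 : p ≠ 2 := fun e0 => Φ.two (by subst e0; exact_mod_cast CharP.cast_eq_zero F 2)
  refine ⟨g, Φ.mem_DG_of_odd hc hp hN ?_ ((Fact.out : p.Prime).odd_of_ne_two hp2) (Units.ext ?_),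
    rfl⟩
  · show Φ.adj (Φ.E i e θ : MT) * Φ.E i e θ = 1
    rw [adj_E, Φ.E_mul i he hneg hθ, neg_add_cancel, E_zero]
  · rw [hpow, ← Nat.cast_smul_eq_nsmul F, CharP.cast_eq_zero, zero_smul, E_zero, Units.val_one]

/-- The even permutations of the factors are in the derived group. -/
theorem perm_mem_DG (hN : k ^ t ≠ 4) (σ : Equiv.Perm (Fin t)) (hσ : Equiv.Perm.sign σ = 1) :
    permGL k F σ ∈ DG Q := by
  have h : σ ∈ alternatingGroup (Fin t) := hσ
  rw [← Equiv.Perm.closure_three_cycles_eq_alternating] at h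
  clear hσ
  induction h using Subgroup.closure_induction with
  | mem σ h3 =>
    refine Φ.mem_DG_of_odd hc hp hN (show Φ.adj (permMat k F σ : MT) * permMat k F σ = 1 by
      rw [adj_permMat, permMat_mul, inv_mul_cancel, permMat_one]) (by decide : Odd 3) ?_
    have e : σ ^ 3 = 1 := by
      have h1 := pow_orderOf_eq_one σ
      rwa [Equiv.Perm.IsThreeCycle.orderOf h3] at h1
    rw [pow_three] at e ⊢
    rw [permGL_mul, permGL_mul, e, permGL_one]
  | one => rw [permGL_one]; exact one_mem _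
  | mul a b _ _ ha hb => rw [← permGL_mul]; exact mul_mem ha hb
  | inv a _ ha => rw [← permGL_inv]; exact inv_mem ha

/-- In even dimension products of two half turns of a factor are in the derived group. -/
theorem pair_mem_DG (hk : Even k) (ht : 2 ≤ t) (i : Fin t) {a b : Vk} (ha : Φ.β a a ≠ 0)
    (hb : Φ.β b b ≠ 0) : ∃ g ∈ DG Q, (g : MT) = Φ.Tn i a * Φ.Tn i b := by
  obtain ⟨ε, hεo, hεn⟩ := Φ.exists_orth_basis
  obtain ⟨u, hu⟩ := Φ.turn_unit i ha
  obtain ⟨v, hv⟩ := Φ.turn_unit i hb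
  obtain ⟨z, hz⟩ : ∃ z : Φ.isoGrp t, ((z : GT) : MT) = -1 :=
    ⟨⟨-1, show Φ.adj ((-1 : GT) : MT) * ((-1 : GT) : MT) = 1 by simp [adj_neg, adj_one]⟩,
      by simp⟩
  refine ⟨(u * v : Φ.isoGrp t), Φ.mem_DG_of_cl hc hp ?_, by simp [hu, hv]⟩
  have hcl : ∀ {a : Vk} (ha : Φ.β a a ≠ 0) (u : Φ.isoGrp t), ((u : GT) : MT) = Φ.Tn i a →
      Φ.cl hc hp u = Φ.cl hc hp z * Φ.fcl hc hp ε hεo hεn i ha := fun {a} ha u hu => by
    have h1 : u = z * (z * u) := by
      rw [← mul_assoc]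
      refine Subtype.ext (Units.ext ?_)
      simp [hz]
    rw [h1, map_mul, Φ.cl_neg_turn hc hp ε hεo hεn i ha (z * u) (by simp [hz, hu])]
  rw [map_mul, hcl ha u hu, hcl hb v hv, Φ.fcl_even hc hp ε hεo hεn i hk ht hb ha,
    mul_mul_mul_comm, Φ.fcl_sq hc hp ε hεo hεn i ha, mul_one, ← map_mul,
    show z * z = 1 from Subtype.ext (Units.ext (by simp [hz])), map_one]

/-- The class of values whose half turns are in the derived group. -/
theorem exists_turn_class (ht : 2 ≤ t) (hk : Odd k ∨ 3 ≤ t) :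
    ∃ c₀ : F, c₀ ≠ 0 ∧ ∀ i a, Φ.Cls c₀ a → ∃ g ∈ DG Q, (g : MT) = Φ.Tn i a := by
  classical
  obtain ⟨ε, hεo, hεn⟩ := Φ.exists_orth_basis
  obtain ⟨z, hz⟩ : ∃ z : Φ.isoGrp t, ((z : GT) : MT) = -1 :=
    ⟨⟨-1, show Φ.adj ((-1 : GT) : MT) * ((-1 : GT) : MT) = 1 by simp [adj_neg, adj_one]⟩,
      by simp⟩
  have hred : ∀ i (a : Vk) (ha : Φ.β a a ≠ 0),
      (∏ j, Φ.fcl hc hp ε hεo hεn i (hεn j)) * Φ.fcl hc hp ε hεo hεn i ha = 1 →
      ∃ g ∈ DG Q, (g : MT) = Φ.Tn i a := fun i a ha h => by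
    obtain ⟨u, hu⟩ := Φ.turn_unit i ha
    refine ⟨(u : GT), Φ.mem_DG_of_cl hc hp ?_, hu⟩
    have h1 : u = z * (z * u) := by
      rw [← mul_assoc]
      refine Subtype.ext (Units.ext ?_)
      simp [hz]
    rw [h1, map_mul, Φ.cl_neg_turn hc hp ε hεo hεn i ha (z * u) (by simp [hz, hu]),
      Φ.cl_neg_one hc hp ε hεo hεn i z hz, h]
  rcases Nat.even_or_odd k with hev | hodd
  · have ht3 : 3 ≤ t := hk.resolve_left (Nat.not_odd_iff_even.2 hev)
    refine ⟨1, one_ne_zero, fun i a ha => hred i a ha.1 ?_⟩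
    rw [Finset.prod_eq_one fun j _ => Φ.fcl_three hc hp ε hεo hεn i hev ht3 (hεn j), one_mul,
      Φ.fcl_three hc hp ε hεo hεn i hev ht3 ha.1]
  · -- the class is the same in every factor
    have : Nonempty (Fin t) := ⟨⟨0, by omega⟩⟩
    let i₀ : Fin t := Classical.arbitrary _
    obtain ⟨j₀, hj₀⟩ : ∃ j₀ : Fin k, ∀ i : Fin t,
        (∏ j, Φ.fcl hc hp ε hεo hεn i (hεn j)) * Φ.fcl hc hp ε hεo hεn i (hεn j₀) = 1 := by
      let χ : Fin k → Prop := fun j => IsSquare (Φ.β (ε j) (ε j))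
      have hsame : ∀ j l, (χ j ↔ χ l) → IsSquare (Φ.β (ε l) (ε l) / Φ.β (ε j) (ε j)) := by
        intro j l h
        by_cases hj : χ j
        · exact IsSquare.div (h.1 hj) hj
        · have := CfsgLib.MaxSub.TensorOO.isSquare_mul_nonsquares (fun e => hj (h.2 e)) hj
          rw [show Φ.β (ε l) (ε l) / Φ.β (ε j) (ε j) =
            Φ.β (ε l) (ε l) * Φ.β (ε j) (ε j) / (Φ.β (ε j) (ε j) * Φ.β (ε j) (ε j)) by
              have := hεn j
              field_simp]
          exact this.div ⟨_, rfl⟩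
      have h2 : ∀ x : Abelianization (quadIso Q), x * x = 1 := fun x => by
        obtain ⟨g, rfl⟩ := QuotientGroup.mk_surjective x
        refine CfsgLib.SpinorNorm.closure_induction_refl Q
          (CfsgLib.SpinorNorm.closure_refl Q (Φ.quad_nondeg' hc hp)
            (Or.inl ⟨-1, neg_ne_zero.2 one_ne_zero, fun h => Φ.two (by linear_combination -h)⟩))
          (fun g => (QuotientGroup.mk g : Abelianization (quadIso Q)) * QuotientGroup.mk g = 1)
          (one_mul 1) (fun v hv g hg => ?_) g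
        show Abelianization.of (refl Q hv * g) * Abelianization.of (refl Q hv * g) = 1
        rw [map_mul, mul_mul_mul_comm, ← map_mul, refl_mul_self, map_one, one_mul]
        exact hg
      obtain ⟨j₀, hj₀⟩ := exists_prod_mul (A := Fin t → Abelianization (quadIso Q))
        (fun x => funext fun i => h2 (x i)) hodd
        (fun j i => Φ.fcl hc hp ε hεo hεn i (hεn j)) χ
        (fun j l h => funext fun i => Φ.fcl_congr hc hp ε hεo hεn i (hεn j) (hεn l) (hsame j l h))
      refine ⟨j₀, fun i => ?_⟩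
      have := congrFun hj₀ i
      simpa using this
    refine ⟨Φ.β (ε j₀) (ε j₀), hεn j₀, fun i a ha => hred i a ha.1 ?_⟩
    rw [← Φ.fcl_congr hc hp ε hεo hεn i (hεn j₀) ha.1, hj₀ i]
    rcases ha.2 with h | ⟨s, hs⟩
    · exact absurd h (Nat.not_even_iff_odd.2 hodd)
    refine ⟨s / Φ.β (ε j₀) (ε j₀), ?_⟩
    have := hεn j₀
    field_simp
    linear_combination hs

end member

end OForm

end CfsgLib.MaxSub.TensorPowOrth
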