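import Cfsg.Agent.Lib.MaxSub.TensorPowOrth.Refl
import Cfsg.Agent.Lib.MaxSub.TensorPowOrth.Ext
import Cfsg.Agent.Lib.MaxSub.TensorPowOrth.Omega
import Cfsg.Agent.Lib.MaxSub.TensorPowOrth.ZsMain
import Cfsg.Agent.Lib.MaxSub.SubspaceMaximalOrth
import Cfsg.Agent.Lib.OmegaCenter

/-!
Spreading: Eichler transformations of pure tensors differing in one factor give all Eichler
transformations of the tensor power; so do those of the other factors, and those of a normal subgroup.
-/

set_option autoImplicit false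
set_option maxHeartbeats 800000
set_option linter.unusedSectionVars false

namespace CfsgLib.MaxSub.TensorPowOrth

open Matrix Module
open CfsgLib.Aschbacher CfsgLib.MaxSub.TensorPow
open CfsgLib.WittExtension (quadIso)
open CfsgLib.Eichler (IsEich exists_eich eich_unique Sieg)
open CfsgLib.MaxSub.Orth (InA Full inA_zero le_of_full_pair)
open CfsgLib.MaxSub.TensorOO (exists_pair split_pair pairPerp mem_pairPerp exists_aniso_pairPerp
  singular_span)
open QuadraticMap (polar)
open scoped commutatorElement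

variable {F : Type*} [Field F] {k t n : ℕ}

local notation "Vk" => Fin k → F
local notation "Mm" => Matrix (Fin k) (Fin k) F
local notation "VT" => (Fin t → Fin k) → F
local notation "MT" => Matrix (Fin t → Fin k) (Fin t → Fin k) F
local notation "MN" => Matrix (Fin (n + 1) → Fin k) (Fin (n + 1) → Fin k) F

/-- An invertible matrix of a linear automorphism of the tensor power. -/
noncomputable def ofLE : (((Fin t → Fin k) → F) ≃ₗ[F] ((Fin t → Fin k) → F)) →*
    GL (Fin t → Fin k) F :=
  ((Matrix.GeneralLinearGroup.toLin).trans (LinearMap.GeneralLinearGroup.generalLinearEquiv F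
    ((Fin t → Fin k) → F))).symm.toMonoidHom

theorem toLE_ofLE (f : ((Fin t → Fin k) → F) ≃ₗ[F] ((Fin t → Fin k) → F)) : toLE (ofLE f) = f :=
  MulEquiv.apply_symm_apply _ f

theorem ofLE_mulVec (f : ((Fin t → Fin k) → F) ≃ₗ[F] ((Fin t → Fin k) → F)) (x : VT) :
    ((ofLE f : GL (Fin t → Fin k) F) : MT) *ᵥ x = f x := by
  rw [← toLE_apply, toLE_ofLE]

theorem pureMat_zero_at {A : Fin t → Mm} (j : Fin t) (h : A j = 0) : (pureMat A : MT) = 0 := by
  ext x y
  rw [pureMat_apply, Matrix.zero_apply]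
  exact Finset.prod_eq_zero (Finset.mem_univ j) (by rw [h, Matrix.zero_apply])

theorem pv_update_add (f : Fin t → Vk) (l : Fin t) (v w : Vk) :
    pv (Function.update f l (v + w)) = pv (Function.update f l v) + pv (Function.update f l w) := by
  funext z
  have e : ∀ u : Vk, pv (Function.update f l u) z =
      u (z l) * ∏ x ∈ Finset.univ.erase l, f x (z x) := fun u => by
    rw [pv, ← Finset.mul_prod_erase _ _ (Finset.mem_univ l), Function.update_self]
    congr 1
    exact Finset.prod_congr rfl fun x hx => by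
      rw [Function.update_of_ne (Finset.ne_of_mem_erase hx)]
  rw [Pi.add_apply, e, e, e, Pi.add_apply, add_mul]

/-- Multilinearity of pure tensors: vectors from spanning sets suffice. -/
theorem pv_mem_of_span (P : Submodule F VT) (S : Fin t → Set Vk) (b : Fin t → Vk)
    (hb : ∀ j, b j ∈ Submodule.span F (S j))
    (h : ∀ b' : Fin t → Vk, (∀ j, b' j ∈ S j) → pv b' ∈ P) : pv b ∈ P := by
  classical
  have key : ∀ (D : Finset (Fin t)) (b : Fin t → Vk), (∀ j ∉ D, b j ∈ S j) →
      (∀ j ∈ D, b j ∈ Submodule.span F (S j)) → pv b ∈ P := by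
    intro D
    induction D using Finset.induction_on with
    | empty => exact fun b hb _ => h b fun j => hb j (by simp)
    | insert l D hl ih =>
      intro b hb hb'
      let L : Vk →ₗ[F] VT :=
        { toFun := fun v => pv (Function.update b l v)
          map_add' := pv_update_add b l
          map_smul' := pv_update_smul b l }
      have h1 : Submodule.span F (S l) ≤ P.comap L := Submodule.span_le.2 fun v hv => by
        refine ih (Function.update b l v) (fun j hj => ?_) fun j hj => ?_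
        · rcases eq_or_ne j l with rfl | hjl
          · rwa [Function.update_self]
          · rw [Function.update_of_ne hjl]
            exact hb j (by simp [hjl, hj])
        · rw [Function.update_of_ne (show j ≠ l from fun e => hl (by rwa [e] at hj))]
          exact hb' j (Finset.mem_insert_of_mem hj)
      have h2 := h1 (hb' l (Finset.mem_insert_self l D))
      simpa [L] using h2
  exact key Finset.univ b (fun j hj => absurd (Finset.mem_univ j) hj) fun j _ => hb j

/-- Pure tensors span. -/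
theorem eq_top_of_pv (P : Submodule F VT) (h : ∀ b : Fin t → Vk, pv b ∈ P) : P = ⊤ := by
  classical
  refine eq_top_iff.2 fun w _ => ?_
  rw [pi_eq_sum_univ' w]
  refine Submodule.sum_mem _ fun x _ => P.smul_mem _ ?_
  convert h fun j => Pi.single (x j) (1 : F) using 1
  funext y
  show (Pi.single x (1 : F) : VT) y = ∏ j, (Pi.single (x j) (1 : F) : Vk) (y j)
  rcases eq_or_ne x y with rfl | hxy
  · simp
  · rw [Pi.single_eq_of_ne hxy.symm]
    obtain ⟨j, hj⟩ := Function.ne_iff.1 hxy
    exact (Finset.prod_eq_zero (Finset.mem_univ j) (by rw [Pi.single_eq_of_ne (Ne.symm hj)])).symm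

namespace OForm

variable (Φ : OForm F k)

theorem RT_pv (a b : Fin t → Vk) : Φ.RT (pv a) (pv b) = pureMat fun j => Φ.rk (a j) (b j) := by
  ext x y
  rw [RT, ST, pureMat_pv, pureMat_apply, Matrix.vecMulVec_apply]
  simp [pv, rk, Matrix.vecMulVec_apply, Finset.prod_mul_distrib]

theorem EV_pv {a b : Fin t → Vk} (h : ∃ j, Φ.β (b j) (b j) = 0) :
    Φ.EV (pv a) (pv b) =
      1 + (pureMat (fun j => Φ.rk (b j) (a j)) - pureMat fun j => Φ.rk (a j) (b j)) := by
  obtain ⟨j, hj⟩ := h
  rw [EV, βT_pv, Finset.prod_eq_zero (Finset.mem_univ j) hj, zero_div, zero_smul, sub_zero, RT_pv,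
    RT_pv]

/-- The quadratic form of the tensor power. -/
noncomputable def qT (t : ℕ) : QuadraticForm F ((Fin t → Fin k) → F) :=
  LinearMap.BilinMap.toQuadraticMap (LinearMap.mk₂ F (fun x y => (2 : F)⁻¹ * Φ.βT x y)
    (fun x x' y => by rw [βT_add_left, mul_add])
    (fun c x y => by rw [βT_smul_left, smul_eq_mul]; ring)
    (fun x y y' => by rw [βT_add_right, mul_add])
    (fun c x y => by rw [βT_smul_right, smul_eq_mul]; ring))

theorem qT_polar (x y : VT) : polar (Φ.qT t) x y = 1 * Φ.βT x y := by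
  rw [qT, LinearMap.BilinMap.polar_toQuadraticMap, LinearMap.mk₂_apply, LinearMap.mk₂_apply,
    Φ.βT_symm x y, one_mul]
  have := Φ.two
  field_simp
  ring

variable [Finite F]

theorem qT_val (x : VT) : Φ.qT t x = 1 / 2 * Φ.βT x x :=
  Φ.quad_val one_ne_zero Φ.qT_polar x

theorem qT_nondeg : (QuadraticMap.polarBilin (Φ.qT t)).Nondegenerate :=
  Φ.quad_nondeg' one_ne_zero Φ.qT_polar

theorem qT_dim (hk : 3 ≤ k) (ht : 2 ≤ t) : 5 ≤ finrank F VT := by
  rw [Module.finrank_fintype_fun_eq_card]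
  simp only [Fintype.card_fun, Fintype.card_fin]
  calc 5 ≤ 3 ^ 2 := by norm_num
    _ ≤ k ^ 2 := Nat.pow_le_pow_left hk 2
    _ ≤ k ^ t := Nat.pow_le_pow_right (by omega) ht

/-- An isometry of the quadratic form as a matrix. -/
noncomputable def mq : quadIso (Φ.qT t) →* GL (Fin t → Fin k) F :=
  ofLE.comp (quadIso (Φ.qT t)).subtype

theorem mq_mulVec (x : quadIso (Φ.qT t)) (v : VT) :
    ((Φ.mq x : GL (Fin t → Fin k) F) : MT) *ᵥ v = x.1 v := ofLE_mulVec _ v

theorem eich_val {u v : VT} {x : quadIso (Φ.qT t)} (hx : IsEich (Φ.qT t) u v x) :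
    ((Φ.mq x : GL (Fin t → Fin k) F) : MT) = Φ.EV u v := by
  refine Matrix.toLin'.injective (LinearMap.ext fun z => ?_)
  rw [Matrix.toLin'_apply, Matrix.toLin'_apply, mq_mulVec, hx, qT_polar, qT_polar, qT_val, EV,
    Matrix.add_mulVec, Matrix.sub_mulVec, Matrix.sub_mulVec, Matrix.smul_mulVec, RT_mulVec,
    RT_mulVec, RT_mulVec, Matrix.one_mulVec]
  module

/-- The isometries of the quadratic form in a group. -/
noncomputable def kq (G : Subgroup (GL (Fin t → Fin k) F)) : Subgroup (quadIso (Φ.qT t)) :=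
  G.comap Φ.mq

variable {Φ} {G : Subgroup (GL (Fin t → Fin k) F)}

/-- The Eichler transformations generate. -/
theorem sieg_le_iff (hk : 3 ≤ k) (ht : 2 ≤ t) :
    Subgroup.closure (Sieg (Φ.qT t)) ≤ Φ.kq G ↔ Φ.Big G := by
  constructor
  · intro h u v hu hv
    have hQu : Φ.qT t u = 0 := by rw [qT_val, hu, mul_zero]
    have hp : polar (Φ.qT t) u v = 0 := by rw [qT_polar, Φ.βT_symm v u, hv, mul_zero]
    obtain ⟨x, hx⟩ := exists_eich (Φ.qT t) hQu hp
    refine ⟨Φ.mq x, ?_, Φ.eich_val hx⟩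
    rcases eq_or_ne u 0 with rfl | hu0
    · have : x = 1 := Subtype.ext (LinearEquiv.ext fun z => by
        rw [hx z]; simp [QuadraticMap.polar_zero_left])
      rw [this, map_one]
      exact one_mem G
    exact h (OmegaSimple.eich_mem _ Φ.qT_nondeg (qT_dim hk ht) hu0 hQu hp hx)
  · intro h
    rw [Subgroup.closure_le]
    rintro x ⟨u, v, c, hu, hv, huv, hx⟩
    rw [CfsgLib.Eichler.sieg_eich _ hv] at hx
    rw [qT_val] at hu
    obtain ⟨g, hg, hgv⟩ := h u (c • v)
      ((mul_eq_zero.1 hu).resolve_left (div_ne_zero one_ne_zero Φ.two)) (by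
      rw [qT_polar, one_mul] at huv
      rw [βT_smul_left, Φ.βT_symm u v, huv, mul_zero])
    show Φ.mq x ∈ G
    rwa [show Φ.mq x = g from Units.ext (by rw [Φ.eich_val hx, hgv])]

/-- Eichler transformations of pure tensors differing in one factor give all. -/
theorem big_of_basic (hk : 3 ≤ k) (ht : 2 ≤ t)
    (hb : ∀ (g : Fin t → Vk) (l : Fin t) (c : Vk), (∀ j, g j ≠ 0) → (∀ j, Φ.β (g j) (g j) = 0) →
      Φ.β c (g l) = 0 → ∃ x ∈ G, (x : MT) = Φ.EV (pv g) (pv (Function.update g l c))) :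
    Φ.Big G := by
  classical
  rw [← sieg_le_iff hk ht]
  haveI : Fintype F := Fintype.ofFinite F
  set Q := Φ.qT t
  set K := Φ.kq G
  obtain ⟨η, hη0, hη⟩ := Φ.sform.exists_iso (by rw [Module.finrank_fin_fun]; exact hk)
  obtain ⟨ζ, hζ, hηζ⟩ := exists_pair Φ.sform hη0 hη
  have hother : ∀ l : Fin t, ∃ m, m ≠ l := fun l =>
    Fintype.exists_ne_of_one_lt_card (by simp; omega) l
  -- the basic transformations
  have hbasic : ∀ (g : Fin t → Vk) (l : Fin t) (c : Vk), (∀ j, g j ≠ 0) →
      (∀ j, Φ.β (g j) (g j) = 0) → Φ.β c (g l) = 0 →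
      InA K (pv g) (pv (Function.update g l c)) := by
    intro g l c h0 h1 h2 x hx
    obtain ⟨y, hy, hyv⟩ := hb g l c h0 h1 h2
    show Φ.mq x ∈ G
    rwa [show Φ.mq x = y from Units.ext (by rw [Φ.eich_val hx, hyv])]
  have full : ∀ η ζ : Vk, Φ.β η η = 0 → Φ.β ζ ζ = 0 → Φ.β η ζ = 1 →
      Full K (pv fun _ : Fin t => η) := by
    intro η ζ hη hζ hηζ
    have hζη : Φ.β ζ η = 1 := by rw [Φ.beta_symm η ζ, hηζ]
    have hη0 : η ≠ 0 := fun h => by rw [h, Φ.sform.zero_left] at hηζ; exact zero_ne_one hηζ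
    set u : VT := pv fun _ => η with hu_def
    obtain ⟨l₁⟩ : Nonempty (Fin t) := ⟨⟨0, by omega⟩⟩
    have huu : Q u = 0 := by
      rw [qT_val, βT_pv, Finset.prod_eq_zero (Finset.mem_univ l₁) hη, mul_zero]
    let P : Submodule F VT :=
      { carrier := {w | Φ.βT u w = 0 ∧ ∀ s : F, InA K u (s • w)}
        zero_mem' := ⟨by simp [βT], fun s => by rw [smul_zero]; exact inA_zero _⟩
        add_mem' := fun {a b} ha hb => ⟨by rw [βT_add_right, ha.1, hb.1, add_zero], fun s => by
          rw [smul_add]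
          exact InA.add huu (by rw [qT_polar, βT_smul_right, ha.1, mul_zero, mul_zero])
            (by rw [qT_polar, βT_smul_right, hb.1, mul_zero, mul_zero]) (ha.2 s) (hb.2 s)⟩
        smul_mem' := fun c a ha => ⟨by rw [βT_smul_right, ha.1, mul_zero], fun s => by
          rw [smul_smul]; exact ha.2 _⟩ }
    -- one changed factor
    have hone : ∀ (l : Fin t) (c : Vk), Φ.β c η = 0 →
        pv (Function.update (fun _ => η) l c) ∈ P := by
      intro l c hc
      obtain ⟨m, hm⟩ := hother l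
      refine ⟨?_, fun s => ?_⟩
      · rw [βT_pv, Finset.prod_eq_zero (Finset.mem_univ m)]
        rw [Function.update_of_ne hm, hη]
      · rw [← pv_update_smul]
        exact hbasic _ l _ (fun _ => hη0) (fun _ => hη)
          (by rw [Φ.sform.smul_left, hc, mul_zero])
    -- a transformation fixing the centre moves members to members
    have hmove : ∀ (l : Fin t) (g : Fin t → Vk) (κ : Vk), g l = η → (∀ j, g j ≠ 0) →
        (∀ j, Φ.β (g j) (g j) = 0) → Φ.β κ η = 0 → ∀ d : Vk,
        pv (Function.update (fun _ => η) l d) ∈ P →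
        (∏ j ∈ Finset.univ.erase l, Φ.β (g j) η) •
          (Φ.β η d • pv (Function.update g l κ) - Φ.β κ d • pv g) ∈ P := by
      intro l g κ hgl hg0 hgs hκ d hd
      obtain ⟨m, hm⟩ := hother l
      have hgu : Φ.βT (pv g) (pv g) = 0 := by
        rw [βT_pv, Finset.prod_eq_zero (Finset.mem_univ l) (hgs l)]
      have hgv : Φ.βT (pv (Function.update g l κ)) (pv (Function.update g l κ)) = 0 := by
        rw [βT_pv, Finset.prod_eq_zero (Finset.mem_univ m)]
        rw [Function.update_of_ne hm, hgs]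
      obtain ⟨x, hx⟩ := exists_eich Q (e := pv g) (w := pv (Function.update g l κ))
        (by rw [qT_val, hgu, mul_zero]) (by
          rw [qT_polar, βT_pv, Finset.prod_eq_zero (Finset.mem_univ l), mul_zero]
          rw [Function.update_self, hgl, Φ.sform.symm0 hκ])
      have hxK : x ∈ K := hbasic g l κ hg0 hgs (by rw [hgl, hκ]) x hx
      have hval : ∀ z, x.1 z = z + (Φ.βT (pv g) z • pv (Function.update g l κ) -
          Φ.βT (pv (Function.update g l κ)) z • pv g) := fun z => by
        rw [hx z, qT_polar, qT_polar, qT_val, hgv]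
        module
      have hfix : x.1 u = u := by
        rw [hval, hu_def, βT_pv, βT_pv, Finset.prod_eq_zero (Finset.mem_univ l),
          Finset.prod_eq_zero (Finset.mem_univ l), zero_smul, zero_smul, sub_zero, add_zero]
        · rw [Function.update_self, hκ]
        · rw [hgl, hη]
      set w := pv (Function.update (fun _ => η) l d)
      have hmem : x.1 w ∈ P := ⟨by
          have h := OrthOrder.polar_map x.2 u w
          rw [hfix, qT_polar, qT_polar, one_mul, one_mul] at h
          rw [h, hd.1], fun s => by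
          have h := (hd.2 s).conj hxK
          rwa [hfix, map_smul] at h⟩
      have h := P.sub_mem hmem hd
      rw [hval, add_sub_cancel_left] at h
      have e : ∀ c : Vk, Φ.βT (pv (Function.update g l c)) w =
          Φ.β c d * ∏ j ∈ Finset.univ.erase l, Φ.β (g j) η := fun c => by
        rw [βT_pv, ← Finset.mul_prod_erase _ _ (Finset.mem_univ l), Function.update_self,
          Function.update_self]
        congr 1
        exact Finset.prod_congr rfl fun j hj => by
          rw [Function.update_of_ne (Finset.ne_of_mem_erase hj),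
            Function.update_of_ne (Finset.ne_of_mem_erase hj)]
      have eg : Φ.βT (pv g) w = Φ.β η d * ∏ j ∈ Finset.univ.erase l, Φ.β (g j) η := by
        conv_lhs => rw [← Function.update_eq_self l g, hgl]
        exact e η
      rw [e, eg] at h
      convert h using 1
      module
    -- singular vectors pairing with the centre span
    set S : Set Vk := {y | y ≠ 0 ∧ Φ.β y y = 0 ∧ Φ.β y η ≠ 0}
    have hζ0 : ζ ≠ 0 := fun h => by rw [h, Φ.sform.zero_right] at hηζ; exact zero_ne_one hηζ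
    have hSspan : Submodule.span F S = ⊤ := by
      have hζS : ζ ∈ Submodule.span F S :=
        Submodule.subset_span ⟨hζ0, hζ, by rw [hζη]; exact one_ne_zero⟩
      obtain ⟨a, ha, haa⟩ := exists_aniso_pairPerp Φ.sform
        (by rw [Module.finrank_fin_fun]; exact hk) hη hζ hηζ
      have hq : ∀ r ∈ pairPerp Φ.sform η ζ,
          r - (Φ.β r r / 2) • η ∈ Submodule.span F S := fun r hr => by
        obtain ⟨h1, h2⟩ := (mem_pairPerp Φ.sform).1 hr
        have hv : Φ.β (ζ + r - (Φ.β r r / 2) • η) η = 1 := by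
          rw [Φ.sform.sub_left, Φ.sform.add_left, Φ.sform.smul_left, hζη, h1, hη, mul_zero,
            add_zero, sub_zero]
        have hs : Φ.β (ζ + r - (Φ.β r r / 2) • η) (ζ + r - (Φ.β r r / 2) • η) = 0 := by
          simp only [Φ.sform.add_left, Φ.sform.add_right, Φ.sform.sub_left, Φ.sform.sub_right,
            Φ.sform.smul_left, Φ.sform.smul_right, hη, hζ, hηζ, hζη, h1, h2, Φ.sform.symm0 h1,
            Φ.sform.symm0 h2]
          have := Φ.two
          field_simp
          ring
        have hne : ζ + r - (Φ.β r r / 2) • η ≠ 0 := fun e => by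
          rw [e, Φ.sform.zero_left] at hv
          exact zero_ne_one hv
        have := sub_mem (Submodule.subset_span
          (show ζ + r - (Φ.β r r / 2) • η ∈ S from ⟨hne, hs, by rw [hv]; exact one_ne_zero⟩)) hζS
        convert this using 1
        abel
      have hηS : η ∈ Submodule.span F S := by
        have h1 := add_mem (hq a ha) (hq (-a) (neg_mem ha))
        rw [Φ.sform.neg_left, Φ.sform.neg_right, neg_neg] at h1
        have h3 := Submodule.smul_mem _ (-(Φ.β a a)⁻¹) h1
        convert h3 using 1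
        have := Φ.two
        match_scalars <;> field_simp <;> ring
      refine eq_top_iff.2 fun y _ => ?_
      obtain ⟨p, q, r, hr, rfl⟩ := split_pair Φ.sform hη hζ hηζ y
      refine add_mem (add_mem (Submodule.smul_mem _ _ hηS) (Submodule.smul_mem _ _ hζS)) ?_
      have := add_mem (hq r hr) (Submodule.smul_mem _ (Φ.β r r / 2) hηS)
      rwa [sub_add_cancel] at this
    have hprod : ∀ (l : Fin t) (g : Fin t → Vk), (∀ j, j ≠ l → g j ∈ S) →
        (∏ j ∈ Finset.univ.erase l, Φ.β (g j) η) ≠ 0 := fun l g hg =>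
      Finset.prod_ne_zero_iff.2 fun j hj => (hg j (Finset.ne_of_mem_erase hj)).2.2
    -- the centre at one place
    have stepA : ∀ (l : Fin t) (b : Fin t → Vk), b l = η → pv b ∈ P := by
      intro l b hbl
      obtain ⟨a, ha, haa⟩ := exists_aniso_pairPerp Φ.sform
        (by rw [Module.finrank_fin_fun]; exact hk) hη hζ hηζ
      obtain ⟨ha1, -⟩ := (mem_pairPerp Φ.sform).1 ha
      have key : ∀ g : Fin t → Vk, g l = η → (∀ j, j ≠ l → g j ∈ S) → pv g ∈ P := by
        intro g hgl hg
        have h := hmove l g a hgl (fun j => if e : j = l then by rw [e, hgl]; exact hη0 else (hg j e).1)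
          (fun j => if e : j = l then by rw [e, hgl]; exact hη else (hg j e).2.1) ha1 a
          (hone l a ha1)
        rw [Φ.sform.symm0 ha1, zero_smul, zero_sub, smul_neg, neg_mem_iff, smul_smul] at h
        exact (P.smul_mem_iff (mul_ne_zero (hprod l g hg) haa)).1 h
      refine pv_mem_of_span P (Function.update (fun _ => S) l {η}) b (fun j => ?_) fun b' hb' =>
        key b' (by simpa using hb' l) fun j hj => by simpa [hj] using hb' j
      rcases eq_or_ne j l with rfl | hjl
      · rw [Function.update_self]; exact Submodule.subset_span hbl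
      · rw [Function.update_of_ne hjl, hSspan]; exact Submodule.mem_top
    -- a perpendicular vector at one place
    have stepB : ∀ (l : Fin t) (g : Fin t → Vk), Φ.β (g l) η = 0 →
        (∀ j, j ≠ l → g j ∈ S) → pv g ∈ P := by
      intro l g hgl hg
      obtain ⟨m, hm⟩ := hother l
      set g₁ := Function.update g l η with hg₁
      have hg1l : g₁ l = η := Function.update_self _ _ _
      have hg1 : ∀ j, j ≠ l → g₁ j ∈ S := fun j hj => by
        rw [hg₁, Function.update_of_ne hj]; exact hg j hj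
      have h := hmove l g₁ (g l) hg1l
        (fun j => if e : j = l then by rw [e, hg1l]; exact hη0 else (hg1 j e).1)
        (fun j => if e : j = l then by rw [e, hg1l]; exact hη else (hg1 j e).2.1) hgl ζ
        (stepA m _ (by rw [Function.update_of_ne hm]))
      rw [hηζ, one_smul, smul_sub] at h
      have h2 := add_mem h (P.smul_mem (∏ j ∈ Finset.univ.erase l, Φ.β (g₁ j) η)
        (P.smul_mem (Φ.β (g l) ζ) (stepA l g₁ hg1l)))
      rw [sub_add_cancel, hg₁, Function.update_idem, Function.update_eq_self] at h2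
      exact (P.smul_mem_iff (hprod l g₁ hg1)).1 h2
    -- everything
    set W := P ⊔ F ∙ (pv fun _ : Fin t => ζ)
    have hWall : W = ⊤ := by
      refine eq_top_of_pv _ fun c => pv_mem_of_span W (fun _ => {y | Φ.β y η = 0} ∪ {ζ}) c
        (fun j => ?_) ?_
      · obtain ⟨p, q, r, hr, e⟩ := split_pair Φ.sform hη hζ hηζ (c j)
        rw [e]
        refine add_mem (add_mem ?_ ?_) ?_
        · exact Submodule.smul_mem _ _ (Submodule.subset_span (Or.inl hη))
        · exact Submodule.smul_mem _ _ (Submodule.subset_span (Or.inr rfl))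
        · exact Submodule.subset_span (Or.inl ((mem_pairPerp Φ.sform).1 hr).1)
      · intro b hb
        by_cases hall : ∀ j, b j = ζ
        · rw [show b = fun _ => ζ from funext hall]
          exact Submodule.mem_sup_right (Submodule.mem_span_singleton_self _)
        push Not at hall
        obtain ⟨l, hl⟩ := hall
        have hbl : Φ.β (b l) η = 0 := (hb l).resolve_right hl
        refine Submodule.mem_sup_left ?_
        refine pv_mem_of_span P (Function.update (fun _ => S) l {b l}) b (fun j => ?_) fun b' hb' =>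
          stepB l b' ?_ fun j hj => by simpa [hj] using hb' j
        · rcases eq_or_ne j l with rfl | hjl
          · rw [Function.update_self]; exact Submodule.subset_span rfl
          · rw [Function.update_of_ne hjl, hSspan]; exact Submodule.mem_top
        · rw [show b' l = b l by simpa using hb' l]; exact hbl
    intro w hw
    rw [qT_polar, one_mul] at hw
    obtain ⟨p, hp, r, hr, rfl⟩ := Submodule.mem_sup.1 (hWall ▸ Submodule.mem_top : w ∈ W)
    obtain ⟨s, rfl⟩ := Submodule.mem_span_singleton.1 hr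
    rw [βT_add_right, hp.1, βT_smul_right, hu_def, βT_pv, zero_add,
      Finset.prod_eq_one fun j _ => hηζ, mul_one] at hw
    rw [hw, zero_smul, add_zero]
    have := hp.2 1
    rwa [one_smul] at this
  refine le_of_full_pair Φ.qT_nondeg (qT_dim hk ht) (e := pv fun _ => η) (f := pv fun _ => ζ)
    ?_ ?_ ?_ (full η ζ hη hζ hηζ) (full ζ η hζ hη (by rw [Φ.beta_symm η ζ, hηζ]))
  · rw [qT_val, βT_pv, Finset.prod_eq_zero (Finset.mem_univ ⟨0, by omega⟩) hη, mul_zero]
  · rw [qT_val, βT_pv, Finset.prod_eq_zero (Finset.mem_univ ⟨0, by omega⟩) hζ, mul_zero]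
  · rw [qT_polar, βT_pv, Finset.prod_eq_one fun j _ => hηζ, one_mul]
    exact one_ne_zero

/-- A pair of factors with decomposed elements gives all. -/
theorem Ov.big_of_tt {c₀ : F} (O : Φ.Ov c₀ G) (ht : t = 2) {a b : Fin t} (hab : a ≠ b)
    (h : Φ.TT G a b 1) : Φ.Big G := by
  classical
  have h' : Φ.TT G b a 1 := by
    have h2 := TT.smul (O.tt_swap hab.symm h h) (2⁻¹ : F)
    rwa [mul_one, ← two_smul F, smul_smul, inv_mul_cancel₀ Φ.two, one_smul] at h2
  have htwo : ∀ j l m : Fin t, l ≠ m → j = l ∨ j = m := by subst ht; omega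
  refine big_of_basic O.hk ht.ge fun g l c hg0 hgs hcl => ?_
  obtain ⟨m, hml, hTT⟩ : ∃ m, m ≠ l ∧ Φ.TT G m l 1 := by
    rcases htwo l a b hab with rfl | rfl
    · exact ⟨b, hab.symm, h'⟩
    · exact ⟨a, hab, h⟩
  obtain ⟨-, -, x, hx, hxv⟩ := hTT.2.2.2 (g m) (g l) c (hgs m) (hgs l) hcl
  refine ⟨x, hx, ?_⟩
  rw [hxv, mul_one, Φ.EV_pv ⟨m, by rw [Function.update_of_ne hml, hgs]⟩, W, mul_sub]
  have e : ∀ u v : Vk, Φ.P m (g m) (g m) * Φ.P l u v =
      pureMat fun j => Φ.rk (Function.update g l u j) (Function.update g l v j) := fun u v => by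
    rw [P, P, fa_eq, fa_eq, pureMat_mul]
    congr 1
    funext j
    rcases htwo j m l hml with rfl | rfl
    · simp [hml]
    · simp [Ne.symm hml]
  rw [e, e, Function.update_eq_self]

section ext

variable {G : Subgroup (GL (Fin (n + 1) → Fin k) F)} {c₀ : F}

/-- The transformations of the other factors, at every place. -/
theorem Ov.ext_pure (O : Φ.Ov c₀ G) (hn : 2 ≤ n) (i : Fin (n + 1))
    (h : ∀ u v : (Fin n → Fin k) → F, Φ.βT u u = 0 → Φ.βT v u = 0 →
      ∃ g ∈ G, (g : MN) = ext i (Φ.EV u v))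
    (p : Fin (n + 1)) (a b : Fin (n + 1) → Vk)
    (ha : ∃ j, j ≠ p ∧ Φ.β (a j) (a j) = 0) (hb : ∃ j, j ≠ p ∧ Φ.β (b j) (b j) = 0)
    (hab : ∃ j, j ≠ p ∧ Φ.β (b j) (a j) = 0) :
    ∃ g ∈ G, (g : MN) = 1 + (pureMat (Function.update (fun j => Φ.rk (b j) (a j)) p 1) -
      pureMat (Function.update (fun j => Φ.rk (a j) (b j)) p 1)) := by
  classical
  have base : ∀ a b : Fin (n + 1) → Vk, (∃ j, j ≠ i ∧ Φ.β (a j) (a j) = 0) →
      (∃ j, j ≠ i ∧ Φ.β (b j) (b j) = 0) → (∃ j, j ≠ i ∧ Φ.β (b j) (a j) = 0) →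
      ∃ g ∈ G, (g : MN) = 1 + (pureMat (Function.update (fun j => Φ.rk (b j) (a j)) i 1) -
        pureMat (Function.update (fun j => Φ.rk (a j) (b j)) i 1)) := by
    intro a b ha hb hab
    have hz : ∀ {x y : Fin (n + 1) → Vk}, (∃ j, j ≠ i ∧ Φ.β (x j) (y j) = 0) →
        ∃ l : Fin n, Φ.β (i.removeNth x l) (i.removeNth y l) = 0 := by
      rintro x y ⟨j, hj, hj0⟩
      obtain ⟨l, rfl⟩ := Fin.exists_succAbove_eq hj
      exact ⟨l, by simpa [Fin.removeNth_apply] using hj0⟩
    obtain ⟨g, hg, hgv⟩ := h (pv (i.removeNth a)) (pv (i.removeNth b))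
      (by obtain ⟨l, hl⟩ := hz ha; rw [βT_pv]; exact Finset.prod_eq_zero (Finset.mem_univ l) hl)
      (by obtain ⟨l, hl⟩ := hz hab; rw [βT_pv]; exact Finset.prod_eq_zero (Finset.mem_univ l) hl)
    refine ⟨g, hg, ?_⟩
    have e : ∀ x y : Fin (n + 1) → Vk,
        (i.insertNth 1 fun l => Φ.rk (i.removeNth x l) (i.removeNth y l) : Fin (n + 1) → Mm) =
          Function.update (fun j => Φ.rk (x j) (y j)) i 1 := fun x y => funext fun j => by
      induction j using Fin.succAboveCases i with
      | x => simp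
      | p j => simp [Fin.removeNth_apply, Fin.succAbove_ne i j]
    rw [hgv, Φ.EV_pv (hz hb), map_add, map_one, map_sub, ext_pureMat, ext_pureMat, e, e]
  rcases eq_or_ne p i with rfl | hpi
  · exact base a b ha hb hab
  obtain ⟨m, hmi, hmp⟩ : ∃ m : Fin (n + 1), m ≠ i ∧ m ≠ p := by
    by_contra hc
    push Not at hc
    have h1 : (Finset.univ : Finset (Fin (n + 1))) ⊆ {i, p} := fun m _ => by
      simp only [Finset.mem_insert, Finset.mem_singleton]
      exact or_iff_not_imp_left.2 (hc m)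
    have h2 := (Finset.card_le_card h1).trans Finset.card_le_two
    rw [Finset.card_univ, Fintype.card_fin] at h2
    omega
  set σ : Equiv.Perm (Fin (n + 1)) := Equiv.swap i p * Equiv.swap p m with hσ
  have hσi : σ i = p := by
    rw [hσ, Equiv.Perm.mul_apply, Equiv.swap_apply_of_ne_of_ne hpi.symm hmi.symm,
      Equiv.swap_apply_left]
  have hσs : σ.symm p = i := by rw [← hσi, Equiv.symm_apply_apply]
  have hsgn : Equiv.Perm.sign σ = 1 := by
    rw [hσ, map_mul, Equiv.Perm.sign_swap hpi.symm, Equiv.Perm.sign_swap hmp.symm]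
    rfl
  have hz : ∀ {x y : Fin (n + 1) → Vk}, (∃ j, j ≠ p ∧ Φ.β (x j) (y j) = 0) →
      ∃ j, j ≠ i ∧ Φ.β ((x ∘ σ) j) ((y ∘ σ) j) = 0 := by
    rintro x y ⟨j, hj, hj0⟩
    exact ⟨σ.symm j, fun e => hj (by rw [← hσi, ← e, Equiv.apply_symm_apply]),
      by simpa using hj0⟩
  obtain ⟨g, hg, hgv⟩ := base (a ∘ σ) (b ∘ σ) (hz ha) (hz hb) (hz hab)
  refine ⟨permGL k F σ * g * (permGL k F σ)⁻¹,
    mul_mem (mul_mem (O.perm σ hsgn) hg) (inv_mem (O.perm σ hsgn)), ?_⟩
  have e : ∀ A : Fin (n + 1) → Mm, (permMat k F σ : MN) * pureMat A *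
      ((permGL k F σ)⁻¹ : GL (Fin (n + 1) → Fin k) F) = pureMat fun j => A (σ.symm j) := fun A => by
    rw [permMat_mul_pureMat, mul_assoc, show (permMat k F σ : MN) =
      ((permGL k F σ : GL (Fin (n + 1) → Fin k) F) : MN) from rfl, Units.mul_inv, mul_one]
    rfl
  have e2 : ∀ x y : Fin (n + 1) → Vk,
      (fun j => Function.update (fun j => Φ.rk ((x ∘ σ) j) ((y ∘ σ) j)) i 1 (σ.symm j)) =
        Function.update (fun j => Φ.rk (x j) (y j)) p 1 := fun x y => funext fun j => by
    by_cases hj : j = p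
    · subst hj; simp [hσs]
    · rw [Function.update_of_ne hj, Function.update_of_ne fun e => hj (by
        rw [← hσi, ← e, Equiv.apply_symm_apply])]
      simp
  rw [Units.val_mul, Units.val_mul, hgv, show ((permGL k F σ : GL (Fin (n + 1) → Fin k) F) : MN) =
    permMat k F σ from rfl, mul_add, add_mul, mul_one, mul_sub, sub_mul, e, e, e2, e2]
  rw [show (permMat k F σ : MN) = ((permGL k F σ : GL (Fin (n + 1) → Fin k) F) : MN) from rfl,
    Units.mul_inv]

/-- All transformations of the other factors give all. -/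
theorem Ov.big_of_ext (O : Φ.Ov c₀ G) (hn : 2 ≤ n) (i : Fin (n + 1))
    (h : ∀ u v : (Fin n → Fin k) → F, Φ.βT u u = 0 → Φ.βT v u = 0 →
      ∃ g ∈ G, (g : MN) = ext i (Φ.EV u v)) : Φ.Big G := by
  classical
  refine big_of_basic O.hk (by omega) fun g l c hg0 hgs hcl => ?_
  obtain ⟨i₀, hi₀⟩ : ∃ i₀, i₀ ≠ l := Fintype.exists_ne_of_one_lt_card (by simp; omega) l
  obtain ⟨m, hmi, hml⟩ : ∃ m : Fin (n + 1), m ≠ i₀ ∧ m ≠ l := by
    by_contra hc
    push Not at hc
    have h1 : (Finset.univ : Finset (Fin (n + 1))) ⊆ {i₀, l} := fun m _ => by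
      simp only [Finset.mem_insert, Finset.mem_singleton]
      exact or_iff_not_imp_left.2 (hc m)
    have h2 := (Finset.card_le_card h1).trans Finset.card_le_two
    rw [Finset.card_univ, Fintype.card_fin] at h2
    omega
  have hpair : ∀ j, ∃ f : Vk, Φ.β f f = 0 ∧ Φ.β (g j) f = 1 := fun j =>
    exists_pair Φ.sform (hg0 j) (hgs j)
  choose f hf hgf using hpair
  have hfg : ∀ j, Φ.β (f j) (g j) = 1 := fun j => by rw [Φ.beta_symm (g j) (f j), hgf]
  -- centre on one side, the changed vector on the other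
  set a₁ : Fin (n + 1) → Vk := Function.update f i₀ (g i₀) with ha₁
  obtain ⟨x, hx, hxv⟩ := O.ext_pure hn i h l a₁ g
    ⟨i₀, hi₀, by rw [ha₁, Function.update_self, hgs]⟩ ⟨i₀, hi₀, hgs _⟩
    ⟨i₀, hi₀, by rw [ha₁, Function.update_self, hgs]⟩
  obtain ⟨y, hy, hyv⟩ := O.ext_pure hn i h i₀ g (Function.update g l ((2⁻¹ : F) • c))
    ⟨m, hmi, hgs _⟩ ⟨m, hmi, by rw [Function.update_of_ne hml, hgs]⟩
    ⟨m, hmi, by rw [Function.update_of_ne hml, hgs]⟩
  set A : Fin (n + 1) → Mm := Function.update (fun j => Φ.rk (g j) (a₁ j)) l 1 with hA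
  set B : Fin (n + 1) → Mm := Function.update (fun j => Φ.rk (a₁ j) (g j)) l 1 with hB
  set c' := (2⁻¹ : F) • c with hc'
  set C : Fin (n + 1) → Mm :=
    Function.update (fun j => Φ.rk (Function.update g l c' j) (g j)) i₀ 1 with hC
  set D : Fin (n + 1) → Mm :=
    Function.update (fun j => Φ.rk (g j) (Function.update g l c' j)) i₀ 1 with hD
  set R : Fin (n + 1) → Mm := fun j => Φ.rk (Function.update g l c' j) (g j)
  set R' : Fin (n + 1) → Mm := fun j => Φ.rk (g j) (Function.update g l c' j)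
  have hr0 : ∀ j, Φ.rk (g j) (g j) * Φ.rk (g j) (g j) = 0 := fun j => by
    rw [rk_mul_rk, hgs, zero_smul]
  have zAA : (pureMat A : MN) * pureMat A = 0 := by
    rw [pureMat_mul]; exact pureMat_zero_at i₀ (by simp [hA, ha₁, hi₀, hr0])
  have zAB : (pureMat A : MN) * pureMat B = 0 := by
    rw [pureMat_mul]; exact pureMat_zero_at i₀ (by simp [hA, hB, ha₁, hi₀, hr0])
  have zBA : (pureMat B : MN) * pureMat A = 0 := by
    rw [pureMat_mul]; exact pureMat_zero_at i₀ (by simp [hA, hB, ha₁, hi₀, hr0])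
  have zBB : (pureMat B : MN) * pureMat B = 0 := by
    rw [pureMat_mul]; exact pureMat_zero_at i₀ (by simp [hB, ha₁, hi₀, hr0])
  have zCC : (pureMat C : MN) * pureMat C = 0 := by
    rw [pureMat_mul]; exact pureMat_zero_at m (by simp [hC, R, hmi, hml, hr0])
  have zCD : (pureMat C : MN) * pureMat D = 0 := by
    rw [pureMat_mul]; exact pureMat_zero_at m (by simp [hC, hD, R, R', hmi, hml, hr0])
  have zDC : (pureMat D : MN) * pureMat C = 0 := by
    rw [pureMat_mul]; exact pureMat_zero_at m (by simp [hC, hD, R, R', hmi, hml, hr0])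
  have zDD : (pureMat D : MN) * pureMat D = 0 := by
    rw [pureMat_mul]; exact pureMat_zero_at m (by simp [hD, R', hmi, hml, hr0])
  have zBC : (pureMat B : MN) * pureMat C = 0 := by
    rw [pureMat_mul]
    exact pureMat_zero_at m (by simp [hB, hC, ha₁, R, hmi, hml, rk_mul_rk, hgs])
  have zBD : (pureMat B : MN) * pureMat D = 0 := by
    rw [pureMat_mul]
    exact pureMat_zero_at m (by simp [hB, hD, ha₁, R', hmi, hml, rk_mul_rk, hgs])
  have zCA : (pureMat C : MN) * pureMat A = 0 := by
    rw [pureMat_mul]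
    exact pureMat_zero_at m (by simp [hA, hC, ha₁, R, hmi, hml, rk_mul_rk, hgs])
  have zDA : (pureMat D : MN) * pureMat A = 0 := by
    rw [pureMat_mul]
    exact pureMat_zero_at m (by simp [hA, hD, ha₁, R', hmi, hml, rk_mul_rk, hgs])
  have mAC : (pureMat A : MN) * pureMat C = pureMat R := by
    rw [pureMat_mul]
    congr 1
    funext j
    rcases eq_or_ne j l with rfl | hjl
    · simp [hA, hC, R, hi₀.symm]
    rcases eq_or_ne j i₀ with rfl | hji
    · simp [hA, hC, R, ha₁, hi₀]
    · simp [hA, hC, R, ha₁, hjl, hji, rk_mul_rk, hfg]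
  have mAD : (pureMat A : MN) * pureMat D = pureMat R' := by
    rw [pureMat_mul]
    congr 1
    funext j
    rcases eq_or_ne j l with rfl | hjl
    · simp [hA, hD, R', hi₀.symm]
    rcases eq_or_ne j i₀ with rfl | hji
    · simp [hA, hD, R', ha₁, hi₀]
    · simp [hA, hD, R', ha₁, hjl, hji, rk_mul_rk, hfg]
  have mCB : (pureMat C : MN) * pureMat B = pureMat R := by
    rw [pureMat_mul]
    congr 1
    funext j
    rcases eq_or_ne j l with rfl | hjl
    · simp [hB, hC, R, hi₀.symm]
    rcases eq_or_ne j i₀ with rfl | hji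
    · simp [hB, hC, R, ha₁, hi₀]
    · simp [hB, hC, R, ha₁, hjl, hji, rk_mul_rk, hgf]
  have mDB : (pureMat D : MN) * pureMat B = pureMat R' := by
    rw [pureMat_mul]
    congr 1
    funext j
    rcases eq_or_ne j l with rfl | hjl
    · simp [hB, hD, R', hi₀.symm]
    rcases eq_or_ne j i₀ with rfl | hji
    · simp [hB, hD, R', ha₁, hi₀]
    · simp [hB, hD, R', ha₁, hjl, hji, rk_mul_rk, hgf]
  set X : MN := pureMat A - pureMat B with hX
  set Y : MN := pureMat C - pureMat D with hY
  set Z : MN := pureMat R - pureMat R' with hZ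
  have hXX : X * X = 0 := by simp [hX, mul_sub, sub_mul, zAA, zAB, zBA, zBB]
  have hYY : Y * Y = 0 := by simp [hY, mul_sub, sub_mul, zCC, zCD, zDC, zDD]
  have hXY : X * Y = Z := by simp [hX, hY, hZ, mul_sub, sub_mul, mAC, mAD, zBC, zBD]
  have hYX : Y * X = -Z := by
    simp [hX, hY, hZ, mul_sub, sub_mul, mCB, mDB, zCA, zDA]
  clear_value X Y Z
  have hXZ : X * Z = 0 := by rw [← hXY, ← mul_assoc, hXX, zero_mul]
  have hZY : Z * Y = 0 := by rw [← hXY, mul_assoc, hYY, mul_zero]
  have hYZ : Y * Z = 0 := by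
    rw [show Z = -(Y * X) by rw [hYX, neg_neg], mul_neg, ← mul_assoc, hYY, zero_mul, neg_zero]
  have hxi : ((x⁻¹ : GL (Fin (n + 1) → Fin k) F) : MN) = 1 - X := by
    refine Units.inv_eq_of_mul_eq_one_right ?_
    rw [hxv, add_mul, one_mul, mul_sub, mul_one, hXX]; abel
  have hyi : ((y⁻¹ : GL (Fin (n + 1) → Fin k) F) : MN) = 1 - Y := by
    refine Units.inv_eq_of_mul_eq_one_right ?_
    rw [hyv, add_mul, one_mul, mul_sub, mul_one, hYY]; abel
  refine ⟨x * y * (x⁻¹ * y⁻¹), mul_mem (mul_mem hx hy) (mul_mem (inv_mem hx) (inv_mem hy)), ?_⟩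
  have h1 : ((x * y * (x⁻¹ * y⁻¹) : GL (Fin (n + 1) → Fin k) F) : MN) = 1 + (2 : F) • Z := by
    have e1 : (1 + X) * (1 + Y) = 1 + X + Y + Z := by
      rw [mul_add, add_mul, add_mul, one_mul, mul_one, one_mul, hXY]; abel
    have e2 : (1 - X) * (1 - Y) = 1 - X - Y + Z := by
      rw [mul_sub, sub_mul, sub_mul, one_mul, mul_one, one_mul, hXY]; abel
    have hZX : Z * X = 0 := by rw [← hXY, mul_assoc, hYX, mul_neg, hXZ, neg_zero]
    have hZZ : Z * Z = 0 := by
      nth_rw 2 [← hXY]
      rw [← mul_assoc, hZX, zero_mul]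
    rw [Units.val_mul, Units.val_mul, Units.val_mul, hxi, hyi, hxv, hyv, e1, e2, add_mul, add_mul,
      add_mul, one_mul]
    simp only [mul_add, mul_sub, mul_one, hXX, hYY, hXY, hYX, hXZ, hZY, hYZ, hZX, hZZ]
    module
  rw [h1, hZ, smul_sub, Φ.EV_pv ⟨i₀, by rw [Function.update_of_ne hi₀, hgs]⟩]
  have e : ∀ (F₁ F₂ : Fin (n + 1) → Mm), (∀ j, j ≠ l → F₁ j = F₂ j) → F₁ l = (2 : F) • F₂ l →
      (pureMat F₁ : MN) = (2 : F) • pureMat F₂ := by
    intro F₁ F₂ he hel
    ext u v
    rw [Matrix.smul_apply, pureMat_apply, pureMat_apply, ← Finset.mul_prod_erase _ _ (Finset.mem_univ l),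
      ← Finset.mul_prod_erase _ _ (Finset.mem_univ l), hel, Matrix.smul_apply, smul_eq_mul, smul_eq_mul,
      Finset.prod_congr rfl fun j hj => by rw [he j (Finset.ne_of_mem_erase hj)], mul_assoc]
  have hc2 : c = (2 : F) • c' := by
    rw [hc', smul_smul, mul_inv_cancel₀ Φ.two, one_smul]
  rw [← e _ R, ← e _ R']
  · intro j hj
    simp [R', hj]
  · simp [R', hc2, rk, Matrix.mulVec_smul, vecMulVec_smul]
  · intro j hj
    simp [R, hj]
  · simp [R, hc2, rk, smul_vecMulVec]

end ext

/-- A normal subgroup containing the Eichler transformations of a factor. -/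
theorem big_of_normal {A K : Subgroup (GL (Fin t → Fin k) F)} (hk : 3 ≤ k) (ht : 2 ≤ t)
    (hA : Φ.Big A) (hK : ∀ a ∈ A, ∀ x ∈ K, a * x * a⁻¹ ∈ K) (l : Fin t)
    (hE : ∀ e θ, Φ.β e e = 0 → Φ.β θ e = 0 → ∃ g ∈ K, (g : MT) = Φ.E l e θ) : Φ.Big K := by
  classical
  have hQ := Φ.qT_nondeg (t := t)
  have hd := qT_dim (F := F) hk ht
  set N₀ := Subgroup.closure (Sieg (Φ.qT t)) with hN₀
  have hA' : N₀ ≤ Φ.kq A := (sieg_le_iff hk ht).2 hA
  rw [← sieg_le_iff hk ht, ← hN₀]
  set M := (Φ.kq K).subgroupOf N₀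
  haveI hnorm : M.Normal := ⟨fun x hx a => by
    have h := hK _ (hA' a.2) _ hx
    show Φ.mq ((a * x * a⁻¹ : N₀) : quadIso (Φ.qT t)) ∈ K
    rw [Subgroup.coe_mul, Subgroup.coe_mul, Subgroup.coe_inv, map_mul, map_mul, map_inv]
    exact h⟩
  -- a member outside the centre
  obtain ⟨η, hη0, hη⟩ := Φ.sform.exists_iso (by rw [Module.finrank_fin_fun]; exact hk)
  obtain ⟨ζ, θ, hζ, hηζ, hθ, hθθ⟩ := Φ.exists_orth_aniso hk hη0 hη
  obtain ⟨hθη, hθζ⟩ := (mem_pairPerp Φ.sform).1 hθ
  have hN4 : k ^ t ≠ 4 := by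
    have := Nat.pow_le_pow_left hk t
    have := Nat.pow_le_pow_right (show 1 ≤ 3 by norm_num) ht
    omega
  obtain ⟨g, ⟨x, hx, hxg⟩, hgv⟩ := Φ.eu_mem_DG one_ne_zero Φ.qT_polar hN4 l hη hθη
  rw [OmegaSimple.commutator_eq _ hQ hd, ← hN₀] at hx
  obtain ⟨g', hg', hgv'⟩ := hE η θ hη hθη
  have hmq : Φ.mq x = g := Units.ext (Matrix.toLin'.injective (LinearMap.ext fun z => by
    rw [Matrix.toLin'_apply, Matrix.toLin'_apply, mq_mulVec, ← toLE_apply, ← hxg]
    rfl))
  have hxM : (⟨x, hx⟩ : N₀) ∈ M := by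
    show Φ.mq x ∈ K
    rwa [hmq, show g = g' from Units.ext (by rw [hgv, hgv'])]
  have hxc : (⟨x, hx⟩ : N₀) ∉ Subgroup.center N₀ := fun hc => by
    obtain ⟨s, -, hs⟩ := OmegaCenter.central_scalar (Φ.qT t) hQ hd x (fun a b => by
      have hab : ⁅a, b⁆ ∈ N₀ := by
        rw [hN₀, ← OmegaSimple.commutator_eq _ hQ hd, _root_.commutator_def]
        exact Subgroup.commutator_mem_commutator (Subgroup.mem_top a) (Subgroup.mem_top b)
      exact (congrArg Subtype.val (Subgroup.mem_center_iff.mp hc ⟨_, hab⟩)).symm)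
    have h1 := hs (pv fun _ => ζ)
    rw [← mq_mulVec, hmq, hgv, E, fa_pv] at h1
    have h2 := congrArg (Φ.βT (pv (Function.update (fun _ : Fin t => η) l θ))) h1
    rw [βT_smul_right, βT_pv, βT_pv, ← Finset.mul_prod_erase _ _ (Finset.mem_univ l),
      ← Finset.mul_prod_erase _ _ (Finset.mem_univ l), Function.update_self, Function.update_self,
      hθζ, zero_mul, mul_zero, Finset.prod_eq_one fun j hj => by
        rw [Function.update_of_ne (Finset.ne_of_mem_erase hj),
          Function.update_of_ne (Finset.ne_of_mem_erase hj), hηζ], mul_one, E1_mulVec,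
      CfsgLib.MaxSub.TensorOO.eich_apply] at h2
    simp only [Φ.sform.add_right, Φ.sform.sub_right, Φ.sform.smul_right, hθζ, hθη, hηζ, mul_zero,
      sub_zero, zero_add, one_mul, Φ.sform.symm η ζ, Φ.sform.symm0 hθζ] at h2
    exact hθθ h2
  haveI := OmegaSimple.simple (Φ.qT t) hQ hd
  have hMn := Subgroup.Normal.map hnorm (QuotientGroup.mk' (Subgroup.center N₀))
    (QuotientGroup.mk'_surjective _)
  rcases hMn.eq_bot_or_eq_top with h | h
  · exact absurd (by
      rw [Subgroup.map_eq_bot_iff, QuotientGroup.ker_mk'] at h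
      exact h hxM) hxc
  have hdec : ∀ a : N₀, ∃ p ∈ M, ∃ z ∈ Subgroup.center N₀, a = p * z := fun a => by
    have h1 : QuotientGroup.mk' (Subgroup.center N₀) a ∈ M.map (QuotientGroup.mk' _) := by
      rw [h]; trivial
    obtain ⟨p, hp, hpa⟩ := h1
    exact ⟨p, hp, p⁻¹ * a, (QuotientGroup.eq).1 hpa, by group⟩
  have hcomm : ⁅(⊤ : Subgroup N₀), (⊤ : Subgroup N₀)⁆ ≤ M := by
    rw [Subgroup.commutator_le]
    intro a _ b _
    obtain ⟨p, hp, z, hz, rfl⟩ := hdec a
    obtain ⟨q, hq, w, hw, rfl⟩ := hdec b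
    have hz' := Subgroup.mem_center_iff.1 hz
    have hw' := Subgroup.mem_center_iff.1 hw
    have e : ⁅p * z, q * w⁆ = ⁅p, q⁆ := by
      simp only [commutatorElement_def, _root_.mul_inv_rev]
      calc p * z * (q * w) * (z⁻¹ * p⁻¹) * (w⁻¹ * q⁻¹)
          = p * (z * q) * (w * z⁻¹) * (p⁻¹ * w⁻¹) * q⁻¹ := by group
        _ = p * (q * z) * (z⁻¹ * w) * (w⁻¹ * p⁻¹) * q⁻¹ := by
            rw [hz' q, ← hw' z⁻¹, (Commute.inv_right (hw' p⁻¹)).eq]
        _ = p * q * p⁻¹ * q⁻¹ := by group
    rw [e, commutatorElement_def]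
    exact mul_mem (mul_mem (mul_mem hp hq) (inv_mem hp)) (inv_mem hq)
  intro a ha
  have h1 : a ∈ (⁅(⊤ : Subgroup N₀), (⊤ : Subgroup N₀)⁆).map N₀.subtype := by
    rw [Subgroup.map_commutator, ← MonoidHom.range_eq_map, Subgroup.range_subtype, hN₀,
      OmegaSimple.perfect _ hQ hd, ← hN₀]
    exact ha
  obtain ⟨a', ha', rfl⟩ := h1
  exact hcomm ha'

end OForm

end CfsgLib.MaxSub.TensorPowOrth
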