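import Cfsg.Agent.Lib.MaxSub.TensorPowOrth.StabInd
import Cfsg.Agent.Lib.MaxSub.TensorPowOrth.Spread

/-!
Elements fixing a factor: with two factors they lie in the wreath group; with more, one outside the
wreath group makes the overgroup big by induction on the other factors.
-/

set_option autoImplicit false
set_option maxHeartbeats 800000
set_option linter.unusedSectionVars false
set_option linter.style.haveILetI false

namespace CfsgLib.MaxSub.TensorPowOrth

open Matrix Module
open CfsgLib.Aschbacher CfsgLib.MaxSub.TensorPow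

variable {F : Type*} [Field F] {k : ℕ}

local notation "Mm" => Matrix (Fin k) (Fin k) F

/-- An element fixing a factor fixes the other one when there are two. -/
theorem isWr_of_maps_two [NeZero k] (hk : 2 ≤ k) {t : ℕ} (ht : t = 2) {g : GL (Fin t → Fin k) F}
    {i : Fin t} (hi : Maps g i i) : IsWr g := by
  refine isWr_of_maps hk (by omega) fun l => ⟨l, ?_⟩
  by_cases hl : l = i
  · exact hl ▸ hi
  intro X
  refine cent_range l fun m hm Z => ?_
  have hmi : m = i := by subst ht; omega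
  subst hmi
  obtain ⟨W, hW⟩ := hi.inv Z
  rw [← Ad_inv_cancel g⁻¹ (fa m Z), inv_inv, hW]
  show _ * _ = _
  rw [← Ad_mul_apply, ← Ad_mul_apply, (fa_commute hl X W).eq]

variable {n : ℕ}

local notation "MS" => Matrix (Fin n → Fin k) (Fin n → Fin k) F
local notation "MT" => Matrix (Fin (n + 1) → Fin k) (Fin (n + 1) → Fin k) F

/-- An element fixing a factor is a product of an element of that factor and one of the others. -/
theorem exists_split_of_maps [NeZero k] {g : GL (Fin (n + 1) → Fin k) F} {i : Fin (n + 1)}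
    (hi : Maps g i i) : ∃ (P : GL (Fin k) F) (y : GL (Fin n → Fin k) F),
      g = Units.map (fa (m := k) i).toRingHom.toMonoidHom P * extGL i y := by
  haveI : Nonempty (Fin k) := ⟨0⟩
  have hi' := hi
  choose Y hY using hi'
  let φ : Mm →ₐ[F] Mm :=
    { toFun := Y
      map_one' := fa_injective i (by
        rw [← hY, map_one (fa i), Ad_apply, mul_one, Units.mul_inv])
      map_mul' := fun A B => fa_injective i (by
        rw [← hY, map_mul (fa i), Ad_mul_apply, hY, hY, map_mul])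
      map_zero' := fa_injective i (by rw [← hY, map_zero, map_zero])
      map_add' := fun A B => fa_injective i (by rw [← hY, map_add, map_add, hY, hY, map_add])
      commutes' := fun c => fa_injective i (by
        rw [← hY, AlgHom.commutes, Algebra.algebraMap_eq_smul_one, map_smul, Ad_apply, mul_one,
          Units.mul_inv]) }
  obtain ⟨P, hP⟩ := exists_conj_of_algHom φ
  set Pu : GL (Fin (n + 1) → Fin k) F := Units.map (fa (m := k) i).toRingHom.toMonoidHom P
  set a := Pu⁻¹ * g with ha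
  have hc : OForm.Cm i (a : MT) := fun X => by
    show _ * _ = _
    have h1 : (g : MT) * fa i X = fa i (Y X) * (g : MT) := by
      rw [← hY, Ad_apply, mul_assoc (_ * _), Units.inv_mul, mul_one]
    have h2 : ((Pu⁻¹ : GL (Fin (n + 1) → Fin k) F) : MT) * fa i (Y X) =
        fa i X * ((Pu⁻¹ : GL (Fin (n + 1) → Fin k) F) : MT) := by
      rw [Units.inv_mul_eq_iff_eq_mul, ← mul_assoc, Units.eq_mul_inv_iff_mul_eq]
      show fa i (φ X) * fa i (P : Mm) = fa i (P : Mm) * fa i X
      rw [← map_mul, ← map_mul, hP]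
    rw [ha, Units.val_mul, mul_assoc, h1, ← mul_assoc, h2, mul_assoc]
  have hc' : OForm.Cm i ((a⁻¹ : GL (Fin (n + 1) → Fin k) F) : MT) := fun X => (hc X).units_inv_left
  obtain ⟨Z, hZ⟩ := exists_ext hc
  obtain ⟨Z', hZ'⟩ := exists_ext hc'
  refine ⟨P, ⟨Z, Z', ext_injective i ?_, ext_injective i ?_⟩, ?_⟩
  · rw [map_mul, map_one, ← hZ, ← hZ', Units.mul_inv]
  · rw [map_mul, map_one, ← hZ, ← hZ', Units.inv_mul]
  · rw [show g = Pu * a by rw [ha, mul_inv_cancel_left]]
    exact congrArg _ (Units.ext (by rw [extGL_val]; exact hZ))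

/-- An element of a factor commutes with the units of the others. -/
theorem commute_extGL (i : Fin (n + 1)) (P : GL (Fin k) F) (y : GL (Fin n → Fin k) F) :
    Commute (Units.map (fa (m := k) i).toRingHom.toMonoidHom P) (extGL i y) :=
  Units.ext ((cm_ext i (y : MS) (P : Mm)).eq).symm

namespace OForm

variable (Φ : OForm F k) {c₀ : F}

/-- The isometries of the other factors which are components of elements of the group fixing the
factor. -/
def sgM (G : Subgroup (GL (Fin (n + 1) → Fin k) F)) (hiso : ∀ g ∈ G, Φ.Iso g) (i : Fin (n + 1)) :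
    Subgroup (GL (Fin n → Fin k) F) where
  carrier := {d | Φ.Iso d ∧ ∃ h ∈ G, ∃ M : Mm, (h : MT) = fa i M * ext i (d : MS)}
  one_mem' := ⟨by show Φ.adj (1 : MS) * 1 = 1; rw [adj_one, mul_one], 1, one_mem G, 1, by
    rw [Units.val_one, Units.val_one, map_one, map_one, mul_one]⟩
  mul_mem' := by
    rintro a b ⟨ha, g, hg, M, hM⟩ ⟨hb, h, hh, N, hN⟩
    refine ⟨ha.mul hb, g * h, mul_mem hg hh, M * N, ?_⟩
    rw [Units.val_mul, hM, hN, Units.val_mul, map_mul, map_mul, mul_assoc, ← mul_assoc (ext i _),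
      (cm_ext i (a : MS) N).eq, mul_assoc, mul_assoc]
  inv_mem' := by
    rintro a ⟨ha, g, hg, M, hM⟩
    refine ⟨ha.inv, g⁻¹, inv_mem hg, Φ.adj1 M, ?_⟩
    rw [← (hiso g hg).adj_eq, hM, adj_mul, adj_ext, adj_fa, ha.adj_eq, (cm_ext i _ _).eq]

variable {Φ} {G : Subgroup (GL (Fin (n + 1) → Fin k) F)} (O : Φ.Ov c₀ G) [Finite F]
include O

theorem Ov.mem_sgM {i : Fin (n + 1)} [NeZero k] {d : GL (Fin n → Fin k) F}
    {g : GL (Fin (n + 1) → Fin k) F} (hg : g ∈ G) (hv : (g : MT) = ext i (d : MS)) :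
    d ∈ Φ.sgM G O.iso i := by
  refine ⟨(Φ.iso_extGL i d).1 ?_, g, hg, 1, by rw [hv, map_one, one_mul]⟩
  rw [show extGL i d = g from Units.ext (by rw [extGL_val, hv])]
  exact O.iso g hg

/-- The hypotheses pass to the components. -/
theorem Ov.sub_sgM (i : Fin (n + 1)) (hn : 2 ≤ n) : Φ.Ov c₀ (Φ.sgM G O.iso i) := by
  haveI : NeZero k := ⟨by have := O.hk; omega⟩
  refine ⟨O.c₀_ne, O.hk, O.hq, O.minus, fun g hg => hg.1, fun l x θ hx hθ => ?_,
    fun _ l a ha => ?_, fun hev l a b ha hb => ?_, fun σ hσ => ?_⟩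
  · obtain ⟨g, hg, hgv⟩ := O.eu (i.succAbove l) x θ hx hθ
    exact ⟨Φ.Eu l x θ hx hθ, O.mem_sgM hg (by rw [hgv, Eu_val, E, E, ext_fa]), rfl⟩
  · obtain ⟨g, hg, hgv⟩ := O.turn (Or.inr (by omega)) (i.succAbove l) a ha
    refine ⟨⟨Φ.Tn l a, Φ.Tn l a, Φ.Tn_mul_self l ha.1, Φ.Tn_mul_self l ha.1⟩,
      O.mem_sgM hg ?_, rfl⟩
    rw [hgv]
    exact (ext_fa i l _).symm
  · obtain ⟨g, hg, hgv⟩ := O.pair hev (i.succAbove l) a b ha hb
    let T : ∀ v : Fin k → F, Φ.β v v ≠ 0 → GL (Fin n → Fin k) F := fun v hv =>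
      ⟨Φ.Tn l v, Φ.Tn l v, Φ.Tn_mul_self l hv, Φ.Tn_mul_self l hv⟩
    refine ⟨T a ha * T b hb, O.mem_sgM hg ?_, rfl⟩
    rw [hgv, Units.val_mul, map_mul]
    exact congrArg₂ (· * ·) (ext_fa i l _).symm (ext_fa i l _).symm
  · refine O.mem_sgM (O.perm (extPerm i σ) (by rw [sign_extPerm, hσ])) ?_
    exact (ext_permMat i σ).symm

/-- An element of the group fixing a factor and outside the wreath group makes it big. -/
theorem Ov.big_of_maps (hn : 2 ≤ n)
    (IH : ∀ G' : Subgroup (GL (Fin n → Fin k) F), Φ.Ov c₀ G' → Φ.Concl G')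
    {g : GL (Fin (n + 1) → Fin k) F} (hg : g ∈ G) {i : Fin (n + 1)} (hi : Maps g i i)
    (hw : ¬ IsWr g) : Φ.Big G := by
  haveI : NeZero k := ⟨by have := O.hk; omega⟩
  haveI : Nonempty (Fin n → Fin k) := ⟨fun _ => 0⟩
  obtain ⟨P, y, hgy⟩ := exists_split_of_maps hi
  rcases IH _ (O.sub_sgM i hn) with hW | hA
  · exfalso
    set Pu : GL (Fin (n + 1) → Fin k) F := Units.map (fa (m := k) i).toRingHom.toMonoidHom P
    have hPu : (Pu : MT) = fa i (P : Mm) := rfl
    -- the component is a similitude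
    obtain ⟨μ, hμ⟩ : ∃ μ : F, Φ.adj (y : MS) * (y : MS) = μ • 1 := by
      have h0 : Φ.adj (g : MT) * (g : MT) = 1 := O.iso g hg
      rw [hgy, Units.val_mul, extGL_val, hPu, adj_mul, adj_fa, adj_ext, mul_assoc,
        ← mul_assoc (fa i _), ← map_mul, ← mul_assoc, (cm_ext i _ _).eq, mul_assoc,
        ← map_mul (ext i)] at h0
      have hcm : OForm.Cm i (fa i (Φ.adj1 (P : Mm) * (P : Mm)) : MT) := fun X => by
        have h1 : (fa i (Φ.adj1 (P : Mm) * (P : Mm)) : MT) =
            ((extGL i (⟨Φ.adj (y : MS) * (y : MS),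
              ((y⁻¹ : GL (Fin n → Fin k) F) : MS) * Φ.adj ((y⁻¹ : GL (Fin n → Fin k) F) : MS),
              by rw [mul_assoc, ← mul_assoc (y : MS), Units.mul_inv, one_mul, ← adj_mul,
                Units.inv_mul, adj_one],
              by rw [mul_assoc, ← mul_assoc (Φ.adj _), ← adj_mul, Units.mul_inv, adj_one, one_mul,
                Units.inv_mul]⟩))⁻¹ : GL (Fin (n + 1) → Fin k) F) :=
          Units.eq_inv_of_mul_eq_one_right h0
        rw [h1]
        exact Commute.units_inv_left (cm_ext i _ X)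
      have h1 : ∀ l X, Commute (fa i (Φ.adj1 (P : Mm) * (P : Mm)) : MT) (fa l X) := fun l X => by
        by_cases hl : l = i
        · subst hl; exact hcm X
        · exact fa_commute (Ne.symm hl) _ X
      obtain ⟨s, hs⟩ := scalar_of_commute h1
      rw [hs, Matrix.smul_mul, one_mul] at h0
      have hs0 : s ≠ 0 := fun h => by
        rw [h, zero_smul] at h0
        haveI : Nonempty (Fin (n + 1) → Fin k) := ⟨fun _ => 0⟩
        exact zero_ne_one h0
      refine ⟨s⁻¹, ext_injective i ?_⟩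
      rw [map_smul, map_one, ← h0, inv_smul_smul₀ hs0]
    have hμ0 : μ ≠ 0 := fun h => by
      rw [h, zero_smul] at hμ
      have h1 := congrArg (fun Z => Φ.adj ((y⁻¹ : GL (Fin n → Fin k) F) : MS) * Z *
        ((y⁻¹ : GL (Fin n → Fin k) F) : MS)) hμ
      simp only [mul_zero, zero_mul, mul_assoc, Units.mul_inv, mul_one, ← adj_mul, adj_one] at h1
      exact one_ne_zero h1
    have hywr : IsWr y⁻¹ := by
      refine Φ.wr_of_conj_E O.hk (by omega) O.hq O.minus ⟨μ⁻¹, inv_ne_zero hμ0, ?_⟩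
        fun l x θ hx hθ u huv => ?_
      · have h1 : (μ⁻¹ • Φ.adj (y : MS)) * (y : MS) = 1 := by
          rw [Matrix.smul_mul, hμ, inv_smul_smul₀ hμ0]
        have h2 : ((y⁻¹ : GL (Fin n → Fin k) F) : MS) = μ⁻¹ • Φ.adj (y : MS) :=
          (Units.eq_inv_of_mul_eq_one_right h1).symm
        nth_rw 1 [h2]
        rw [adj_smul, adj_adj, Matrix.smul_mul, Units.mul_inv]
      obtain ⟨L, hL, hLv⟩ := O.eu (i.succAbove l) x θ hx hθ
      have hLu : L = extGL i u := Units.ext (by rw [extGL_val, hLv, huv, E, E, ext_fa])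
      refine hW _ (O.mem_sgM (mul_mem (mul_mem hg hL) (inv_mem hg)) ?_)
      rw [inv_inv, ← extGL_val]
      refine congrArg Units.val ?_
      rw [hgy, hLu]
      have hc : Commute Pu (extGL i (y * u * y⁻¹)) := commute_extGL i P _
      rw [map_mul, map_mul, map_inv] at hc ⊢
      rw [show Pu * extGL i y * extGL i u * (Pu * extGL i y)⁻¹ =
        Pu * (extGL i y * extGL i u * (extGL i y)⁻¹) * Pu⁻¹ by group, hc.eq, mul_inv_cancel_right]
    refine hw ?_
    rw [hgy]
    exact isWr_mul (isWr_of_fa (M := (P : Mm)) rfl)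
      (isWr_extGL i (by simpa using isWr_inv hywr))
  · let K : Subgroup (GL (Fin n → Fin k) F) := G.comap (extGL i)
    have hK : ∀ a ∈ Φ.sgM G O.iso i, ∀ x ∈ K, a * x * a⁻¹ ∈ K := by
      rintro a ⟨-, h, hh, M, hM⟩ x hx
      show extGL i (a * x * a⁻¹) ∈ G
      have h1 : extGL i (a * x * a⁻¹) * h = h * extGL i x := Units.ext (by
        rw [Units.val_mul, Units.val_mul, extGL_val, extGL_val, hM, ← mul_assoc (ext i _),
          (cm_ext i _ M).eq, mul_assoc (fa i M), mul_assoc (fa i M), ← map_mul (ext i),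
          ← map_mul (ext i), ← Units.val_mul, ← Units.val_mul, inv_mul_cancel_right])
      rw [eq_mul_inv_of_mul_eq h1]
      exact mul_mem (mul_mem hh hx) (inv_mem hh)
    have hBK : Φ.Big K := Φ.big_of_normal O.hk hn hA hK ⟨0, by omega⟩ fun e θ he hθ => by
      obtain ⟨L, hL, hLv⟩ := O.eu (i.succAbove ⟨0, by omega⟩) e θ he hθ
      refine ⟨Φ.Eu _ e θ he hθ, ?_, rfl⟩
      show extGL i _ ∈ G
      rw [show extGL i (Φ.Eu _ e θ he hθ) = L from Units.ext (by
        rw [extGL_val, hLv, Eu_val, E, E, ext_fa])]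
      exact hL
    refine O.big_of_ext hn i fun u v hu hv => ?_
    obtain ⟨d, hd, hdv⟩ := hBK u v hu hv
    exact ⟨extGL i d, hd, by rw [extGL_val, hdv]⟩

end OForm

end CfsgLib.MaxSub.TensorPowOrth
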