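import Cfsg.Agent.Lib.MaxSub.TensorPowOrth.Base

/-!
Eichler transformations and half turns of a factor, the hypotheses on a group of isometries of a
tensor power, and the algebra generated by the Eichler transformations of a factor.
-/

set_option autoImplicit false
set_option maxHeartbeats 400000
set_option linter.unusedSectionVars false

namespace CfsgLib.MaxSub.TensorPowOrth

open Matrix Module
open CfsgLib.Aschbacher CfsgLib.MaxSub.TensorPow
open CfsgLib.MaxSub.TensorSympOrth (SForm)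
open CfsgLib.MaxSub.TensorOO (eich eich_apply eich_mul eich_zero eich_fix exists_pair split_pair
  singular_span mem_pairPerp pairPerp exists_aniso_pairPerp exists_two_pairPerp exists_value)

variable {F : Type*} [Field F] {k t : ℕ}

local notation "Vk" => Fin k → F
local notation "Mm" => Matrix (Fin k) (Fin k) F
local notation "MT" => Matrix (Fin t → Fin k) (Fin t → Fin k) F

namespace OForm

variable (Φ : OForm F k)

/-- The skew operator of two vectors of a factor. -/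
noncomputable def W (i : Fin t) (x y : Vk) : MT := Φ.P i x y - Φ.P i y x

theorem adj_W (i : Fin t) (x y : Vk) : Φ.adj (Φ.W i x y) = -Φ.W i x y := by
  rw [W, adj_sub, adj_P, adj_P, neg_sub]

theorem W_swap (i : Fin t) (x y : Vk) : Φ.W i y x = -Φ.W i x y := by rw [W, W, neg_sub]

theorem cm_W {i j : Fin t} (h : j ≠ i) (x y : Vk) : Cm i (Φ.W j x y) :=
  Cm.sub (Φ.cm_P h x y) (Φ.cm_P h y x)

theorem comp_W (i : Fin t) (x y a b : Vk) :
    Φ.comp i x y (Φ.W i a b) = (Φ.β x a * Φ.β b y - Φ.β x b * Φ.β a y) • (1 : MT) := by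
  rw [W, comp_sub, comp_P, comp_P, sub_smul]

theorem comp_W_mul {i : Fin t} {C : MT} (hC : Cm i C) (x y a b : Vk) :
    Φ.comp i x y (Φ.W i a b * C) = (Φ.β x a * Φ.β b y - Φ.β x b * Φ.β a y) • C := by
  rw [Φ.comp_mul_cm hC, comp_W, Matrix.smul_mul, one_mul]

/-- The Eichler transformation of a factor. -/
def E1 (e θ : Vk) : Mm :=
  1 + (Φ.rk θ e - Φ.rk e θ - (Φ.β θ θ / 2) • Φ.rk e e)

theorem E1_mulVec (e θ x : Vk) : Φ.E1 e θ *ᵥ x = eich Φ.sform e θ x := by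
  rw [E1, eich_apply, Matrix.add_mulVec, Matrix.sub_mulVec, Matrix.sub_mulVec, Matrix.smul_mulVec,
    Matrix.one_mulVec, rk_mulVec, rk_mulVec, rk_mulVec, smul_smul, Φ.beta_symm x e, Φ.beta_symm x θ]

theorem ext1 {A B : Mm} (h : ∀ x, A *ᵥ x = B *ᵥ x) : A = B := Matrix.ext_of_mulVec_single fun i => h _

variable {e θ θ' : Fin k → F}

theorem E1_mul (he : Φ.β e e = 0) (h1 : Φ.β θ e = 0) (h2 : Φ.β θ' e = 0) :
    Φ.E1 e θ * Φ.E1 e θ' = Φ.E1 e (θ + θ') := ext1 fun x => by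
  rw [← Matrix.mulVec_mulVec, E1_mulVec, E1_mulVec, E1_mulVec,
    eich_mul Φ.sform he (Φ.sform.symm0 h1) (Φ.sform.symm0 h2)]

theorem E1_zero (e : Vk) : Φ.E1 e 0 = 1 := ext1 fun x => by
  rw [E1_mulVec, eich_zero, Matrix.one_mulVec]

theorem adj1_add (X Y : Mm) : Φ.adj1 (X + Y) = Φ.adj1 X + Φ.adj1 Y := by
  simp [adj1, mul_add, add_mul]

theorem adj1_smul (c : F) (X : Mm) : Φ.adj1 (c • X) = c • Φ.adj1 X := by
  simp [adj1, Matrix.mul_smul, Matrix.smul_mul]

theorem adj1_sub (X Y : Mm) : Φ.adj1 (X - Y) = Φ.adj1 X - Φ.adj1 Y := by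
  simp [adj1, mul_sub, sub_mul]

theorem adj1_E1 (e θ : Vk) : Φ.adj1 (Φ.E1 e θ) = Φ.E1 e (-θ) := ext1 fun x => by
  rw [E1, adj1_add, adj1_sub, adj1_sub, adj1_smul, adj1_rk, adj1_rk, adj1_rk, adj1_one, E1_mulVec,
    eich_apply, Matrix.add_mulVec, Matrix.sub_mulVec, Matrix.sub_mulVec, Matrix.smul_mulVec,
    Matrix.one_mulVec, rk_mulVec, rk_mulVec, rk_mulVec, smul_smul, Φ.beta_symm x e, Φ.beta_symm x θ,
    Φ.sform.neg_right, Φ.sform.neg_left, Φ.sform.neg_right, neg_neg]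
  module

/-- The Eichler transformation, acting on the tensor power in a factor. -/
noncomputable def E (i : Fin t) (e θ : Vk) : MT := fa i (Φ.E1 e θ)

theorem E_eq (i : Fin t) (e θ : Vk) :
    Φ.E i e θ = 1 + (Φ.W i θ e - (Φ.β θ θ / 2) • Φ.P i e e) := by
  rw [E, E1, map_add, map_one, map_sub, map_sub, map_smul]
  rfl

theorem E_mul (i : Fin t) (he : Φ.β e e = 0) (h1 : Φ.β θ e = 0) (h2 : Φ.β θ' e = 0) :
    Φ.E i e θ * Φ.E i e θ' = Φ.E i e (θ + θ') := by rw [E, E, E, ← map_mul, Φ.E1_mul he h1 h2]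

theorem E_zero (i : Fin t) (e : Vk) : Φ.E i e 0 = (1 : MT) := by rw [E, E1_zero, map_one]

theorem adj_E (i : Fin t) (e θ : Vk) : Φ.adj (Φ.E i e θ) = Φ.E i e (-θ) := by
  rw [E, E, adj_fa, adj1_E1]

theorem E_mul_neg (i : Fin t) (he : Φ.β e e = 0) (h1 : Φ.β θ e = 0) :
    Φ.E i e θ * Φ.E i e (-θ) = 1 := by
  rw [Φ.E_mul i he h1 (by rw [Φ.sform.neg_left, h1, neg_zero]), add_neg_cancel, E_zero]

theorem cm_E {i j : Fin t} (h : j ≠ i) (e θ : Vk) : Cm i (Φ.E j e θ) := cm_fa h _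

/-- The half turn about a vector. -/
def T1 (a : Vk) : Mm := (2 / Φ.β a a) • Φ.rk a a - 1

theorem T1_mulVec (a x : Vk) : Φ.T1 a *ᵥ x = (2 / Φ.β a a * Φ.β a x) • a - x := by
  rw [T1, Matrix.sub_mulVec, Matrix.smul_mulVec, rk_mulVec, smul_smul, Matrix.one_mulVec]

theorem adj1_T1 (a : Vk) : Φ.adj1 (Φ.T1 a) = Φ.T1 a := by
  rw [T1, adj1_sub, adj1_smul, adj1_rk, adj1_one]

theorem T1_self {a : Vk} (ha : Φ.β a a ≠ 0) : Φ.T1 a *ᵥ a = a := by
  rw [T1_mulVec, div_mul_cancel₀ _ ha, two_smul, add_sub_cancel_right]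

theorem T1_perp {a x : Vk} (hx : Φ.β x a = 0) : Φ.T1 a *ᵥ x = -x := by
  rw [T1_mulVec, Φ.beta_symm x a, hx, mul_zero, zero_smul, zero_sub]

theorem T1_mul_self {a : Vk} (ha : Φ.β a a ≠ 0) : Φ.T1 a * Φ.T1 a = 1 := ext1 fun x => by
  rw [← Matrix.mulVec_mulVec, Φ.T1_mulVec a x, Matrix.mulVec_sub, Matrix.mulVec_smul, Φ.T1_self ha,
    T1_mulVec, sub_sub_cancel, Matrix.one_mulVec]

/-- The half turn, acting on the tensor power in a factor. -/
noncomputable def Tn (i : Fin t) (a : Vk) : MT := fa i (Φ.T1 a)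

theorem Tn_mul_self (i : Fin t) {a : Vk} (ha : Φ.β a a ≠ 0) : Φ.Tn i a * Φ.Tn i a = (1 : MT) := by
  rw [Tn, ← map_mul, Φ.T1_mul_self ha, map_one]

theorem adj_Tn (i : Fin t) (a : Vk) : Φ.adj (Φ.Tn i a) = (Φ.Tn i a : MT) := by
  rw [Tn, adj_fa, adj1_T1]

theorem cm_Tn {i j : Fin t} (h : j ≠ i) (a : Vk) : Cm i (Φ.Tn j a : MT) := cm_fa h _

/-- A rank one operator under conjugation in its factor. -/
theorem conj_P (i : Fin t) (A B : Mm) (x y : Vk) :
    fa i A * Φ.P i x y * fa i B = Φ.P i (A *ᵥ x) (Φ.adj1 B *ᵥ y) := by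
  rw [fa_mul_P, P_mul_fa]

theorem conj_W_Tn (i : Fin t) (a x y : Vk) :
    Φ.Tn i a * Φ.W i x y * Φ.Tn i a = Φ.W i (Φ.T1 a *ᵥ x) (Φ.T1 a *ᵥ y) := by
  rw [W, W, mul_sub, sub_mul, Tn, conj_P, conj_P, adj1_T1]

theorem P_neg_left (i : Fin t) (x y : Vk) : Φ.P i (-x) y = -Φ.P i x y := by
  rw [← neg_one_smul F x, P_smul_left, neg_one_smul]

theorem P_neg_right (i : Fin t) (x y : Vk) : Φ.P i x (-y) = -Φ.P i x y := by
  rw [← neg_one_smul F y, P_smul_right, neg_one_smul]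

theorem W_neg_left (i : Fin t) (x y : Vk) : Φ.W i (-x) y = -Φ.W i x y := by
  rw [W, W, P_neg_left, P_neg_right]; abel

theorem W_neg_right (i : Fin t) (x y : Vk) : Φ.W i x (-y) = -Φ.W i x y := by
  rw [W, W, P_neg_left, P_neg_right]; abel

/-- The vectors about which half turns are available. -/
def Cls (c₀ : F) (a : Vk) : Prop := Φ.β a a ≠ 0 ∧ (Even k ∨ IsSquare (Φ.β a a * c₀))

/-- A subgroup of the isometries of a tensor power containing the available generators of its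
stabiliser. -/
structure Ov (c₀ : F) (G : Subgroup (GL (Fin t → Fin k) F)) : Prop where
  c₀_ne : c₀ ≠ 0
  hk : 3 ≤ k
  hq : k = 3 → Nat.card F ≠ 3
  minus : k = 4 → ∀ U : Submodule F Vk, (∀ x ∈ U, Φ.β x x = 0) → finrank F U ≤ 1
  iso : ∀ g ∈ G, Φ.Iso g
  eu : ∀ i e θ, Φ.β e e = 0 → Φ.β θ e = 0 →
    ∃ g ∈ G, (g : MT) = Φ.E i e θ
  turn : Odd k ∨ 3 ≤ t → ∀ i a, Φ.Cls c₀ a → ∃ g ∈ G, (g : MT) = Φ.Tn i a
  pair : Even k → ∀ i a b, Φ.β a a ≠ 0 → Φ.β b b ≠ 0 →
    ∃ g ∈ G, (g : MT) = Φ.Tn i a * Φ.Tn i b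
  perm : ∀ σ : Equiv.Perm (Fin t), Equiv.Perm.sign σ = 1 → permGL k F σ ∈ G

section gen

variable [Finite F]

theorem finrank_vk : finrank F Vk = k := Module.finrank_fin_fun F

theorem exists_orth_aniso (hk : 3 ≤ k) {e : Vk} (he0 : e ≠ 0) (he : Φ.β e e = 0) :
    ∃ e' a, Φ.β e' e' = 0 ∧ Φ.β e e' = 1 ∧ a ∈ pairPerp Φ.sform e e' ∧ Φ.β a a ≠ 0 := by
  obtain ⟨e', he', h⟩ := exists_pair Φ.sform he0 he
  obtain ⟨a, ha, haa⟩ := exists_aniso_pairPerp Φ.sform (by rw [finrank_vk]; exact hk) he he' h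
  exact ⟨e', a, he', h, ha, haa⟩

/-- The Eichler transformations of a factor generate its algebra. -/
theorem E1_top (hk : 3 ≤ k) (A : Subalgebra F Mm)
    (hA : ∀ e θ, Φ.β e e = 0 → Φ.β θ e = 0 → Φ.E1 e θ ∈ A) (X : Mm) : X ∈ A := by
  have hneg : ∀ {e θ : Vk}, Φ.β θ e = 0 → Φ.β (-θ) e = 0 := fun h => by
    rw [Φ.sform.neg_left, h, neg_zero]
  have hsum : ∀ e θ, Φ.β e e = 0 → Φ.β θ e = 0 → Φ.β θ θ • Φ.rk e e ∈ A := fun e θ he hθ => by
    have h := A.sub_mem (A.sub_mem (A.add_mem A.one_mem A.one_mem) (hA e θ he hθ))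
      (hA e (-θ) he (hneg hθ))
    convert h using 1
    refine ext1 fun x => ?_
    simp only [Matrix.sub_mulVec, Matrix.add_mulVec, Matrix.smul_mulVec, Matrix.one_mulVec,
      rk_mulVec, E1_mulVec, eich_apply, Φ.sform.neg_left, Φ.sform.neg_right, neg_neg, smul_smul,
      Φ.beta_symm x e]
    have := Φ.two
    match_scalars <;> field_simp <;> ring
  have hee : ∀ e, Φ.β e e = 0 → Φ.rk e e ∈ A := fun e he => by
    rcases eq_or_ne e 0 with rfl | he0
    · simp [rk]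
    obtain ⟨e', a, -, -, ha, haa⟩ := Φ.exists_orth_aniso hk he0 he
    have h := A.smul_mem (hsum e a he ((mem_pairPerp Φ.sform).1 ha).1) (Φ.β a a)⁻¹
    rwa [inv_smul_smul₀ haa] at h
  have hW : ∀ e θ, Φ.β e e = 0 → Φ.β θ e = 0 → Φ.rk θ e - Φ.rk e θ ∈ A := fun e θ he hθ => by
    have h := A.add_mem (A.sub_mem (hA e θ he hθ) A.one_mem) (A.smul_mem (hee e he) (Φ.β θ θ / 2))
    convert h using 1
    rw [E1, add_sub_cancel_left, sub_add_cancel]
  have hcol : ∀ x e', Φ.β e' e' = 0 → Φ.rk x e' ∈ A := fun x e' he' => by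
    rcases eq_or_ne e' 0 with rfl | he0
    · simp [rk]
    obtain ⟨e, he, h⟩ := exists_pair Φ.sform he0 he'
    have h' : Φ.β e e' = 1 := by rw [Φ.beta_symm e' e, h]
    have hb : ∀ θ, Φ.β θ e = 0 → Φ.rk θ e' ∈ A := fun θ hθ => by
      have h1 := A.mul_mem (hW e θ he hθ) (hee e' he')
      rw [sub_mul, rk_mul_rk, rk_mul_rk, h', one_smul] at h1
      rcases eq_or_ne (Φ.β θ e') 0 with h0 | h0
      · rwa [h0, zero_smul, sub_zero] at h1
      · have h2 := A.add_mem h1 (A.smul_mem (A.mul_mem (hee e he) (hee e' he')) (Φ.β θ e'))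
        rwa [rk_mul_rk, h', one_smul, sub_add_cancel] at h2
    obtain ⟨a, b, l, hl, rfl⟩ := split_pair Φ.sform he he' h' x
    have e1 : Φ.rk (a • e + b • e' + l) e' =
        a • Φ.rk e e' + b • Φ.rk e' e' + Φ.rk l e' := by
      simp [rk, add_vecMulVec, smul_vecMulVec]
    rw [e1]
    exact A.add_mem (A.add_mem (A.smul_mem (hb e he) a) (A.smul_mem (hee e' he') b))
      (hb l ((mem_pairPerp Φ.sform).1 hl).1)
  have hall : ∀ x y, Φ.rk x y ∈ A := fun x y => by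
    refine singular_span Φ.sform (by rw [finrank_vk]; exact hk)
      { carrier := {z | Φ.rk x z ∈ A}
        zero_mem' := by simp [rk]
        add_mem' := fun {a b} ha hb => by
          have := A.add_mem ha hb
          simpa [rk, Matrix.mulVec_add, vecMulVec_add] using this
        smul_mem' := fun c a ha => by
          have := A.smul_mem ha c
          simpa [rk, Matrix.mulVec_smul, vecMulVec_smul] using this }
      (fun z _ hz => hcol x z hz) y
  rw [Matrix.matrix_eq_sum_single X]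
  refine A.sum_mem fun r _ => A.sum_mem fun s _ => ?_
  have h := A.smul_mem (hall (Pi.single r 1) (Φ.S⁻¹ *ᵥ Pi.single s 1)) (X r s)
  rw [rk, Matrix.mulVec_mulVec, Matrix.mul_nonsing_inv _ Φ.det, Matrix.one_mulVec,
    ← single_eq_single_vecMulVec_single] at h
  simpa using h

/-- Commuting with the Eichler transformations of a factor. -/
theorem cm_of_comm_E (hk : 3 ≤ k) {i : Fin t} {Y : MT}
    (h : ∀ e θ, Φ.β e e = 0 → Φ.β θ e = 0 → Commute Y (Φ.E i e θ)) : Cm i Y := fun A => by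
  have hc := Φ.E1_top hk ((Subalgebra.centralizer F {Y}).comap (fa i)) (fun e θ he hθ => ?_) A
  · exact (Subalgebra.mem_centralizer_iff F).1 hc Y rfl
  · refine (Subalgebra.mem_centralizer_iff F).2 fun Z hZ => ?_
    rw [Set.mem_singleton_iff.1 hZ]
    exact (h e θ he hθ).eq

/-- A subspace invariant under the Eichler transformations of a factor. -/
theorem invariant_of_E (hk : 3 ≤ k) {i : Fin t} (K : Submodule F ((Fin t → Fin k) → F))
    (h : ∀ e θ, Φ.β e e = 0 → Φ.β θ e = 0 → ∀ v ∈ K, Φ.E i e θ *ᵥ v ∈ K) (A : Mm)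
    {v : (Fin t → Fin k) → F} (hv : v ∈ K) : (fa i A : MT) *ᵥ v ∈ K :=
  Φ.E1_top hk
    { carrier := {X | ∀ w ∈ K, (fa i X : MT) *ᵥ w ∈ K}
      mul_mem' := fun {X Y} hX hY w hw => by
        rw [map_mul, ← Matrix.mulVec_mulVec]
        exact hX _ (hY w hw)
      one_mem' := fun w hw => by rwa [map_one, Matrix.one_mulVec]
      add_mem' := fun {X Y} hX hY w hw => by
        rw [map_add, Matrix.add_mulVec]
        exact K.add_mem (hX w hw) (hY w hw)
      zero_mem' := fun w _ => by simp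
      algebraMap_mem' := fun c w hw => by
        rw [AlgHom.commutes, Algebra.algebraMap_eq_smul_one, Matrix.smul_mulVec, Matrix.one_mulVec]
        exact K.smul_mem c hw }
    (fun e θ he hθ => h e θ he hθ) A v hv

end gen

end OForm

end CfsgLib.MaxSub.TensorPowOrth
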