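import Cfsg.Agent.Lib.MaxSub.TensorPowOrth.ShapePure
import Mathlib.Dynamics.PeriodicPts.Defs

/-!
A conjugate of an Eichler transformation of a factor that lies in the wreath group lives in one
factor.
-/

set_option autoImplicit false
set_option maxHeartbeats 800000
set_option linter.unusedSectionVars false
set_option linter.style.haveILetI false

namespace CfsgLib.MaxSub.TensorPowOrth

open Matrix Module
open CfsgLib.Aschbacher CfsgLib.MaxSub.TensorPow

variable {F : Type*} [Field F] {k t : ℕ}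

local notation "Vk" => Fin k → F
local notation "Mm" => Matrix (Fin k) (Fin k) F
local notation "MT" => Matrix (Fin t → Fin k) (Fin t → Fin k) F

theorem rank_add_le' {ι : Type} [Fintype ι] [DecidableEq ι] (A B : Matrix ι ι F) :
    (A + B).rank ≤ A.rank + B.rank := by
  refine le_trans (Submodule.finrank_mono ?_) (Submodule.finrank_add_le_finrank_add_finrank _ _)
  rintro _ ⟨x, rfl⟩
  rw [Matrix.mulVecLin_apply, Matrix.add_mulVec]
  exact Submodule.add_mem_sup ⟨x, rfl⟩ ⟨x, rfl⟩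

theorem perm_pow_eq_one [NeZero k] (hk : 2 ≤ k) {A : Fin t → GL (Fin k) F} {σ : Equiv.Perm (Fin t)} {n : ℕ}
    (h : (pureGL A * permGL k F σ) ^ n = 1) :
    σ ^ n = 1 ∧ ∀ a, σ a = a → ∃ c : F, ((A a ^ n : GL (Fin k) F) : Mm) = c • 1 := by
  obtain ⟨B, hB, hBa⟩ := pow_wr A σ n
  rw [h, show (1 : GL (Fin t → Fin k) F) = pureGL 1 * permGL k F 1 by
    rw [pureGL_one, permGL_one, one_mul]] at hB
  have hs := (perm_unique hk hB).symm
  refine ⟨hs, fun a ha => ?_⟩
  rw [hs] at hB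
  obtain ⟨c, hc⟩ := pure_unique (mul_right_cancel hB.symm) a
  exact ⟨c, by rw [← hBa a ha]; simpa using hc⟩

theorem exists_eigvec [Finite F] [NeZero k] (p : ℕ) [hp : Fact p.Prime] [CharP F p] (A : GL (Fin k) F)
    {c : F} (h : ((A ^ p : GL (Fin k) F) : Mm) = c • 1) :
    ∃ y : Vk, y ≠ 0 ∧ ∃ μ : F, μ ≠ 0 ∧ (A : Mm) *ᵥ y = μ • y := by
  obtain ⟨μ, hμ⟩ := (Finite.injective_iff_surjective.mp (frobenius_inj F p)) c
  rw [frobenius_def] at hμ
  by_contra hcon
  push Not at hcon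
  haveI : CharP Mm p := charP_of_injective_algebraMap' F p
  have hnil : IsNilpotent ((A : Mm) - μ • 1) := by
    refine ⟨p, ?_⟩
    rw [sub_pow_char_of_commute p ((Commute.one_right _).smul_right _), smul_pow, one_pow, hμ,
      ← Units.val_pow_eq_pow_val, h, sub_self]
  have h1 := nilp_eq_zero hnil Set.univ (fun _ _ => Set.mem_univ _) (fun v _ hv => ?_)
    (Set.mem_univ (Pi.single (⟨0, NeZero.pos k⟩ : Fin k) (1 : F)))
  · simp at h1
  · by_contra hv0
    rw [Matrix.sub_mulVec, Matrix.smul_mulVec, Matrix.one_mulVec, sub_eq_zero] at hv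
    refine hcon v hv0 μ (fun h0 => ?_) hv
    rw [h0, zero_smul] at hv
    refine hv0 ?_
    have := congrArg (((A⁻¹ : GL (Fin k) F) : Mm) *ᵥ ·) hv
    simpa [Matrix.mulVec_mulVec] using this

/-- In a quadratic one-parameter group every element of the wreath group fixes all factors. -/
theorem perm_trivial_family [Finite F] (p : ℕ) [hp : Fact p.Prime] [CharP F p] (hk : 2 ≤ k)
    (h2 : (2 : F) ≠ 0) (hq : Nat.card F ≠ 3) (w : F → GL (Fin t → Fin k) F)
    (hadd : ∀ c d, w (c + d) = w c * w d) (hwp : ∀ c, w c ^ p = 1) (hwr : ∀ c, IsWr (w c))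
    (hquad : ∃ X Y : MT, ∀ c, (w c : MT) = 1 + c • X + c ^ 2 • Y) :
    ∀ c, ∃ A, w c = pureGL A := by
  haveI : NeZero k := ⟨by omega⟩
  choose A σ hA using hwr
  have hw0 : w 0 = 1 := by
    have := hadd 0 0
    rw [add_zero] at this
    exact left_eq_mul.1 this
  have hσadd : ∀ c d, σ (c + d) = σ c * σ d := fun c d => by
    refine perm_unique (A := A (c + d)) (B := A c * (A d ∘ (σ c).symm)) hk ?_
    rw [← hA, hadd, hA c, hA d, wr_mul]
  have hσ0 : σ 0 = 1 := perm_unique (A := A 0) (B := 1) hk (by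
    rw [← hA, hw0, pureGL_one, permGL_one, one_mul])
  obtain ⟨X, Y, hXY⟩ := hquad
  intro d
  by_contra hd
  have hσd : σ d ≠ 1 := fun h => hd ⟨A d, by rw [hA d, h, permGL_one, mul_one]⟩
  obtain ⟨a, ha⟩ : ∃ a, σ d a ≠ a := by
    by_contra hc
    push Not at hc
    exact hσd (Equiv.ext hc)
  by_cases hfix : ∃ c, c ≠ 0 ∧ σ c a = a
  · obtain ⟨c, hc0, hca⟩ := hfix
    obtain ⟨s, hs⟩ := (perm_pow_eq_one hk (by rw [← hA, hwp])).2 a hca
    obtain ⟨y, hy, μ, hμ0, hμ⟩ := exists_eigvec p (A c a) hs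
    have hneg : w (-c) = pureGL ((A c)⁻¹ ∘ (σ c)⁻¹.symm) * permGL k F (σ c)⁻¹ := by
      rw [← perm_pure, ← pureGL_inv, ← permGL_inv, ← _root_.mul_inv_rev, ← hA,
        ← mul_eq_one_iff_eq_inv, ← hadd, neg_add_cancel, hw0]
    have hca' : (σ c)⁻¹ a = a := Equiv.Perm.inv_eq_iff_eq.2 hca.symm
    have hμ' : (((A c)⁻¹ ∘ (σ c)⁻¹.symm) a : Mm) *ᵥ y = μ⁻¹ • y := by
      show (((A c ((σ c) a))⁻¹ : GL (Fin k) F) : Mm) *ᵥ y = μ⁻¹ • y
      rw [hca]
      have := congrArg (((A c a)⁻¹ : GL (Fin k) F).val *ᵥ ·) hμ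
      simp only [Matrix.mulVec_mulVec, Units.inv_mul, Matrix.one_mulVec, Matrix.mulVec_smul] at this
      conv_rhs => rw [this, smul_smul, inv_mul_cancel₀ hμ0, one_smul]
    refine sandwich_ne hk (A c) ((A c)⁻¹ ∘ (σ c)⁻¹.symm) (A d) (σ c) (σ c)⁻¹ (σ d) a hca hca' ha hy
      ⟨μ, hμ⟩ ⟨μ⁻¹, hμ'⟩ (1 - d ^ 2 / c ^ 2) (d / (2 * c) + d ^ 2 / (2 * c ^ 2))
      (-(d / (2 * c)) + d ^ 2 / (2 * c ^ 2)) ?_
    rw [← hA, ← hA, ← hneg, hXY, hXY, hXY]
    match_scalars <;> field_simp <;> ring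
  · push Not at hfix
    obtain ⟨e, he0, he⟩ := OForm.exists_scalar hq h2
    have h1e : e ≠ 1 := fun h => he (by rw [h, one_pow])
    have hme : e ≠ -1 := fun h => he (by rw [h]; ring)
    let cs : Fin 4 → F := ![0, 1, -1, e]
    have hcs : Function.Injective cs := by
      have h12 : (1 : F) ≠ -1 := fun h => h2 (by linear_combination h)
      intro i j hij
      fin_cases i <;> fin_cases j <;> simp [cs] at hij ⊢
      all_goals first
        | exact he0 hij | exact he0 hij.symm | exact h1e hij | exact h1e hij.symm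
        | exact hme hij | exact hme hij.symm | exact h12 hij | exact h12 hij.symm
    refine four_indep hk (fun n => A (cs n)) (fun n => σ (cs n)) a ?_
      (1 - e ^ 2) (e / 2 + e ^ 2 / 2) (-(e / 2) + e ^ 2 / 2) ?_
    · intro i j hij
      refine hcs ?_
      by_contra hne
      refine hfix (cs i - cs j) (sub_ne_zero.2 hne) ((σ (cs j)).injective ?_)
      have hij' : σ (cs i) a = σ (cs j) a := hij
      rw [← Equiv.Perm.mul_apply, ← hσadd, add_sub_cancel, hij']
    · rw [← hA, ← hA, ← hA, ← hA]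
      simp only [cs, Matrix.cons_val_zero, Matrix.cons_val_one, Matrix.cons_val]
      rw [hw0, hXY e, hXY 1, hXY (-1), Units.val_one]
      match_scalars <;> field_simp <;> ring

namespace OForm

variable (Φ : OForm F k)

/-- The square of the displacement of an Eichler transformation. -/
theorem E1_sub_one {e θ : Vk} (he : Φ.β e e = 0) (h1 : Φ.β θ e = 0) :
    (Φ.E1 e θ - 1) * (Φ.E1 e θ - 1) = (-Φ.β θ θ) • Φ.rk e e ∧
      (Φ.E1 e θ - 1) * (Φ.E1 e θ - 1) * (Φ.E1 e θ - 1) = 0 := by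
  have h1' : Φ.β e θ = 0 := Φ.sform.symm0 h1
  have e2 : (Φ.E1 e θ - 1) * (Φ.E1 e θ - 1) = (-Φ.β θ θ) • Φ.rk e e := by
    rw [E1, add_sub_cancel_left]
    simp only [sub_mul, mul_sub, Matrix.smul_mul, Matrix.mul_smul, rk_mul_rk, he, h1, h1', zero_smul,
      smul_zero, sub_zero, zero_sub, neg_smul]
  refine ⟨e2, ?_⟩
  rw [e2, E1, add_sub_cancel_left]
  simp only [mul_sub, Matrix.smul_mul, Matrix.mul_smul, rk_mul_rk, he, h1', zero_smul, smul_zero,
    sub_zero]

theorem rank_fa_rk_le (i : Fin t) (x y : Vk) : (fa i (Φ.rk x y) : MT).rank ≤ k ^ (t - 1) := by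
  by_cases h : x = 0 ∨ Φ.S *ᵥ y = 0
  · have : Φ.rk x y = 0 := by rcases h with h | h <;> simp [rk, h]
    rw [this, map_zero, Matrix.rank_zero]
    exact Nat.zero_le _
  · push Not at h
    exact (rank_fa_vecMulVec i h.1 h.2).le

theorem rank_E_sub_one_le (i : Fin t) (e θ : Vk) :
    (Φ.E i e θ - 1 : MT).rank ≤ 2 * k ^ (t - 1) := by
  have h : Φ.E1 e θ - 1 = Φ.rk θ e + Φ.rk e (-θ - (Φ.β θ θ / 2) • e) := by
    rw [E1, add_sub_cancel_left]
    simp only [rk, Matrix.mulVec_sub, Matrix.mulVec_neg, Matrix.mulVec_smul, vecMulVec_sub,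
      vecMulVec_neg, vecMulVec_smul]
    abel
  rw [E, ← map_one (fa i), ← map_sub, h, map_add]
  refine (rank_add_le' _ _).trans ?_
  have h1 := Φ.rank_fa_rk_le i θ e
  have h2 := Φ.rank_fa_rk_le i e (-θ - (Φ.β θ θ / 2) • e)
  omega

/-- A conjugate of an Eichler transformation of a factor that is a pure tensor times a permutation
lives in one factor. -/
theorem conj_single_factor [Finite F] (hk : 3 ≤ k) (hq : k = 3 → Nat.card F ≠ 3)
    (hminus : k = 4 → ∀ U : Submodule F Vk, (∀ x ∈ U, Φ.β x x = 0) → finrank F U ≤ 1)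
    {g : GL (Fin t → Fin k) F} (hg : Φ.Sim g) {i : Fin t} {e θ : Vk} (he0 : e ≠ 0)
    (hee : Φ.β e e = 0) (hθe : Φ.β θ e = 0) (hθ : Φ.β θ θ ≠ 0) {u : F → GL (Fin t → Fin k) F}
    (hu : ∀ c, (u c : MT) = Φ.E i e (c • θ)) (h1 : IsWr (g⁻¹ * u 1 * g))
    (h3 : k = 3 → ∀ c, IsWr (g⁻¹ * u c * g)) :
    ∃ (j : Fin t) (A : Mm), ((g⁻¹ * u 1 * g : GL (Fin t → Fin k) F) : MT) = fa j A := by
  classical
  haveI : NeZero k := ⟨by omega⟩
  obtain ⟨p, hpc⟩ := CharP.exists F
  haveI := hpc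
  haveI hp : Fact p.Prime := ⟨CharP.char_is_prime F p⟩
  have hp2 : p ≠ 2 := fun h => Φ.two (by subst h; exact_mod_cast CharP.cast_eq_zero F 2)
  let w : F → GL (Fin t → Fin k) F := fun c => g⁻¹ * u c * g
  have horth : ∀ c : F, Φ.β (c • θ) e = 0 := fun c => by rw [Φ.sform.smul_left, hθe, mul_zero]
  have huadd : ∀ c d, u (c + d) = u c * u d := fun c d => Units.ext (by
    rw [Units.val_mul, hu, hu, hu, Φ.E_mul i hee (horth c) (horth d), add_smul])
  have hu0 : u 0 = 1 := Units.ext (by rw [hu, zero_smul, E_zero, Units.val_one])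
  have hun : ∀ (n : ℕ) c, u (n * c) = u c ^ n := fun n c => by
    induction n with
    | zero => simp [hu0]
    | succ n ih => rw [Nat.cast_succ, add_mul, one_mul, huadd, ih, pow_succ]
  have hup : ∀ c, u c ^ p = 1 := fun c => by rw [← hun, CharP.cast_eq_zero, zero_mul, hu0]
  have hwadd : ∀ c d, w (c + d) = w c * w d := fun c d => by
    simp only [w, huadd, mul_assoc, mul_inv_cancel_left]
  have hwp : ∀ c, w c ^ p = 1 := fun c => by
    have h := conj_pow (a := g⁻¹) (b := u c) (i := p)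
    rw [inv_inv, hup, mul_one, inv_mul_cancel] at h
    exact h
  have hiso : Φ.Iso (w 1) := by
    obtain ⟨μ, hμ, hgμ⟩ := hg
    have ha : Φ.adj (g : MT) = μ • ((g⁻¹ : GL (Fin t → Fin k) F) : MT) := by
      have := congrArg (fun Z => Z * ((g⁻¹ : GL (Fin t → Fin k) F) : MT)) hgμ
      simpa [mul_assoc, Matrix.smul_mul] using this
    have hainv : Φ.adj ((g⁻¹ : GL (Fin t → Fin k) F) : MT) = μ⁻¹ • (g : MT) := by
      have := congrArg Φ.adj ha
      rw [adj_adj, adj_smul] at this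
      rw [this, smul_smul, inv_mul_cancel₀ hμ, one_smul]
    have hu1 : Φ.adj (u 1 : MT) * (u 1 : MT) = 1 := by
      rw [hu, adj_E, Φ.E_mul i hee (by rw [Φ.sform.neg_left, horth, neg_zero]) (horth 1),
        neg_add_cancel, E_zero]
    show Φ.adj _ * _ = 1
    simp only [w, Units.val_mul, adj_mul, ha, hainv, Matrix.smul_mul, Matrix.mul_smul, smul_smul,
      mul_assoc, Units.mul_inv_cancel_left]
    rw [← mul_assoc (Φ.adj (u 1 : MT)), hu1, one_mul, Units.inv_mul]
    rw [inv_mul_cancel₀ hμ, one_smul]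
  have hconj : ∀ c, (w c : MT) - 1 =
      ((g⁻¹ : GL (Fin t → Fin k) F) : MT) * ((u c : MT) - 1) * (g : MT) := fun c => by
    simp [w, mul_sub, sub_mul, mul_assoc]
  have hE2 : ((u 1 : MT) - 1) * ((u 1 : MT) - 1) = fa i ((-Φ.β θ θ) • Φ.rk e e) ∧
      ((u 1 : MT) - 1) * ((u 1 : MT) - 1) * ((u 1 : MT) - 1) = 0 := by
    obtain ⟨e2, e3⟩ := Φ.E1_sub_one hee hθe
    rw [hu, one_smul, E, ← map_one (fa i), ← map_sub, ← map_mul, ← map_mul, e3, e2, map_zero]
    exact ⟨rfl, rfl⟩
  have hw3 : ((w 1 : MT) - 1) * ((w 1 : MT) - 1) * ((w 1 : MT) - 1) = 0 := by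
    rw [hconj]
    simp only [mul_assoc, Units.mul_inv_cancel_left]
    have h := hE2.2
    simp only [mul_assoc] at h
    rw [← mul_assoc ((u 1 : MT) - 1) ((u 1 : MT) - 1), ← mul_assoc _ ((u 1 : MT) - 1) (g : MT),
      mul_assoc ((u 1 : MT) - 1), h]
    simp
  have hrank : ((w 1 : MT) - 1).rank ≤ 2 * k ^ (t - 1) := by
    rw [hconj]
    have := rank_conj' g⁻¹ ((u 1 : MT) - 1)
    rw [inv_inv] at this
    rw [this, hu]
    exact Φ.rank_E_sub_one_le i _ _
  by_cases hk3 : k = 3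
  · subst hk3
    have hquad : ∃ X Y : Matrix (Fin t → Fin 3) (Fin t → Fin 3) F, ∀ c, (w c : Matrix (Fin t → Fin 3) (Fin t → Fin 3) F) = 1 + c • X + c ^ 2 • Y := by
      refine ⟨((g⁻¹ : GL (Fin t → Fin 3) F) : Matrix (Fin t → Fin 3) (Fin t → Fin 3) F) * Φ.W i θ e * (g : Matrix (Fin t → Fin 3) (Fin t → Fin 3) F),
        -(Φ.β θ θ / 2) • (((g⁻¹ : GL (Fin t → Fin 3) F) : Matrix (Fin t → Fin 3) (Fin t → Fin 3) F) * Φ.P i e e * (g : Matrix (Fin t → Fin 3) (Fin t → Fin 3) F)), fun c => ?_⟩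
      simp only [w, Units.val_mul, hu, E_eq, W, P_smul_left, P_smul_right, Φ.sform.smul_left,
        Φ.sform.smul_right]
      simp only [← smul_sub, mul_add, add_mul, mul_sub, sub_mul, mul_one, Units.inv_mul,
        Matrix.mul_smul, Matrix.smul_mul]
      match_scalars <;> ring
    have hpure := perm_trivial_family p (by omega) Φ.two (hq rfl) w hwadd hwp (h3 rfl) hquad
    exact OForm.pure_single_family p (hq rfl) i w hwadd hwp hpure hquad hiso
  have hk4 : 4 ≤ k := by omega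
  obtain ⟨A, σ, hA⟩ := h1
  change w 1 = pureGL A * permGL k F σ at hA
  have hσp := (perm_pow_eq_one (by omega) (by rw [← hA, hwp] : (pureGL A * permGL k F σ) ^ p = 1)).1
  have hσ : σ = 1 := by
    by_contra hne
    obtain ⟨a, ha⟩ : ∃ a, σ a ≠ a := by
      by_contra hc
      push Not at hc
      exact hne (Equiv.ext hc)
    by_cases hp3 : p = 3
    · subst hp3
      have hlt := lt_rank_three hk4 A σ (by rw [← hA, hwp]) ha
      rw [← hA] at hlt
      have hsq : 1 + (w 1 : MT) + (w 1 : MT) * (w 1 : MT) = ((w 1 : MT) - 1) * ((w 1 : MT) - 1) := by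
        have h30 : (3 : F) = 0 := by exact_mod_cast CharP.cast_eq_zero F 3
        simp only [sub_mul, mul_sub, mul_one, one_mul]
        ext r s
        simp only [Matrix.add_apply, Matrix.sub_apply]
        linear_combination ((w 1 : MT) r s) * h30
      have hle : (((w 1 : MT) - 1) * ((w 1 : MT) - 1)).rank ≤ k ^ (t - 1) := by
        have e2 : ((w 1 : MT) - 1) * ((w 1 : MT) - 1) = ((g⁻¹ : GL (Fin t → Fin k) F) : MT) *
            (((u 1 : MT) - 1) * ((u 1 : MT) - 1)) * (g : MT) := by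
          rw [hconj]
          simp only [mul_assoc, Units.mul_inv_cancel_left]
        have hr := rank_conj' g⁻¹ (((u 1 : MT) - 1) * ((u 1 : MT) - 1))
        rw [inv_inv] at hr
        rw [e2, hr, hE2.1, show (-Φ.β θ θ) • Φ.rk e e = Φ.rk ((-Φ.β θ θ) • e) e by
          simp [rk, smul_vecMulVec]]
        exact Φ.rank_fa_rk_le i _ _
      rw [hsq] at hlt
      omega
    · have hp5 : 3 < p := by
        have := hp.out.two_le
        omega
      choose B hB hBa using fun n : ℕ => pow_wr A σ n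
      refine four_indep (by omega : 2 ≤ k) (fun n => B n.val) (fun n => σ ^ n.val) a ?_ 1 (-3) 3 ?_
      · have key : ∀ n m : ℕ, n < m → m < 4 → (σ ^ n) a ≠ (σ ^ m) a := by
          intro n m hnm hm4 h
          refine ha ?_
          obtain ⟨r, rfl⟩ := Nat.exists_eq_add_of_lt hnm
          rw [show n + r + 1 = n + (r + 1) by omega, pow_add, Equiv.Perm.mul_apply] at h
          have h' : (σ ^ (r + 1)) a = a := ((σ ^ n).injective h).symm
          have h1 : Function.IsPeriodicPt (σ : Fin t → Fin t) (r + 1) a := by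
            show (σ : Fin t → Fin t)^[r + 1] a = a
            rw [← Equiv.Perm.coe_pow]
            exact h'
          have h2 : Function.IsPeriodicPt (σ : Fin t → Fin t) p a := by
            show (σ : Fin t → Fin t)^[p] a = a
            rw [← Equiv.Perm.coe_pow, hσp]
            rfl
          have h3' := h1.gcd h2
          rw [show Nat.gcd (r + 1) p = 1 from Nat.Coprime.symm ((hp.out.coprime_iff_not_dvd).2
            (fun hd => by have := Nat.le_of_dvd (by omega) hd; omega))] at h3'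
          exact h3'
        intro n m h
        rcases lt_trichotomy n.val m.val with h' | h' | h'
        · exact absurd h (key _ _ h' m.isLt)
        · exact Fin.ext h'
        · exact absurd h.symm (key _ _ h' n.isLt)
      · show ((pureGL (B 3) * permGL k F (σ ^ 3) : GL (Fin t → Fin k) F) : MT) =
          (1 : F) • ((pureGL (B 0) * permGL k F (σ ^ 0) : GL (Fin t → Fin k) F) : MT) +
          (-3 : F) • ((pureGL (B 1) * permGL k F (σ ^ 1) : GL (Fin t → Fin k) F) : MT) +
          (3 : F) • ((pureGL (B 2) * permGL k F (σ ^ 2) : GL (Fin t → Fin k) F) : MT)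
        rw [← hB, ← hB, ← hB, ← hB, ← hA, pow_zero, pow_one]
        simp only [Units.val_pow_eq_pow_val, Units.val_one, one_smul]
        rw [← sub_eq_zero, ← hw3]
        simp only [pow_succ, pow_zero, one_mul, sub_mul, mul_sub, mul_one]
        match_scalars <;> ring
  rw [hσ, permGL_one, mul_one] at hA
  obtain ⟨U, hU, hUp⟩ := exists_unipotent p (A := A) (by rw [← hA, hwp])
  rw [← hU] at hA
  rw [hA] at hrank hiso
  obtain ⟨j, Z, hZ⟩ := Φ.pure_single p hk4 hminus i hUp (fun l => Φ.iso_factor p hUp hiso l) hrank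
  exact ⟨j, Z, by rw [show g⁻¹ * u 1 * g = pureGL U from hA, hZ]⟩

end OForm

end CfsgLib.MaxSub.TensorPowOrth
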