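import Cfsg.Agent.Lib.MaxSub.TensorPowOrth.ShapeTools
import Cfsg.Agent.Lib.MaxSub.TensorPowOrth.Defs
import Cfsg.Agent.Lib.MaxSub.TensorPowOrth.Split
import Mathlib.Algebra.CharP.Lemmas
import Mathlib.LinearAlgebra.Basis.VectorSpace

/-!
Unipotent pure tensors of isometries: normalisation of the factors, and when only one factor moves.
-/

set_option autoImplicit false
set_option maxHeartbeats 800000
set_option linter.unusedSectionVars false
set_option linter.style.haveILetI false

namespace CfsgLib.MaxSub.TensorPowOrth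

open Matrix Module
open CfsgLib.Aschbacher CfsgLib.MaxSub.TensorPow

variable {F : Type*} [Field F] {k t : ℕ}

local notation "Vk" => Fin k → F
local notation "Mm" => Matrix (Fin k) (Fin k) F
local notation "MT" => Matrix (Fin t → Fin k) (Fin t → Fin k) F

theorem sub_one_pow_char {ι : Type} [Fintype ι] [DecidableEq ι] [Nonempty ι] (p : ℕ) [Fact p.Prime]
    [CharP F p] {M : Matrix ι ι F} (h : M ^ p = 1) : (M - 1) ^ p = 0 := by
  haveI : CharP (Matrix ι ι F) p := charP_of_injective_algebraMap' F p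
  rw [sub_pow_char_of_commute p (Commute.one_right _), h, one_pow, sub_self]

theorem pureGL_pow (A : Fin t → GL (Fin k) F) (n : ℕ) : pureGL A ^ n = pureGL (A ^ n) := by
  induction n with
  | zero => simp [pureGL_one]
  | succ n ih => rw [pow_succ, ih, pureGL_mul, pow_succ]

variable (p : ℕ) [hp : Fact p.Prime] [CharP F p]

theorem scalar_one [NeZero k] {U V : GL (Fin k) F} (hU : U ^ p = 1) (hV : V ^ p = 1) {s : F}
    (h : (U : Mm) = s • (V : Mm)) : U = V := by
  have e := congrArg (fun W : GL (Fin k) F => (W : Mm)) hU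
  simp only [Units.val_pow_eq_pow_val, h, smul_pow, Units.val_one] at e
  rw [← Units.val_pow_eq_pow_val, hV, Units.val_one] at e
  have e' := congrFun (congrFun e ⟨0, NeZero.pos k⟩) ⟨0, NeZero.pos k⟩
  simp only [Matrix.smul_apply, Matrix.one_apply_eq, smul_eq_mul, mul_one] at e'
  have hs : s = 1 := frobenius_inj F p (by simpa [frobenius_def] using e')
  rw [hs, one_smul] at h
  exact Units.ext h

/-- Unipotent representatives of the factors of a pure tensor. -/
theorem exists_unipotent [Finite F] [NeZero k] {A : Fin t → GL (Fin k) F} (h : pureGL A ^ p = 1) :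
    ∃ U : Fin t → GL (Fin k) F, pureGL U = pureGL A ∧ ∀ l, U l ^ p = 1 := by
  rw [pureGL_pow, ← pureGL_one] at h
  have hroot : ∀ l, ∃ μ : F, μ ≠ 0 ∧ ((A l ^ p : GL (Fin k) F) : Mm) = μ ^ p • 1 := by
    intro l
    obtain ⟨c, hc⟩ := pure_unique h l
    obtain ⟨μ, hμ⟩ := (Finite.injective_iff_surjective.mp (frobenius_inj F p)) c
    rw [frobenius_def] at hμ
    refine ⟨μ, fun h0 => ?_, by rw [hμ]; simpa using hc⟩
    rw [← hμ, h0, zero_pow hp.out.ne_zero, zero_smul] at hc
    exact (Units.ne_zero _ : ((A l ^ p : GL (Fin k) F) : Mm) ≠ 0) (by simpa using hc)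
  choose μ hμ0 hμ using hroot
  let U : Fin t → GL (Fin k) F := fun l =>
    A l * Units.map (algebraMap F Mm).toMonoidHom (Units.mk0 (μ l)⁻¹ (inv_ne_zero (hμ0 l)))
  have hval : ∀ l, (U l : Mm) = (μ l)⁻¹ • (A l : Mm) := fun l => by
    simp [U, Algebra.algebraMap_eq_smul_one]
  have hUp : ∀ l, U l ^ p = 1 := fun l => Units.ext (by
    rw [Units.val_pow_eq_pow_val, hval, smul_pow, ← Units.val_pow_eq_pow_val, hμ, smul_smul,
      inv_pow, inv_mul_cancel₀ (pow_ne_zero _ (hμ0 l)), one_smul, Units.val_one])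
  refine ⟨U, ?_, hUp⟩
  set ρ : F := ∏ l, μ l
  have hA : (pureGL A : MT) = ρ • (pureGL U : MT) := by
    show pureMat _ = ρ • pureMat _
    rw [← pureMat_smul]
    congr 1
    funext l
    rw [hval, smul_smul, mul_inv_cancel₀ (hμ0 l), one_smul]
  have e1 : pureGL U ^ p = 1 := by rw [pureGL_pow, show U ^ p = 1 from funext hUp, pureGL_one]
  have e2 : pureGL A ^ p = 1 := by rw [pureGL_pow, h, pureGL_one]
  have e := congrArg (fun W : GL (Fin t → Fin k) F => (W : MT)) e2
  simp only [Units.val_pow_eq_pow_val, hA, smul_pow, Units.val_one] at e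
  rw [← Units.val_pow_eq_pow_val, e1, Units.val_one] at e
  have e' := congrFun (congrFun e fun _ => ⟨0, NeZero.pos k⟩) fun _ => ⟨0, NeZero.pos k⟩
  simp only [Matrix.smul_apply, Matrix.one_apply_eq, smul_eq_mul, mul_one] at e'
  have hρ : ρ = 1 := frobenius_inj F p (by simpa [frobenius_def] using e')
  rw [hρ, one_smul] at hA
  exact (Units.ext hA).symm

theorem unip_unique [NeZero k] {U V : Fin t → GL (Fin k) F} (hU : ∀ l, U l ^ p = 1)
    (hV : ∀ l, V l ^ p = 1) (h : pureGL U = pureGL V) : U = V := funext fun l => by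
  obtain ⟨s, hs⟩ := pure_unique h l
  exact scalar_one p (hU l) (hV l) hs

namespace OForm

variable (Φ : OForm F k)

/-- The adjoint, on invertible matrices. -/
noncomputable def adjGL (U : GL (Fin k) F) : GL (Fin k) F where
  val := Φ.adj1 (U : Mm)
  inv := Φ.adj1 ((U⁻¹ : GL (Fin k) F) : Mm)
  val_inv := by rw [← adj1_mul, Units.inv_mul, adj1_one]
  inv_val := by rw [← adj1_mul, Units.mul_inv, adj1_one]

theorem adjGL_pow (U : GL (Fin k) F) (n : ℕ) : Φ.adjGL U ^ n = Φ.adjGL (U ^ n) := by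
  induction n with
  | zero => exact Units.ext (by simp [adjGL, adj1_one])
  | succ n ih =>
    refine Units.ext ?_
    rw [pow_succ', ih, pow_succ]
    simp [adjGL, adj1_mul]

/-- The factors of a unipotent isometry that is a pure tensor are isometries. -/
theorem iso_factor [NeZero k] {U : Fin t → GL (Fin k) F} (hU : ∀ l, U l ^ p = 1)
    (hiso : Φ.Iso (pureGL U)) (l : Fin t) : Φ.adj1 (U l : Mm) * (U l : Mm) = 1 := by
  have h : pureGL (fun l => Φ.adjGL (U l) * U l) = pureGL (1 : Fin t → GL (Fin k) F) := by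
    rw [pureGL_one]
    refine Units.ext ?_
    show pureMat (fun l => Φ.adj1 (U l : Mm) * (U l : Mm)) = 1
    rw [show (fun l => Φ.adj1 (U l : Mm) * (U l : Mm)) =
      (fun l => Φ.adj1 (U l : Mm)) * (fun l => (U l : Mm)) from rfl, ← pureMat_mul, ← Φ.adj_pureMat]
    exact hiso
  obtain ⟨s, hs⟩ := pure_unique h l
  have hW : (Φ.adjGL (U l)) ^ p = 1 := by
    rw [adjGL_pow, hU]
    exact Units.ext (by simp [adjGL, adj1_one])
  have hs' : (Φ.adjGL (U l) : Mm) = s • (((U l)⁻¹ : GL (Fin k) F) : Mm) := by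
    have := congrArg (fun Z => Z * (((U l)⁻¹ : GL (Fin k) F) : Mm)) hs
    simpa [mul_assoc] using this
  have e := scalar_one p hW (by rw [inv_pow, hU, inv_one]) hs'
  show (Φ.adjGL (U l) : Mm) * _ = 1
  rw [e, Units.inv_mul]

theorem beta_adj1 (X : Mm) (x y : Vk) : Φ.β (X *ᵥ x) y = Φ.β x (Φ.adj1 X *ᵥ y) := by
  rw [β, β, adj1, Matrix.mulVec_mulVec, mul_assoc, Matrix.mul_nonsing_inv_cancel_left _ _ Φ.det,
    ← Matrix.mulVec_mulVec, Matrix.dotProduct_mulVec x, Matrix.vecMul_transpose]

/-- There are no isometries displacing along a single line. -/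
theorem eq_one_of_line {A : Mm} (hA : Φ.adj1 A * A = 1) (hnil : IsNilpotent (A - 1)) {v : Vk}
    (hv : ∀ u, (A - 1) *ᵥ u ∈ Submodule.span F {v}) : A = 1 := by
  by_contra hne
  set N := A - 1 with hN
  have hN0 : N ≠ 0 := fun h => hne (sub_eq_zero.1 h)
  have hv0 : v ≠ 0 := by
    rintro rfl
    refine hN0 (Matrix.ext_of_mulVec_single fun i => ?_)
    have h0 : N *ᵥ Pi.single i 1 = 0 := by
      simpa [Submodule.mem_span_singleton, eq_comm] using hv (Pi.single i 1)
    rw [h0, Matrix.zero_mulVec]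
  choose c hc using fun i => Submodule.mem_span_singleton.mp (hv (Pi.single i 1))
  set z : Vk := Φ.S⁻¹ *ᵥ c
  have hNeq : N = Φ.rk v z := by
    refine Matrix.ext_of_mulVec_single fun i => ?_
    rw [rk, Matrix.vecMulVec_mulVec, ← hc i, Matrix.mulVec_mulVec, Matrix.mul_nonsing_inv _ Φ.det,
      Matrix.one_mulVec]
    ext r
    simp [mul_comm]
  have hzv : Φ.β z v = 0 := by
    by_contra h0
    obtain ⟨n, hn⟩ := hnil
    have hpow : ∀ m : ℕ, N ^ (m + 1) = Φ.β z v ^ m • N := fun m => by
      induction m with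
      | zero => simp
      | succ m ih =>
        rw [pow_succ, ih, Matrix.smul_mul, hNeq, rk_mul_rk, smul_smul, pow_succ]
    have e := hpow n
    rw [pow_succ, hn, zero_mul] at e
    exact hN0 ((smul_eq_zero.1 e.symm).resolve_left (pow_ne_zero _ h0))
  have hAeq : A = 1 + Φ.rk v z := by rw [← hNeq, hN, add_sub_cancel]
  have key : ∀ y, Φ.β v y • z + (Φ.β z y • v + (Φ.β v v * Φ.β z y) • z) = 0 := by
    intro y
    have e : Φ.rk z v + (Φ.rk v z + Φ.β v v • Φ.rk z z) = 0 := by
      rw [hAeq, adj1_add, adj1_one, adj1_rk, mul_add, add_mul, add_mul, one_mul, one_mul, mul_one,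
        rk_mul_rk] at hA
      rw [← sub_eq_zero] at hA
      rw [← hA]
      abel
    have := congrArg (fun M : Mm => M *ᵥ y) e
    simpa [Matrix.add_mulVec, Matrix.smul_mulVec, rk_mulVec, smul_smul] using this
  have hz0 : z ≠ 0 := fun h => hN0 (by rw [hNeq, h]; simp [rk])
  by_cases hdep : v ∈ Submodule.span F {z}
  · obtain ⟨a, ha⟩ := Submodule.mem_span_singleton.mp hdep
    have ha0 : a ≠ 0 := fun h => hv0 (by rw [← ha, h, zero_smul])
    have hzz : Φ.β z z = 0 := by
      rw [← ha, Φ.sform.smul_right] at hzv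
      exact (mul_eq_zero.1 hzv).resolve_left ha0
    refine hz0 (Φ.sform.nondeg z fun y => ?_)
    have e := key y
    rw [← ha, Φ.sform.smul_left, Φ.sform.smul_left, Φ.sform.smul_right, hzz, mul_zero, mul_zero,
      zero_mul, zero_smul, add_zero, smul_smul, ← add_smul] at e
    have e' := (smul_eq_zero.1 e).resolve_right hz0
    have : (2 * a) * Φ.β z y = 0 := by linear_combination e'
    exact (mul_eq_zero.1 this).resolve_left (mul_ne_zero Φ.two ha0)
  · refine hz0 (Φ.sform.nondeg z fun y => ?_)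
    by_contra h0
    refine hdep (Submodule.mem_span_singleton.2 ⟨-(Φ.β v y + Φ.β v v * Φ.β z y) / Φ.β z y, ?_⟩)
    have e := key y
    rw [add_left_comm, ← add_smul, add_eq_zero_iff_eq_neg, ← neg_smul] at e
    rw [div_eq_inv_mul, mul_smul, ← e, smul_smul, inv_mul_cancel₀ h0, one_smul]

/-- In small dimension no isometry has a displacement of square zero. -/
theorem eq_one_of_sq (hsmall : k = 3 ∨ (k = 4 ∧ ∀ U : Submodule F Vk, (∀ x ∈ U, Φ.β x x = 0) →
    finrank F U ≤ 1)) {A : Mm} (hA : Φ.adj1 A * A = 1) (h2 : (A - 1) * (A - 1) = 0) : A = 1 := by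
  have hnil : IsNilpotent (A - 1) := ⟨2, by rw [pow_two, h2]⟩
  rcases hsmall with rfl | ⟨-, hU⟩
  · obtain ⟨e, -, -, he⟩ := exists_centre h2
    exact Φ.eq_one_of_line hA hnil he
  set N := A - 1 with hN
  have hadj : Φ.adj1 A = 1 - N := by
    calc Φ.adj1 A = Φ.adj1 A * (A * (1 - N)) := by
          rw [show A * (1 - N) = 1 - N * N by rw [hN]; noncomm_ring, h2, sub_zero, mul_one]
      _ = 1 - N := by rw [← mul_assoc, hA, one_mul]
  have hsing : ∀ x ∈ LinearMap.range N.mulVecLin, Φ.β x x = 0 := by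
    rintro _ ⟨x, rfl⟩
    show Φ.β (N *ᵥ x) (N *ᵥ x) = 0
    have : Φ.adj1 N = -N := by
      rw [hN, adj1_sub, adj1_one, hadj, hN]
      abel
    rw [beta_adj1, this, Matrix.neg_mulVec, Matrix.mulVec_mulVec, h2, Matrix.zero_mulVec, neg_zero,
      Φ.sform.zero_right]
  have h1 := hU _ hsing
  obtain ⟨v, hv⟩ : ∃ v : Vk, LinearMap.range N.mulVecLin ≤ Submodule.span F {v} := by
    by_cases h0 : LinearMap.range N.mulVecLin = ⊥
    · exact ⟨0, by rw [h0]; exact bot_le⟩
    obtain ⟨v, hv, hv0⟩ := (Submodule.ne_bot_iff _).1 h0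
    have hle : Submodule.span F {v} ≤ LinearMap.range N.mulVecLin :=
      Submodule.span_le.2 (Set.singleton_subset_iff.2 hv)
    exact ⟨v, (Submodule.eq_of_le_of_finrank_le hle (by rwa [finrank_span_singleton hv0])).ge⟩
  exact Φ.eq_one_of_line hA hnil fun u => hv ⟨u, rfl⟩

/-- A unipotent isometric pure tensor close to the identity lives in one factor. -/
theorem pure_single [Finite F] (hk : 4 ≤ k) (hminus : k = 4 → ∀ U : Submodule F Vk,
    (∀ x ∈ U, Φ.β x x = 0) → finrank F U ≤ 1) (i : Fin t) {U : Fin t → GL (Fin k) F}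
    (hU : ∀ l, U l ^ p = 1) (hiso : ∀ l, Φ.adj1 (U l : Mm) * (U l : Mm) = 1)
    (hr : ((pureGL U : MT) - 1).rank ≤ 2 * k ^ (t - 1)) :
    ∃ (j : Fin t) (A : Mm), (pureGL U : MT) = fa j A := by
  classical
  haveI : NeZero k := ⟨by omega⟩
  by_cases hall : ∀ l, U l = 1
  · exact ⟨i, 1, by rw [map_one, show U = 1 from funext hall, pureGL_one, Units.val_one]⟩
  push Not at hall
  obtain ⟨j, hj⟩ := hall
  set V : Fin t → GL (Fin k) F := Function.update U j 1 with hV
  have hw : (pureGL U : MT) = fa j (U j : Mm) * (pureGL V : MT) := by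
    show pureMat _ = _ * pureMat _
    rw [fa_eq, pureMat_mul]
    congr 1
    funext l
    by_cases hl : l = j
    · subst hl; simp [hV]
    · simp [hV, hl]
  by_cases hB : pureGL V = 1
  · exact ⟨j, U j, by rw [hw, hB, Units.val_one, mul_one]⟩
  exfalso
  have hcomm : ∀ Y : Mm, Commute (pureGL V : MT) (fa j Y) := fun Y => by
    show pureMat _ * _ = _ * pureMat _
    rw [fa_eq, pureMat_mul, pureMat_mul]
    congr 1
    funext l
    by_cases hl : l = j
    · subst hl; simp [hV]
    · simp [hV, hl]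
  have hnilB : IsNilpotent ((pureGL V : MT) - 1) := by
    refine ⟨p, sub_one_pow_char p ?_⟩
    rw [← Units.val_pow_eq_pow_val, pureGL_pow, show V ^ p = 1 from funext fun l => ?_, pureGL_one,
      Units.val_one]
    by_cases hl : l = j
    · subst hl; simp [hV]
    · simp [hV, hl, hU]
  set A : Mm := (U j : Mm) with hA
  have hnilA : IsNilpotent (A - 1) :=
    ⟨p, sub_one_pow_char p (by rw [hA, ← Units.val_pow_eq_pow_val, hU, Units.val_one])⟩
  have hA1 : A ≠ 1 := fun h => hj (Units.ext h)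
  have hB1 : (pureGL V : MT) ≠ 1 := fun h => hB (Units.ext h)
  set N := A - 1 with hN
  have bound : ∀ d, d ≤ k → d ≤ finrank F (LinearMap.range N.mulVecLin) →
      ∃ u α : Fin d → Vk, ∀ r s, α r ⬝ᵥ (N *ᵥ u s) = if r = s then 1 else 0 := by
    intro d _ hd
    obtain ⟨f, hf⟩ := exists_linearIndependent_of_le_finrank hd
    choose u hu using fun r => (f r).2
    have hf' : LinearIndependent F fun r => (f r : Vk) :=
      hf.map' (Submodule.subtype _) (Submodule.ker_subtype _)
    obtain ⟨g, hg⟩ := LinearMap.exists_leftInverse_of_injective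
      (Fintype.linearCombination F fun r => (f r : Vk)) (LinearMap.ker_eq_bot.2 hf'.fintypeLinearCombination_injective)
    refine ⟨u, fun r i => g (Pi.single i 1) r, fun r s => ?_⟩
    have h1 : ∀ v : Vk, (fun i => g (Pi.single i 1) r) ⬝ᵥ v = g v r := fun v => by
      conv_rhs => rw [pi_eq_sum_univ' v]
      simp [dotProduct, Finset.sum_apply, mul_comm]
    have h2 := congrArg (fun h : (Fin d → F) →ₗ[F] (Fin d → F) => h (Pi.single s 1) r) hg
    simp only [LinearMap.comp_apply, LinearMap.id_apply, Fintype.linearCombination_apply_single,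
      one_smul] at h2
    rw [h1, show N *ᵥ u s = (f s : Vk) from hu s, h2, Pi.single_apply]
  have hrange : ∀ v : Vk, ¬ LinearMap.range N.mulVecLin ≤ Submodule.span F {v} := fun v hv =>
    hA1 (Φ.eq_one_of_line (hiso j) hnilA fun u => hv ⟨u, rfl⟩)
  have h2d : 2 ≤ finrank F (LinearMap.range N.mulVecLin) := by
    by_contra hlt
    by_cases h0 : LinearMap.range N.mulVecLin = ⊥
    · exact hrange 0 (by rw [h0]; exact bot_le)
    obtain ⟨v, hv, hv0⟩ := (Submodule.ne_bot_iff _).1 h0
    have hle : Submodule.span F {v} ≤ LinearMap.range N.mulVecLin :=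
      Submodule.span_le.2 (Set.singleton_subset_iff.2 hv)
    exact hrange v (Submodule.eq_of_le_of_finrank_le hle (by rw [finrank_span_singleton hv0]; omega)).ge
  rw [hw] at hr
  have hpos : 0 < k ^ (t - 1) := Nat.pow_pos (by omega)
  by_cases h3d : 3 ≤ finrank F (LinearMap.range N.mulVecLin)
  · obtain ⟨u, α, hα⟩ := bound 3 (by omega) h3d
    obtain ⟨L, R, h1, h2, -⟩ := exists_dress (by omega : 3 ≤ k) N u α hα 0 0 (Matrix.mulVec_zero _)
      (Or.inr ⟨rfl, rfl⟩)
    have := (le_rank_factor_mul j hcomm hnilB (by omega) h1 h2).1.trans hr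
    omega
  have hd2 : finrank F (LinearMap.range N.mulVecLin) = 2 := by omega
  have hker := LinearMap.finrank_range_add_finrank_ker N.mulVecLin
  rw [hd2, Module.finrank_fin_fun] at hker
  obtain ⟨z, hz, hz'⟩ : ∃ z, z ∈ LinearMap.ker N.mulVecLin ∧ z ∉ LinearMap.range N.mulVecLin := by
    by_contra hc
    push Not at hc
    have hle : LinearMap.ker N.mulVecLin ≤ LinearMap.range N.mulVecLin := hc
    have h4 := Submodule.finrank_mono hle
    rw [hd2] at h4
    have hk4 : k = 4 := by omega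
    have heq := Submodule.eq_of_le_of_finrank_le hle (by rw [hd2]; omega)
    refine hA1 (Φ.eq_one_of_sq (Or.inr ⟨hk4, hminus hk4⟩) (hiso j)
      (Matrix.ext_of_mulVec_single fun r => ?_))
    rw [← Matrix.mulVec_mulVec, Matrix.zero_mulVec]
    have hmem : N *ᵥ Pi.single r 1 ∈ LinearMap.ker N.mulVecLin := by rw [heq]; exact ⟨_, rfl⟩
    exact hmem
  obtain ⟨φ, hφz, hφ⟩ := exists_dot hz'
  obtain ⟨u, α, hα⟩ := bound 2 (by omega) h2d
  have hzN : N *ᵥ z = 0 := hz
  obtain ⟨L, R, h1, h2, h3⟩ := exists_dress (by omega : 2 ≤ k) N u α hα φ z hzN (Or.inl hφz)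
  have hφN : φ ᵥ* N = 0 := funext fun r => by
    rw [← dotProduct_single_one (φ ᵥ* N) r, ← Matrix.dotProduct_mulVec, Pi.zero_apply]
    exact hφ _ ⟨_, rfl⟩
  have := ((le_rank_factor_mul j hcomm hnilB (by omega) h1 h2).2 φ z hφz hzN hφN h3 hB1).trans hr
  omega

/-- Commuting unipotent operators have a common fixed vector. -/
theorem exists_common_fixed [NeZero k] {α : Type*} (s : Finset α) (U : α → GL (Fin k) F)
    (hU : ∀ a, U a ^ p = 1) (hc : ∀ a b, Commute (U a) (U b)) :
    ∃ y : Vk, y ≠ 0 ∧ ∀ a ∈ s, (U a : Mm) *ᵥ y = y := by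
  classical
  induction s using Finset.induction with
  | empty => exact ⟨Pi.single ⟨0, NeZero.pos k⟩ 1, by simp, by simp⟩
  | insert a s ha ih =>
    obtain ⟨y, hy, hfix⟩ := ih
    by_contra hcon
    push Not at hcon
    refine hy (nilp_eq_zero (M := (U a : Mm) - 1)
      ⟨p, sub_one_pow_char p (by rw [← Units.val_pow_eq_pow_val, hU, Units.val_one])⟩
      {v | ∀ b ∈ s, (U b : Mm) *ᵥ v = v} (fun v hv b hb => ?_) (fun v hv h0 => ?_) hfix)
    · rw [Matrix.mulVec_mulVec, mul_sub, mul_one, ← Units.val_mul, hc b a, Units.val_mul,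
        Matrix.sub_mulVec, ← Matrix.mulVec_mulVec, hv b hb, Matrix.sub_mulVec, Matrix.one_mulVec]
    · by_contra hv0
      obtain ⟨b, hb, hne⟩ := hcon v hv0
      rcases Finset.mem_insert.1 hb with rfl | hb
      · rw [Matrix.sub_mulVec, Matrix.one_mulVec, sub_eq_zero] at h0
        exact hne h0
      · exact hne (hv b hb)

/-- A one-parameter family of pure tensors in three dimensions lives in one factor. -/
theorem pure_single_family [Finite F] {Φ : OForm F 3} (hq : Nat.card F ≠ 3) (i : Fin t)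
    (w : F → GL (Fin t → Fin 3) F) (hadd : ∀ c d, w (c + d) = w c * w d) (hwp : ∀ c, w c ^ p = 1)
    (hpure : ∀ c, ∃ A, w c = pureGL A)
    (hquad : ∃ X Y : Matrix (Fin t → Fin 3) (Fin t → Fin 3) F, ∀ c,
      (w c : Matrix (Fin t → Fin 3) (Fin t → Fin 3) F) = 1 + c • X + c ^ 2 • Y)
    (hiso : Φ.Iso (w 1)) :
    ∃ (j : Fin t) (A : Matrix (Fin 3) (Fin 3) F),
      (w 1 : Matrix (Fin t → Fin 3) (Fin t → Fin 3) F) = fa j A := by
  classical
  letI := Fintype.ofFinite F
  choose A hA using hpure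
  have hUex : ∀ c, ∃ U : Fin t → GL (Fin 3) F, pureGL U = w c ∧ ∀ l, U l ^ p = 1 := fun c => by
    obtain ⟨U, h1, h2⟩ := exists_unipotent p (A := A c) (by rw [← hA, hwp])
    exact ⟨U, h1.trans (hA c).symm, h2⟩
  choose U hUw hUp using hUex
  have hisoU := Φ.iso_factor p (hUp 1) (by rw [hUw]; exact hiso)
  have hcomm : ∀ l c d, Commute (U c l) (U d l) := by
    intro l c d
    have h : pureGL (U c * U d * (U c)⁻¹) = pureGL (U d) := by
      rw [← pureGL_mul, ← pureGL_mul, ← pureGL_inv, hUw, hUw, ← hadd, add_comm, hadd,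
        mul_inv_cancel_right]
    have := congrFun (unip_unique p (fun l => by
      rw [Pi.mul_apply, Pi.mul_apply, Pi.inv_apply, conj_pow, hUp, mul_one, mul_inv_cancel])
      (hUp d) h) l
    simp only [Pi.mul_apply, Pi.inv_apply] at this
    exact mul_inv_eq_iff_eq_mul.1 this
  have hw0 : w 0 = 1 := by
    have := hadd 0 0
    rw [add_zero] at this
    exact left_eq_mul.1 this
  have hU0 : U 0 = 1 := unip_unique p (hUp 0) (fun l => by simp)
    (by rw [hUw, hw0, pureGL_one])
  have hUneg : ∀ c, U (-c) = (U c)⁻¹ := fun c =>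
    unip_unique p (hUp _) (fun l => by rw [Pi.inv_apply, inv_pow, hUp, inv_one]) (by
      rw [hUw, ← pureGL_inv, hUw, ← mul_eq_one_iff_eq_inv, ← hadd, neg_add_cancel, hw0])
  choose y hy0 hyfix using fun l =>
    exists_common_fixed p Finset.univ (fun c => U c l) (fun c => hUp c l) fun c d => hcomm l c d
  choose x₀ hx₀ using fun l => Function.ne_iff.mp (hy0 l)
  obtain ⟨X, Y, hXY⟩ := hquad
  -- values on pure vectors are quadratic
  have hval : ∀ (h : Fin t → Fin 3 → F) (x : Fin t → Fin 3), ∃ α β γ : F, ∀ c,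
      ∏ l, ((U c l : Matrix (Fin 3) (Fin 3) F) *ᵥ h l) (x l) = α + c * β + c ^ 2 * γ := by
    intro h x
    refine ⟨pvec h x, (X *ᵥ pvec h) x, (Y *ᵥ pvec h) x, fun c => ?_⟩
    have e : (w c : Matrix (Fin t → Fin 3) (Fin t → Fin 3) F) *ᵥ pvec h =
        pvec fun l => (U c l : Matrix (Fin 3) (Fin 3) F) *ᵥ h l := by
      rw [← hUw c]
      exact pureMat_mulVec _ h
    have := congrFun e x
    rw [hXY, Matrix.add_mulVec, Matrix.add_mulVec, Matrix.one_mulVec, Matrix.smul_mulVec,
      Matrix.smul_mulVec] at this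
    simp only [Pi.add_apply, Pi.smul_apply, smul_eq_mul] at this
    rw [this]
    rfl
  let f : Fin t → (Fin 3 → F) → Fin 3 → F → F := fun l a r c =>
    ((U c l : Matrix (Fin 3) (Fin 3) F) *ᵥ a) r
  have hone : ∀ l a r, ∃ α β γ : F, ∀ c, f l a r c = α + c * β + c ^ 2 * γ := by
    intro l a r
    obtain ⟨α, β, γ, h⟩ := hval (Function.update y l a) (Function.update x₀ l r)
    set K := ∏ i ∈ Finset.univ.erase l, y i (x₀ i)
    have hK : K ≠ 0 := Finset.prod_ne_zero_iff.2 fun i _ => by simpa using hx₀ i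
    refine ⟨α / K, β / K, γ / K, fun c => ?_⟩
    have hc := h c
    rw [← Finset.mul_prod_erase _ _ (Finset.mem_univ l), Finset.prod_congr rfl (fun i hi => by
      rw [Function.update_of_ne (Finset.ne_of_mem_erase hi),
        Function.update_of_ne (Finset.ne_of_mem_erase hi), hyfix i c (Finset.mem_univ _)]),
      Function.update_self, Function.update_self] at hc
    show f l a r c = _
    field_simp
    linear_combination hc
  have hpair : ∀ j l, j ≠ l → ∀ a r b s, ∃ α β γ : F, ∀ c,
      f j a r c * f l b s c = α + c * β + c ^ 2 * γ := by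
    intro j l hjl a r b s
    obtain ⟨α, β, γ, h⟩ := hval (Function.update (Function.update y l b) j a)
      (Function.update (Function.update x₀ l s) j r)
    set K := ∏ i ∈ (Finset.univ.erase j).erase l, y i (x₀ i)
    have hK : K ≠ 0 := Finset.prod_ne_zero_iff.2 fun i _ => by simpa using hx₀ i
    refine ⟨α / K, β / K, γ / K, fun c => ?_⟩
    have hc := h c
    rw [← Finset.mul_prod_erase _ _ (Finset.mem_univ j),
      ← Finset.mul_prod_erase _ _ (Finset.mem_erase.2 ⟨Ne.symm hjl, Finset.mem_univ l⟩),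
      Finset.prod_congr rfl (fun i hi => by
        rw [Function.update_of_ne (Finset.ne_of_mem_erase (Finset.mem_of_mem_erase hi)),
          Function.update_of_ne (Finset.ne_of_mem_erase hi),
          Function.update_of_ne (Finset.ne_of_mem_erase (Finset.mem_of_mem_erase hi)),
          Function.update_of_ne (Finset.ne_of_mem_erase hi), hyfix i c (Finset.mem_univ _)]),
      Function.update_self, Function.update_self, Function.update_of_ne (Ne.symm hjl),
      Function.update_of_ne (Ne.symm hjl), Function.update_self, Function.update_self] at hc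
    show f j a r c * f l b s c = _
    field_simp
    linear_combination hc
  obtain ⟨d, hd0, hd⟩ := exists_scalar hq Φ.two
  -- the second differences
  let T : Fin t → (Fin 3 → F) → Fin 3 → F := fun l a r => f l a r 1 + f l a r (-1) - 2 * f l a r 0
  have hT : ∀ j l, j ≠ l → ∀ a r b s, T j a r * T l b s = 0 := by
    intro j l hjl a r b s
    obtain ⟨a0, a1, a2, ha⟩ := hone j a r
    obtain ⟨b0, b1, b2, hb⟩ := hone l b s
    obtain ⟨P0, P1, P2, hP⟩ := hpair j l hjl a r b s
    have e : ∀ c, (a0 + c * a1 + c ^ 2 * a2) * (b0 + c * b1 + c ^ 2 * b2) = P0 + c * P1 + c ^ 2 * P2 :=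
      fun c => by rw [← ha, ← hb, hP]
    have e0 : a0 * b0 = P0 := by simpa using e 0
    have ec : ∀ c : F, c ≠ 0 → (a0 * b2 + a1 * b1 + a2 * b0 - P2) + c ^ 2 * (a2 * b2) = 0 := by
      intro c hc
      have hsum : (2 * c ^ 2) *
          ((a0 * b2 + a1 * b1 + a2 * b0 - P2) + c ^ 2 * (a2 * b2)) = 0 := by
        linear_combination (e c) + (e (-c)) - 2 * e0
      exact (mul_eq_zero.1 hsum).resolve_left (mul_ne_zero Φ.two (pow_ne_zero _ hc))
    have hab : (d ^ 2 - 1) * (a2 * b2) = 0 := by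
      linear_combination (ec d hd0) - (ec 1 one_ne_zero)
    have hab' : a2 * b2 = 0 := (mul_eq_zero.1 hab).resolve_left (sub_ne_zero.2 hd)
    simp only [T, ha, hb]
    linear_combination 4 * hab'
  have htriv : ∀ l, (∀ a r, T l a r = 0) → U 1 l = 1 := by
    intro l hl
    have h2 : ((U 1 l : Matrix (Fin 3) (Fin 3) F) - 1) * ((U 1 l : Matrix (Fin 3) (Fin 3) F) - 1) = 0 := by
      have e : (U 1 l : Matrix (Fin 3) (Fin 3) F) + (U (-1) l : Matrix (Fin 3) (Fin 3) F) -
          (2 : F) • 1 = 0 := Matrix.ext_of_mulVec_single fun q => funext fun r => by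
        have := hl (Pi.single q 1) r
        simp only [T, f, hU0, Pi.one_apply, Units.val_one, Matrix.one_mulVec] at this
        simpa [Matrix.sub_mulVec, Matrix.add_mulVec, Matrix.smul_mulVec, Matrix.one_mulVec,
          Pi.single_apply, Matrix.one_apply] using this
      rw [hUneg, Pi.inv_apply] at e
      calc ((U 1 l : Matrix (Fin 3) (Fin 3) F) - 1) * ((U 1 l : Matrix (Fin 3) (Fin 3) F) - 1)
          = (U 1 l : Matrix (Fin 3) (Fin 3) F) * ((U 1 l : Matrix (Fin 3) (Fin 3) F) +
            (((U 1 l)⁻¹ : GL (Fin 3) F) : Matrix (Fin 3) (Fin 3) F) - (2 : F) • 1) := by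
            rw [two_smul, show ∀ a b : Matrix (Fin 3) (Fin 3) F, a * (a + b - (1 + 1)) =
              a * a + a * b - (a + a) from fun a b => by noncomm_ring, Units.mul_inv]
            noncomm_ring
        _ = 0 := by rw [e, mul_zero]
    exact Units.ext (Φ.eq_one_of_sq (Or.inl rfl) (hisoU l) h2)
  by_cases hall : ∀ l, U 1 l = 1
  · exact ⟨i, 1, by rw [map_one, ← hUw 1, show U 1 = 1 from funext hall, pureGL_one, Units.val_one]⟩
  push Not at hall
  obtain ⟨j, hj⟩ := hall
  have hrest : ∀ l, l ≠ j → ∃ c : F, (U 1 l : Matrix (Fin 3) (Fin 3) F) = c • 1 := by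
    intro l hl
    refine ⟨1, ?_⟩
    rw [one_smul, htriv l (fun b s => ?_), Units.val_one]
    by_contra hne
    refine hj (htriv j fun a r => ?_)
    exact (mul_eq_zero.1 (hT j l (Ne.symm hl) a r b s)).resolve_right hne
  obtain ⟨Z, hZ⟩ := pureMat_eq_fa hrest
  exact ⟨j, Z, by rw [← hUw 1, hZ]⟩

end OForm

end CfsgLib.MaxSub.TensorPowOrth
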