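import Cfsg.Agent.Lib.MaxSub.TensorPow.Shape
import Mathlib.Algebra.CharP.Algebra
import Mathlib.RingTheory.Nilpotent.Basic

/-!
Elements of the wreath group of a tensor power: their action on a single factor, linear independence
of elements moving a factor to different places, and lower bounds for ranks.
-/

set_option autoImplicit false
set_option maxHeartbeats 800000
set_option linter.unusedSectionVars false
set_option linter.style.haveILetI false

namespace CfsgLib.MaxSub.TensorPowOrth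

open Matrix
open CfsgLib.Aschbacher CfsgLib.MaxSub.TensorPow

variable {F : Type*} [Field F] {k t : ℕ}

local notation "Vk" => Fin k → F
local notation "Mm" => Matrix (Fin k) (Fin k) F
local notation "MT" => Matrix (Fin t → Fin k) (Fin t → Fin k) F

/-- A pure tensor times a permutation, passed to the other side of a factor. -/
theorem wr_mul_fa [NeZero k] (A : Fin t → GL (Fin k) F) (σ : Equiv.Perm (Fin t)) (i : Fin t) (X : Mm) :
    ((pureGL A * permGL k F σ : GL (Fin t → Fin k) F) : MT) * fa i X =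
      fa (σ i) ((A (σ i) : Mm) * X * (((A (σ i))⁻¹ : GL (Fin k) F) : Mm)) *
        ((pureGL A * permGL k F σ : GL (Fin t → Fin k) F) : MT) := by
  rw [← Ad_wr_fa, Ad_apply, mul_assoc, Units.inv_mul, mul_one]

/-- The product of two pure tensors times permutations. -/
theorem wr_mul (A B : Fin t → GL (Fin k) F) (σ τ : Equiv.Perm (Fin t)) :
    pureGL A * permGL k F σ * (pureGL B * permGL k F τ) =
      pureGL (A * (B ∘ σ.symm)) * permGL k F (σ * τ) := by
  rw [← pureGL_mul, ← permGL_mul, mul_assoc, ← mul_assoc (permGL k F σ), perm_pure]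
  simp [mul_assoc]

/-- Powers of a pure tensor times a permutation. -/
theorem pow_wr (A : Fin t → GL (Fin k) F) (σ : Equiv.Perm (Fin t)) (n : ℕ) :
    ∃ B : Fin t → GL (Fin k) F, (pureGL A * permGL k F σ) ^ n = pureGL B * permGL k F (σ ^ n) ∧
      ∀ a, σ a = a → B a = A a ^ n := by
  induction n with
  | zero => exact ⟨1, by simp [pureGL_one, permGL_one], fun a _ => by simp⟩
  | succ n ih =>
    obtain ⟨B, hB, hBa⟩ := ih
    refine ⟨B * (A ∘ (σ ^ n).symm), ?_, fun a ha => ?_⟩
    · rw [pow_succ, hB, mul_assoc, ← mul_assoc (permGL k F (σ ^ n)), perm_pure, ← pureGL_mul,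
        pow_succ, ← permGL_mul]
      simp [mul_assoc]
    · have h1 : (σ ^ n).symm a = a := by
        rw [Equiv.symm_apply_eq]
        exact (Equiv.Perm.pow_apply_eq_self_of_apply_eq_self ha n).symm
      rw [Pi.mul_apply, Function.comp_apply, h1, hBa a ha, pow_succ]

theorem pureMat_ne_zero {A : Fin t → Mm} (h : ∀ l, A l ≠ 0) : pureMat A ≠ (0 : MT) := by
  intro h0
  have h' : ∀ l, ∃ r s, A l r s ≠ 0 := fun l => by
    by_contra hc
    push Not at hc
    exact h l (Matrix.ext hc)
  choose r s hrs using h'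
  have := congrFun (congrFun h0 r) s
  rw [pureMat_apply, Matrix.zero_apply] at this
  exact Finset.prod_ne_zero_iff.2 (fun l _ => hrs l) this

theorem fa_mul_fa {i j : Fin t} (h : i ≠ j) (X Y : Mm) :
    (fa i X * fa j Y : MT) = pureMat (Function.update (Function.update 1 j Y) i X) := by
  rw [fa_eq, fa_eq, pureMat_mul]
  congr 1
  funext l
  by_cases hi : l = i
  · subst hi; simp [h]
  · simp [hi]

theorem fa_mul_fa_ne_zero [NeZero k] {i j : Fin t} (h : i ≠ j) {X Y : Mm} (hX : X ≠ 0) (hY : Y ≠ 0) :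
    (fa i X * fa j Y : MT) ≠ 0 := by
  rw [fa_mul_fa h]
  refine pureMat_ne_zero fun l => ?_
  by_cases hi : l = i
  · subst hi; simpa using hX
  · by_cases hj : l = j
    · subst hj; simpa [hi] using hY
    · simp [hi, hj]

theorem conj_ne_zero (g : GL (Fin k) F) {X : Mm} (hX : X ≠ 0) :
    (g : Mm) * X * ((g⁻¹ : GL (Fin k) F) : Mm) ≠ 0 := by
  intro h
  refine hX ?_
  have := congrArg (fun Z => ((g⁻¹ : GL (Fin k) F) : Mm) * Z * (g : Mm)) h
  simpa [mul_assoc] using this

theorem vecMulVec_ne {v φ : Vk} (hv : v ≠ 0) (hφ : φ ≠ 0) : vecMulVec v φ ≠ (0 : Mm) := by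
  intro h
  obtain ⟨a, ha⟩ := Function.ne_iff.mp hv
  obtain ⟨b, hb⟩ := Function.ne_iff.mp hφ
  have := congrFun (congrFun h a) b
  rw [vecMulVec_apply, Matrix.zero_apply] at this
  exact mul_ne_zero ha hb this

/-- Four elements of the wreath group moving a factor to four places are independent. -/
theorem four_indep (hk : 2 ≤ k) (A : Fin 4 → Fin t → GL (Fin k) F) (σ : Fin 4 → Equiv.Perm (Fin t))
    (a : Fin t) (hinj : Function.Injective fun n => σ n a) (α₀ α₁ α₂ : F) :
    ((pureGL (A 3) * permGL k F (σ 3) : GL (Fin t → Fin k) F) : MT) ≠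
      α₀ • ((pureGL (A 0) * permGL k F (σ 0) : GL (Fin t → Fin k) F) : MT) +
      α₁ • ((pureGL (A 1) * permGL k F (σ 1) : GL (Fin t → Fin k) F) : MT) +
      α₂ • ((pureGL (A 2) * permGL k F (σ 2) : GL (Fin t → Fin k) F) : MT) := by
  haveI : NeZero k := ⟨by omega⟩
  intro h
  let X : Mm := Matrix.single ⟨0, by omega⟩ ⟨1, by omega⟩ 1
  have hX0 : X ≠ 0 := fun h0 => by
    have := congrFun (congrFun h0 ⟨0, by omega⟩) ⟨1, by omega⟩
    simp [X] at this
  have hXX : X * X = 0 := by simp [X, Fin.ext_iff]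
  let Y : Fin 4 → Mm := fun n =>
    (A n (σ n a) : Mm) * X * (((A n (σ n a))⁻¹ : GL (Fin k) F) : Mm)
  let b : Fin 4 → MT := fun n => fa (σ n a) (Y n)
  have hbb : ∀ n, b n * b n = 0 := fun n => by
    have : Y n * Y n = 0 := by
      simp only [Y, mul_assoc, Units.inv_mul_cancel_left]
      rw [← mul_assoc X X, hXX, zero_mul, mul_zero]
    simp only [b, ← map_mul, this, map_zero]
  have hcomm : ∀ n l : Fin 4, n ≠ l → b n * b l = b l * b n := fun n l hnl =>
    (fa_commute (fun e => hnl (hinj e)) _ _).eq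
  let W : Fin 4 → MT := fun n => ((pureGL (A n) * permGL k F (σ n) : GL (Fin t → Fin k) F) : MT)
  have hW : ∀ n, W n * fa a X = b n * W n := fun n => wr_mul_fa (A n) (σ n) a X
  let S : MT := b 0 * b 1 + b 0 * b 2 + b 1 * b 2
  have h10 := hcomm 1 0 (by decide)
  have h20 := hcomm 2 0 (by decide)
  have h21 := hcomm 2 1 (by decide)
  have key : ∀ n, n ≠ 3 → b 0 * b 1 * b 2 * W n = S * (W n * fa a X) := by
    intro n hn
    rw [hW, ← mul_assoc S]
    congr 1
    fin_cases n
    · show _ = S * b 0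
      simp only [S, add_mul, mul_assoc, h10, h20]
      rw [← mul_assoc (b 0) (b 0), hbb, zero_mul, zero_add, ← mul_assoc (b 0) (b 0) (b 2), hbb,
        zero_mul, zero_add]
      rw [← mul_assoc (b 1) (b 0), h10, mul_assoc]
    · show _ = S * b 1
      simp only [S, add_mul, mul_assoc, hbb, mul_zero, zero_add, h21]
      rw [← mul_assoc (b 1) (b 1), hbb, zero_mul, add_zero]
    · show _ = S * b 2
      simp only [S, add_mul, mul_assoc, hbb, mul_zero, add_zero]
    · exact absurd rfl hn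
  have e : b 0 * b 1 * b 2 * W 3 = S * (W 3 * fa a X) := by
    have h' : W 3 = α₀ • W 0 + α₁ • W 1 + α₂ • W 2 := h
    rw [h']
    simp only [mul_add, add_mul, Matrix.mul_smul, Matrix.smul_mul]
    congr 1
    · congr 1 <;> congr 1
      · exact key 0 (by decide)
      · exact key 1 (by decide)
    · congr 1
      exact key 2 (by decide)
  rw [hW, ← mul_assoc S] at e
  have e2 : b 0 * b 1 * b 2 = S * b 3 := (Units.mul_left_inj _).mp e
  have e3 := congrArg (fun Z => Z * b 3) e2
  simp only [mul_assoc, hbb, mul_zero] at e3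
  have hne : b 0 * (b 1 * (b 2 * b 3)) = pureMat fun l =>
      if l = σ 0 a then Y 0 else if l = σ 1 a then Y 1 else if l = σ 2 a then Y 2 else
        if l = σ 3 a then Y 3 else 1 := by
    simp only [b, fa_eq, pureMat_mul]
    congr 1
    funext l
    have d : ∀ n l : Fin 4, n ≠ l → σ n a ≠ σ l a := fun n l hnl e => hnl (hinj e)
    by_cases e0 : l = σ 0 a
    · subst e0; simp [d 0 1 (by decide), d 0 2 (by decide), d 0 3 (by decide)]
    by_cases e1 : l = σ 1 a
    · subst e1; simp [e0, d 1 2 (by decide), d 1 3 (by decide)]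
    by_cases e2 : l = σ 2 a
    · subst e2; simp [e0, e1, d 2 3 (by decide)]
    by_cases e3 : l = σ 3 a
    · subst e3; simp [e0, e1, e2]
    · simp [e0, e1, e2, e3]
  rw [e3] at hne
  refine pureMat_ne_zero (fun l => ?_) hne.symm
  have hY : ∀ n, Y n ≠ 0 := fun n => conj_ne_zero _ hX0
  split_ifs <;> first | exact hY _ | exact one_ne_zero

/-- Elements fixing a factor and a vector of it, and one moving that factor. -/
theorem sandwich_ne [NeZero k] (hk : 2 ≤ k) (A B C : Fin t → GL (Fin k) F)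
    (τ ρ σ : Equiv.Perm (Fin t)) (a : Fin t) (hτ : τ a = a) (hρ : ρ a = a) (hσ : σ a ≠ a)
    {y : Vk} (hy : y ≠ 0) (hA : ∃ μ : F, (A a : Mm) *ᵥ y = μ • y)
    (hB : ∃ μ : F, (B a : Mm) *ᵥ y = μ • y) (α₀ α₁ α₂ : F) :
    ((pureGL C * permGL k F σ : GL (Fin t → Fin k) F) : MT) ≠
      α₀ • 1 + α₁ • ((pureGL A * permGL k F τ : GL (Fin t → Fin k) F) : MT) +
      α₂ • ((pureGL B * permGL k F ρ : GL (Fin t → Fin k) F) : MT) := by
  intro h
  obtain ⟨z, hz⟩ : ∃ z : Vk, z ∉ Submodule.span F {y} := by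
    by_contra hc
    push Not at hc
    have h1 := finrank_span_singleton (K := F) hy
    have htop : Submodule.span F {y} = ⊤ := eq_top_iff.mpr fun x _ => hc x
    rw [htop, finrank_top, Module.finrank_fin_fun] at h1
    omega
  obtain ⟨φ, hφ, hφ'⟩ := exists_dot hz
  have hφy : φ ⬝ᵥ y = 0 := hφ' y (Submodule.mem_span_singleton_self y)
  have hφ0 : φ ≠ 0 := fun h0 => by simp [h0] at hφ
  set R1 : Mm := vecMulVec z φ
  set R2 : Mm := vecMulVec y φ
  have hz0 : z ≠ 0 := fun h0 => hz (h0 ▸ zero_mem _)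
  have kill : ∀ D : GL (Fin k) F, (∃ μ : F, (D : Mm) *ᵥ y = μ • y) →
      R1 * ((D : Mm) * R2 * ((D⁻¹ : GL (Fin k) F) : Mm)) = 0 := by
    rintro D ⟨μ, hμ⟩
    rw [Matrix.mul_vecMulVec, hμ, ← mul_assoc, vecMulVec_mul_vecMulVec, dotProduct_smul, hφy,
      smul_zero]
    simp
  have h1 : fa a R1 * (1 : MT) * fa a R2 = 0 := by
    rw [mul_one, ← map_mul, vecMulVec_mul_vecMulVec, hφy]
    simp
  have h2 : ∀ (D : Fin t → GL (Fin k) F) (π : Equiv.Perm (Fin t)), π a = a →
      (∃ μ : F, (D a : Mm) *ᵥ y = μ • y) →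
      fa a R1 * ((pureGL D * permGL k F π : GL (Fin t → Fin k) F) : MT) * fa a R2 = 0 := by
    intro D π hπ hD
    rw [mul_assoc, wr_mul_fa, hπ, ← mul_assoc, ← map_mul, kill _ hD, map_zero, zero_mul]
  have e := congrArg (fun Z => fa a R1 * Z * fa a R2) h
  simp only [mul_add, add_mul, Matrix.mul_smul, Matrix.smul_mul, h1, h2 A τ hτ hA, h2 B ρ hρ hB,
    smul_zero, add_zero] at e
  rw [mul_assoc, wr_mul_fa, ← mul_assoc, Units.mul_left_eq_zero] at e
  exact fa_mul_fa_ne_zero (Ne.symm hσ) (vecMulVec_ne hz0 hφ0)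
    (conj_ne_zero _ (vecMulVec_ne hy hφ0)) e

theorem rank_conj' {ι : Type} [Fintype ι] [DecidableEq ι] (g : GL ι F) (M : Matrix ι ι F) :
    ((g : Matrix ι ι F) * M * ((g⁻¹ : GL ι F) : Matrix ι ι F)).rank = M.rank := by
  rw [Matrix.rank_mul_eq_left_of_isUnit_det _ _ (Matrix.isUnits_det_units _),
    Matrix.rank_mul_eq_right_of_isUnit_det _ _ (Matrix.isUnits_det_units _)]

section rotation

variable {n : ℕ}

/-- The representatives of the free orbits of the rotation of triples. -/
def Rep (p : Fin n × Fin n × Fin n) : Prop := p.1 < p.2.1 ∧ p.1 ≤ p.2.2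

instance (p : Fin n × Fin n × Fin n) : Decidable (Rep p) :=
  inferInstanceAs (Decidable (p.1 < p.2.1 ∧ p.1 ≤ p.2.2))

theorem sq_lt_card_rep (hn : 4 ≤ n) :
    n ^ 2 < (Finset.univ.filter fun p : Fin n × Fin n × Fin n => Rep p).card := by
  classical
  set S := Finset.univ.filter fun p : Fin n × Fin n × Fin n => Rep p
  set D := (Finset.univ : Finset (Fin n)).image fun a => (a, a, a)
  let r : Fin n × Fin n × Fin n → Fin n × Fin n × Fin n := fun p => (p.2.1, p.2.2, p.1)
  have hsub : (Finset.univ : Finset (Fin n × Fin n × Fin n)) ⊆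
      S ∪ S.image r ∪ S.image (r ∘ r) ∪ D := by
    rintro ⟨a, b, c⟩ -
    have memS : ∀ p, p ∈ S ↔ Rep p := fun p => by simp [S]
    simp only [Finset.mem_union, Finset.mem_image, memS, D, Finset.mem_univ, true_and,
      Rep, r, Function.comp_apply]
    by_cases hd : a = b ∧ b = c
    · right; exact ⟨a, by simp [hd.1, hd.2]⟩
    left
    rcases le_or_gt a c with h1 | h1
    · rcases lt_or_ge a b with h2 | h2
      · exact Or.inl (Or.inl ⟨h2, h1⟩)
      · refine Or.inr ⟨(b, c, a), ⟨?_, h2⟩, rfl⟩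
        rcases lt_or_ge b c with h3 | h3
        · exact h3
        · exact absurd ⟨le_antisymm (h1.trans h3) h2, le_antisymm (h2.trans h1) h3⟩ hd
    · rcases le_or_gt c b with h2 | h2
      · exact Or.inl (Or.inr ⟨(c, a, b), ⟨h1, h2⟩, rfl⟩)
      · exact Or.inr ⟨(b, c, a), ⟨h2, (h2.trans h1).le⟩, rfl⟩
  have h := Finset.card_le_card hsub
  rw [Finset.card_univ, Fintype.card_prod, Fintype.card_prod, Fintype.card_fin] at h
  have hD : D.card ≤ n := Finset.card_image_le.trans (by simp)
  have h1 := Finset.card_union_le (S ∪ S.image r ∪ S.image (r ∘ r)) D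
  have h2 := Finset.card_union_le (S ∪ S.image r) (S.image (r ∘ r))
  have h3 := Finset.card_union_le S (S.image r)
  have h4 : (S.image r).card ≤ S.card := Finset.card_image_le
  have h5 : (S.image (r ∘ r)).card ≤ S.card := Finset.card_image_le
  by_contra hc
  push Not at hc
  have : 4 * n * n ≤ n * (n * n) := by nlinarith
  have : n * 4 ≤ n * n := Nat.mul_le_mul_left n hn
  nlinarith

end rotation

/-- A three-cycle of the factors raises the rank of `1 + w + w²`. -/
theorem lt_rank_three [NeZero k] (hk : 4 ≤ k) (A : Fin t → GL (Fin k) F) (σ : Equiv.Perm (Fin t))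
    (h3 : (pureGL A * permGL k F σ) ^ 3 = 1) {a : Fin t} (ha : σ a ≠ a) :
    k ^ (t - 1) < (1 + ((pureGL A * permGL k F σ : GL (Fin t → Fin k) F) : MT) +
      ((pureGL A * permGL k F σ : GL (Fin t → Fin k) F) : MT) *
        ((pureGL A * permGL k F σ : GL (Fin t → Fin k) F) : MT)).rank := by
  classical
  have hσ3 : σ ^ 3 = 1 := by
    obtain ⟨B, hB, -⟩ := pow_wr A σ 3
    rw [h3, show (1 : GL (Fin t → Fin k) F) = pureGL 1 * permGL k F 1 by
      rw [pureGL_one, permGL_one, one_mul]] at hB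
    exact (perm_unique (by omega) hB).symm
  set b := σ a with hb
  set c := σ b with hc
  have hca : σ c = a := by
    have := Equiv.congr_fun hσ3 a
    simpa [pow_succ, ← hb, ← hc] using this
  have hab : a ≠ b := Ne.symm ha
  have hbc : b ≠ c := fun h => hab (σ.injective h)
  have hac : a ≠ c := fun h => hab (by rw [← hca, ← h])
  have sb : σ.symm b = a := by simp [hb]
  have sc : σ.symm c = b := by simp [hc]
  have sa : σ.symm a = c := by rw [← hca, Equiv.symm_apply_apply]
  set B : Fin t → GL (Fin k) F :=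
    Function.update (Function.update 1 b (A b)⁻¹) c ((A b)⁻¹ * (A c)⁻¹) with hBdef
  set A' : Fin t → GL (Fin k) F := B * A * (B⁻¹ ∘ σ.symm) with hA'def
  have hA' : ∀ j, A' j = B j * A j * (B (σ.symm j))⁻¹ := fun j => rfl
  have hBa : B a = 1 := by simp [hBdef, hab, hac]
  have hBb : B b = (A b)⁻¹ := by simp [hBdef, hbc]
  have hBc : B c = (A b)⁻¹ * (A c)⁻¹ := by simp [hBdef]
  have e1 : A' b = 1 := by rw [hA', sb, hBa, hBb]; simp
  have e2 : A' c = 1 := by rw [hA', sc, hBb, hBc]; group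
  set w' : GL (Fin t → Fin k) F := pureGL A' * permGL k F σ with hw'
  have econj : pureGL B * (pureGL A * permGL k F σ) * (pureGL B)⁻¹ = w' := by
    rw [pureGL_inv, mul_assoc, mul_assoc, perm_pure, ← mul_assoc, ← mul_assoc, pureGL_mul, pureGL_mul]
  have hr : (1 + (w' : MT) + (w' : MT) * (w' : MT)).rank =
      (1 + ((pureGL A * permGL k F σ : GL (Fin t → Fin k) F) : MT) +
        ((pureGL A * permGL k F σ : GL (Fin t → Fin k) F) : MT) *
          ((pureGL A * permGL k F σ : GL (Fin t → Fin k) F) : MT)).rank := by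
    rw [← econj, ← rank_conj' (pureGL B) (1 + ((pureGL A * permGL k F σ : GL (Fin t → Fin k) F) : MT) +
        ((pureGL A * permGL k F σ : GL (Fin t → Fin k) F) : MT) *
          ((pureGL A * permGL k F σ : GL (Fin t → Fin k) F) : MT))]
    congr 1
    simp only [Units.val_mul, mul_add, add_mul, mul_one, Units.mul_inv, mul_assoc,
      Units.inv_mul_cancel_left]
  rw [← hr]
  obtain ⟨μ, hμ⟩ : ∃ μ : F, (A' a : Mm) = μ • 1 := by
    have hw3 : w' ^ 3 = 1 := by rw [← econj, conj_pow, h3, mul_one, mul_inv_cancel]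
    have e : pureGL (A' * (A' ∘ σ.symm) * (A' ∘ (σ * σ).symm)) = pureGL (1 : Fin t → GL (Fin k) F) := by
      have hσ' : σ * σ * σ = 1 := by simpa [pow_succ] using hσ3
      rw [pureGL_one, ← hw3, pow_succ, pow_two, hw', wr_mul, wr_mul, hσ', permGL_one, mul_one]
    obtain ⟨μ, hμ⟩ := pure_unique e a
    have h0 : (σ * σ).symm a = b := by
      rw [Equiv.symm_apply_eq, Equiv.Perm.mul_apply, ← hc, hca]
    refine ⟨μ, ?_⟩
    simpa [sa, h0, e1, e2] using hμ
  -- columns
  have col : ∀ (D : Fin t → GL (Fin k) F) (π : Equiv.Perm (Fin t)) (f : (Fin t → Fin k) → F)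
      (x : Fin t → Fin k), (((pureGL D * permGL k F π : GL (Fin t → Fin k) F) : MT) *ᵥ f) x ≠ 0 →
      ∃ y, f y ≠ 0 ∧ ∀ j, (∃ ν : F, (D j : Mm) = ν • 1) → x j = y (π.symm j) := by
    intro D π f x hx
    by_contra hc
    push Not at hc
    refine hx (Finset.sum_eq_zero fun y _ => ?_)
    by_cases hy : f y = 0
    · show _ * f y = 0
      rw [hy, mul_zero]
    · obtain ⟨j, ⟨ν, hν⟩, hjy⟩ := hc y hy
      show ((pureGL D * permGL k F π : GL (Fin t → Fin k) F) : MT) x y * f y = 0
      rw [wr_apply, Finset.prod_eq_zero (Finset.mem_univ j), zero_mul]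
      simp [hν, hjy]
  set S := Finset.univ.filter fun y : Fin t → Fin k => Rep (y a, y b, y c)
  have hcard : k ^ (t - 1) < S.card := by
    let E : (Fin k × Fin k × Fin k) × ({j : Fin t // j ≠ a ∧ j ≠ b ∧ j ≠ c} → Fin k) → Fin t → Fin k :=
      fun p j => if h : j ≠ a ∧ j ≠ b ∧ j ≠ c then p.2 ⟨j, h⟩ else
        if j = a then p.1.1 else if j = b then p.1.2.1 else p.1.2.2
    have Ea : ∀ p, E p a = p.1.1 := fun p => by simp [E]
    have Eb : ∀ p, E p b = p.1.2.1 := fun p => by simp [E, hab.symm]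
    have Ec : ∀ p, E p c = p.1.2.2 := fun p => by simp [E, hac.symm, hbc.symm]
    have hE : Function.Injective E := fun p q hpq => by
      refine Prod.ext (Prod.ext ?_ (Prod.ext ?_ ?_)) (funext fun j => ?_)
      · rw [← Ea p, ← Ea q, hpq]
      · rw [← Eb p, ← Eb q, hpq]
      · rw [← Ec p, ← Ec q, hpq]
      · have := congrFun hpq j.1
        simpa [E, j.2.1, j.2.2.1, j.2.2.2] using this
    have h1 : ((Finset.univ.filter fun p : Fin k × Fin k × Fin k => Rep p) ×ˢ
        (Finset.univ : Finset ({j : Fin t // j ≠ a ∧ j ≠ b ∧ j ≠ c} → Fin k))).image E ⊆ S := by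
      intro y hy
      simp only [Finset.mem_image, Finset.mem_product, Finset.mem_filter, Finset.mem_univ, true_and,
        and_true] at hy
      obtain ⟨p, hp, rfl⟩ := hy
      simp only [S, Finset.mem_filter, Finset.mem_univ, true_and, Ea, Eb, Ec]
      exact hp
    have h2 := Finset.card_le_card h1
    rw [Finset.card_image_of_injective _ hE, Finset.card_product, Finset.card_univ, Fintype.card_fun,
      Fintype.card_fin] at h2
    have hcount : Fintype.card {j : Fin t // j ≠ a ∧ j ≠ b ∧ j ≠ c} = t - 3 := by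
      rw [Fintype.card_subtype, show (Finset.univ.filter fun j : Fin t => j ≠ a ∧ j ≠ b ∧ j ≠ c) =
        Finset.univ \ {a, b, c} by ext j; simp, Finset.card_sdiff_of_subset (Finset.subset_univ _)]
      simp [hab, hac, hbc]
    have ht : 3 ≤ t := by
      have := Finset.card_le_univ ({a, b, c} : Finset (Fin t))
      simpa [hab, hac, hbc] using this
    rw [hcount] at h2
    refine lt_of_lt_of_le ?_ h2
    rw [show t - 1 = 2 + (t - 3) by omega, pow_add]
    exact Nat.mul_lt_mul_of_pos_right (sq_lt_card_rep hk) (Nat.pow_pos (by omega))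
  refine lt_of_lt_of_le hcard (card_le_rank _ _ fun f hf h0 => ?_)
  by_contra hne
  obtain ⟨x, hx⟩ := Function.ne_iff.mp hne
  have hxS : Rep (x a, x b, x c) := by
    by_contra hc
    exact hx (hf x (by simpa [S] using hc))
  have hA2 : ∀ j, j = a ∨ j = b ∨ j = c → ∃ ν : F, ((A' * (A' ∘ σ.symm)) j : Mm) = ν • 1 := by
    have hs : ∀ j, j = a ∨ j = b ∨ j = c → ∃ ν : F, (A' j : Mm) = ν • 1 := by
      rintro j (rfl | rfl | rfl)
      exacts [⟨μ, hμ⟩, ⟨1, by rw [e1]; simp⟩, ⟨1, by rw [e2]; simp⟩]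
    intro j hj
    obtain ⟨ν, hν⟩ := hs j hj
    obtain ⟨ν', hν'⟩ := hs (σ.symm j) (by rcases hj with rfl | rfl | rfl <;> simp [sa, sb, sc])
    exact ⟨ν' * ν, by simp [hν, hν', smul_smul]⟩
  rw [Matrix.add_mulVec, Matrix.add_mulVec, Matrix.one_mulVec] at h0
  have h1 : ((w' : MT) *ᵥ f) x = 0 := by
    by_contra hc
    obtain ⟨y, hy, hyx⟩ := col A' σ f x hc
    have yS : Rep (y a, y b, y c) := by
      by_contra h
      exact hy (hf y (by simpa [S] using h))
    have ea := hyx a ⟨μ, hμ⟩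
    have eb := hyx b ⟨1, by rw [e1]; simp⟩
    have ec := hyx c ⟨1, by rw [e2]; simp⟩
    rw [sa] at ea; rw [sb] at eb; rw [sc] at ec
    simp only [Rep, ea, eb, ec] at hxS yS
    omega
  have h2 : (((w' : MT) * (w' : MT)) *ᵥ f) x = 0 := by
    by_contra hcon
    have ew : (w' : MT) * (w' : MT) =
        ((pureGL (A' * (A' ∘ σ.symm)) * permGL k F (σ * σ) : GL (Fin t → Fin k) F) : MT) := by
      rw [← Units.val_mul, hw', wr_mul]
    rw [ew] at hcon
    obtain ⟨y, hy, hyx⟩ := col _ _ f x hcon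
    have yS : Rep (y a, y b, y c) := by
      by_contra h
      exact hy (hf y (by simpa [S] using h))
    have ea := hyx a (hA2 a (Or.inl rfl))
    have eb := hyx b (hA2 b (Or.inr (Or.inl rfl)))
    have ec := hyx c (hA2 c (Or.inr (Or.inr rfl)))
    have s2 : ∀ p q : Fin t, σ (σ q) = p → (σ * σ).symm p = q := fun p q h => by
      rw [Equiv.symm_apply_eq, Equiv.Perm.mul_apply, h]
    rw [s2 a b (by rw [← hc, hca])] at ea
    rw [s2 b c (by rw [hca, ← hb])] at eb
    rw [s2 c a (by rw [← hb, ← hc])] at ec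
    simp only [Rep, ea, eb, ec] at hxS yS
    omega
  have := congrFun h0 x
  rw [Pi.add_apply, Pi.add_apply, h1, h2, add_zero, add_zero] at this
  exact hx this

/-- A lower bound for the rank of a factor operator. -/
theorem mul_pow_le_rank (j : Fin t) {d : ℕ} (hd : d ≤ k) {X : Mm} (L R : Mm)
    (h : L * X * R = Matrix.diagonal fun r : Fin k => if (r : ℕ) < d then (1 : F) else 0) :
    d * k ^ (t - 1) ≤ (fa j X : MT).rank := by
  classical
  have hdiag : (fa j (Matrix.diagonal fun r : Fin k => if (r : ℕ) < d then (1 : F) else 0) : MT) =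
      Matrix.diagonal fun x : Fin t → Fin k => if (x j : ℕ) < d then (1 : F) else 0 := by
    ext x y
    rw [fa_apply, Matrix.diagonal_apply, Matrix.diagonal_apply]
    by_cases hxy : x = y
    · subst hxy; simp
    · rw [if_neg hxy]
      split_ifs with h1 h2 <;> try rfl
      all_goals exact absurd (funext fun l => if hl : l = j then by subst hl; assumption else h1 l hl) hxy
  have hrank : ((fa j X : MT)).rank ≥
      (fa j (L * X * R) : MT).rank := by
    rw [map_mul, map_mul]
    exact (Matrix.rank_mul_le_left _ _).trans (Matrix.rank_mul_le_right _ _)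
  refine le_trans ?_ hrank
  rw [h, hdiag, Matrix.rank_diagonal]
  let e : Fin d × ({l : Fin t // l ≠ j} → Fin k) →
      {x : Fin t → Fin k // (if (x j : ℕ) < d then (1 : F) else 0) ≠ 0} :=
    fun p => ⟨fun l => if hl : l = j then Fin.castLE hd p.1 else p.2 ⟨l, hl⟩, by simp⟩
  have he : Function.Injective e := fun p q hpq => by
    have h' := congrArg Subtype.val hpq
    refine Prod.ext (Fin.castLE_injective hd ?_) (funext fun l => ?_)
    · simpa [e] using congrFun h' j
    · simpa [e, l.2] using congrFun h' l.1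
  have := Fintype.card_le_of_injective e he
  simpa [Fintype.card_subtype_compl] using this

/-- Vectors with prescribed independent images give the diagonal after dressing. -/
theorem exists_dress {d : ℕ} (hd : d ≤ k) (X : Mm) (u α : Fin d → Vk)
    (h : ∀ r s, α r ⬝ᵥ (X *ᵥ u s) = if r = s then 1 else 0) (φ z : Vk) (hXz : X *ᵥ z = 0)
    (hφz : φ ⬝ᵥ z = 1 ∨ (φ = 0 ∧ z = 0)) :
    ∃ L R : Mm, L * X * R = (Matrix.diagonal fun r : Fin k => if (r : ℕ) < d then (1 : F) else 0) ∧
      R * (L * X * R) = R ∧ φ ᵥ* R = 0 := by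
  classical
  let L : Mm := Matrix.of fun r => if hr : (r : ℕ) < d then α ⟨r, hr⟩ else 0
  let R : Mm := Matrix.of fun i r => if hr : (r : ℕ) < d then (u ⟨r, hr⟩ - (φ ⬝ᵥ u ⟨r, hr⟩) • z) i else 0
  have colR : ∀ r : Fin k, (fun i => R i r) =
      if hr : (r : ℕ) < d then u ⟨r, hr⟩ - (φ ⬝ᵥ u ⟨r, hr⟩) • z else 0 := fun r => by
    funext i
    by_cases hr : (r : ℕ) < d <;> simp [R, hr]
  have hLXR : L * X * R = Matrix.diagonal fun r : Fin k => if (r : ℕ) < d then (1 : F) else 0 := by
    ext r s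
    rw [mul_assoc, Matrix.mul_apply_eq_vecMul, Matrix.diagonal_apply]
    show (L r ᵥ* (X * R)) s = _
    rw [← Matrix.vecMul_vecMul]
    show (L r ᵥ* X) ⬝ᵥ (fun i => R i s) = _
    rw [← Matrix.dotProduct_mulVec, colR]
    by_cases hs : (s : ℕ) < d
    · rw [dif_pos hs, Matrix.mulVec_sub, Matrix.mulVec_smul, hXz, smul_zero, sub_zero]
      by_cases hr : (r : ℕ) < d
      · rw [show L r = α ⟨r, hr⟩ from funext fun i => by simp [L, hr], h]
        simp [Fin.ext_iff, hr]
      · rw [show L r = 0 from funext fun i => by simp [L, hr], zero_dotProduct, if_neg]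
        intro e; exact hr (e ▸ hs)
    · rw [dif_neg hs, Matrix.mulVec_zero, dotProduct_zero]
      split_ifs with e he
      · exact absurd (e ▸ he) hs
      · rfl
      · rfl
  refine ⟨L, R, hLXR, ?_, funext fun r => ?_⟩
  · rw [hLXR]
    ext i s
    rw [Matrix.mul_diagonal]
    by_cases hs : (s : ℕ) < d <;> simp [R, hs]
  · show φ ⬝ᵥ (fun i => R i r) = 0
    rw [colR]
    by_cases hr : (r : ℕ) < d
    · rw [dif_pos hr, dotProduct_sub, dotProduct_smul]
      rcases hφz with h1 | ⟨h1, -⟩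
      · simp [h1]
      · simp [h1]
    · rw [dif_neg hr, dotProduct_zero]

theorem nilp_eq_zero {ι : Type} [Fintype ι] [DecidableEq ι] {M : Matrix ι ι F} (hM : IsNilpotent M)
    (S : Set (ι → F)) (hS : ∀ v ∈ S, M *ᵥ v ∈ S) (hinj : ∀ v ∈ S, M *ᵥ v = 0 → v = 0)
    {v : ι → F} (hv : v ∈ S) : v = 0 := by
  obtain ⟨n, hn⟩ := hM
  have : ∀ n, ∀ v ∈ S, (M ^ n) *ᵥ v = 0 → v = 0 := fun n => by
    induction n with
    | zero => intro v _ h; simpa using h
    | succ n ih =>
      intro v hv h
      refine hinj v hv (ih _ (hS v hv) ?_)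
      rwa [Matrix.mulVec_mulVec, ← pow_succ]
  exact this n v hv (by rw [hn, Matrix.zero_mulVec])

/-- The product of a factor and a commuting unipotent operator is far from the identity. -/
theorem le_rank_factor_mul (j : Fin t) {A : Mm} {B : MT} (hB : ∀ Y : Mm, Commute B (fa j Y))
    (hnil : IsNilpotent (B - 1)) {L R : Mm} {d : ℕ} (hd : d ≤ k)
    (hLR : L * (A - 1) * R = (Matrix.diagonal fun r : Fin k => if (r : ℕ) < d then (1 : F) else 0))
    (hR : R * (L * (A - 1) * R) = R) :
    d * k ^ (t - 1) ≤ (fa j A * B - 1).rank ∧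
      (∀ φ z : Vk, φ ⬝ᵥ z = 1 → (A - 1) *ᵥ z = 0 → φ ᵥ* (A - 1) = 0 → φ ᵥ* R = 0 → B ≠ 1 →
        d * k ^ (t - 1) + 1 ≤ (fa j A * B - 1).rank) := by
  classical
  set N : MT := fa j (A - 1) with hN
  set M : MT := B - 1 with hM
  set Y : MT := fa j A * B - 1 with hY
  have hMc : ∀ Z : Mm, Commute M (fa j Z) := fun Z => (hB Z).sub_left (Commute.one_left _)
  have hYeq : Y = N * B + M := by rw [hY, hN, hM, map_sub, map_one]; noncomm_ring
  have hinjN : ∀ v, N *ᵥ ((fa j R : MT) *ᵥ v) = 0 → (fa j R : MT) *ᵥ v = 0 := fun v hv => by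
    have e : (fa j R : MT) = fa j R * (fa j L * (N * fa j R)) := by
      conv_lhs => rw [← hR]
      rw [hN, ← map_mul, ← map_mul, ← map_mul, mul_assoc L]
    conv_lhs => rw [e]
    rw [← Matrix.mulVec_mulVec, ← Matrix.mulVec_mulVec, ← Matrix.mulVec_mulVec, hv,
      Matrix.mulVec_zero, Matrix.mulVec_zero]
  set S1 : Submodule F ((Fin t → Fin k) → F) := LinearMap.range (Matrix.mulVecLin (fa j R : MT)) with hS1
  have hS1dim : d * k ^ (t - 1) ≤ Module.finrank F S1 := by
    refine le_trans (mul_pow_le_rank (t := t) j hd (X := R) (L * (A - 1)) 1 ?_) le_rfl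
    rw [mul_one, hLR]
  have hker : ∀ v ∈ S1, Y *ᵥ v = 0 → v = 0 := by
    intro v hv
    intro hv0
    refine nilp_eq_zero hnil {u | u ∈ S1 ∧ Y *ᵥ u = 0} ?_ ?_ ⟨hv, hv0⟩
    · rintro u ⟨⟨w, rfl⟩, hu⟩
      refine ⟨⟨M *ᵥ w, ?_⟩, ?_⟩
      · show (fa j R : MT) *ᵥ (M *ᵥ w) = (B - 1) *ᵥ ((fa j R : MT) *ᵥ w)
        rw [Matrix.mulVec_mulVec, Matrix.mulVec_mulVec, ← (hMc R).eq]
      · have hYM : Y * M = M * Y := by
          rw [hY]
          simp only [sub_mul, mul_sub, one_mul, mul_one, mul_assoc]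
          rw [← mul_assoc M (fa j A), (hMc A).eq, mul_assoc, hM]
          noncomm_ring
        rw [Matrix.mulVec_mulVec, hYM, ← Matrix.mulVec_mulVec, hu, Matrix.mulVec_zero]
    · rintro u ⟨⟨w, rfl⟩, hu⟩ hMu
      rw [hYeq, Matrix.add_mulVec, hMu, add_zero] at hu
      have hBu : B *ᵥ (Matrix.mulVecLin (fa j R : MT) w) = Matrix.mulVecLin (fa j R : MT) w := by
        rw [hM, Matrix.sub_mulVec, Matrix.one_mulVec, sub_eq_zero] at hMu
        exact hMu
      rw [← Matrix.mulVec_mulVec, hBu] at hu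
      exact hinjN w hu
  refine ⟨?_, fun φ z hφz hz hφ hφR hB1 => ?_⟩
  · refine hS1dim.trans ?_
    let T := (Matrix.mulVecLin Y).comp S1.subtype
    have hinj : Function.Injective T := by
      rw [injective_iff_map_eq_zero]
      intro v hv
      exact Subtype.ext (hker v v.2 hv)
    rw [← LinearMap.finrank_range_of_inj hinj]
    exact Submodule.finrank_mono (LinearMap.range_comp_le_range _ _)
  · set Q : MT := fa j (vecMulVec z φ) with hQ
    have hNQ : N * Q = 0 := by rw [hN, hQ, ← map_mul, Matrix.mul_vecMulVec, hz]; simp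
    have hQN : Q * N = 0 := by rw [hN, hQ, ← map_mul, Matrix.vecMulVec_mul, hφ]; simp
    have hQR : Q * fa j R = 0 := by rw [hQ, ← map_mul, Matrix.vecMulVec_mul, hφR]; simp
    have hQQ : Q * Q = Q := by rw [hQ, ← map_mul, vecMulVec_mul_vecMulVec, hφz, one_smul]
    have hMQ : M * Q ≠ 0 := by
      intro h0
      refine hB1 (sub_eq_zero.1 ?_)
      rw [← hM]
      calc M = M * fa j (∑ r : Fin k, vecMulVec (Pi.single r 1) φ * vecMulVec z φ *
              vecMulVec z (Pi.single r 1)) := by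
            simp only [vecMulVec_mul_vecMulVec, hφz, one_smul]
            rw [show ∑ r : Fin k, vecMulVec (Pi.single r (1 : F)) (Pi.single r 1) = (1 : Mm) by
              simp only [← single_eq_single_vecMulVec_single]
              exact (Matrix.sum_single_eq_diagonal 1).trans Matrix.diagonal_one, map_one, mul_one]
        _ = 0 := by
            rw [map_sum, Finset.mul_sum]
            refine Finset.sum_eq_zero fun r _ => ?_
            rw [map_mul, map_mul, ← hQ, ← mul_assoc, ← mul_assoc, (hMc _).eq, mul_assoc (fa j _) M, h0,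
              mul_zero, zero_mul]
    obtain ⟨v₀, hv₀⟩ : ∃ v, M *ᵥ (Q *ᵥ v) ≠ 0 := by
      by_contra hc
      push Not at hc
      exact hMQ (Matrix.ext_of_mulVec_single fun i => by
        rw [← Matrix.mulVec_mulVec, hc, Matrix.zero_mulVec])
    set f₀ : (Fin t → Fin k) → F := Q *ᵥ v₀ with hf₀
    let T : (S1 × F) →ₗ[F] ((Fin t → Fin k) → F) :=
      (Matrix.mulVecLin Y).comp (S1.subtype.coprod (LinearMap.toSpanSingleton F _ f₀))
    have hinj : Function.Injective T := by
      rw [injective_iff_map_eq_zero]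
      rintro ⟨⟨v, w, rfl⟩, s⟩ hv
      simp only [T, LinearMap.comp_apply, LinearMap.coprod_apply, Submodule.coe_subtype,
        LinearMap.toSpanSingleton_apply, Matrix.mulVecLin_apply] at hv
      rw [Matrix.mulVec_add, Matrix.mulVec_smul] at hv
      have hYf : Y *ᵥ f₀ = M *ᵥ f₀ := by
        rw [hYeq, Matrix.add_mulVec, ← Matrix.mulVec_mulVec, hf₀, Matrix.mulVec_mulVec _ B,
          (hB _).eq, ← Matrix.mulVec_mulVec, Matrix.mulVec_mulVec _ N, hNQ, Matrix.zero_mulVec, zero_add]
      have hQY : Q * Y = M * Q := by rw [hYeq, mul_add, ← mul_assoc, hQN, zero_mul, zero_add, (hMc _).eq]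
      have hs : s = 0 := by
        have h1 := congrArg (Q *ᵥ ·) hv
        simp only [Matrix.mulVec_add, Matrix.mulVec_smul, Matrix.mulVec_zero, Matrix.mulVec_mulVec] at h1
        rw [← mul_assoc Q Y, hQY, mul_assoc M Q, hQR, mul_zero, Matrix.zero_mulVec, zero_add,
          ← Matrix.mulVec_mulVec,
          show Q *ᵥ f₀ = f₀ by rw [hf₀, Matrix.mulVec_mulVec, hQQ]] at h1
        exact (smul_eq_zero.1 h1).resolve_right hv₀
      subst hs
      rw [zero_smul, add_zero] at hv
      have h2 := hker _ ⟨w, rfl⟩ hv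
      exact Prod.ext (Subtype.ext h2) rfl
    have h3 := LinearMap.finrank_range_of_inj hinj
    rw [Module.finrank_prod, Module.finrank_self] at h3
    have h4 := Submodule.finrank_mono
      (LinearMap.range_comp_le_range (S1.subtype.coprod (LinearMap.toSpanSingleton F _ f₀))
        (Matrix.mulVecLin Y))
    rw [h3] at h4
    exact le_trans (Nat.add_le_add_right hS1dim 1) h4

end CfsgLib.MaxSub.TensorPowOrth
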