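import Cfsg.Agent.Lib.MaxSub.TensorPowOrth.Zs

/-!
Isometries trivial on the flag of an isotropic slice: their Levi components and their commutators.
-/

set_option autoImplicit false
set_option maxHeartbeats 800000
set_option linter.unusedSectionVars false

namespace CfsgLib.MaxSub.TensorPowOrth

open Matrix Module
open CfsgLib.Aschbacher CfsgLib.MaxSub.TensorPow
open CfsgLib.MaxSub.TensorOO (exists_pair split_pair pairPerp mem_pairPerp proj_pairPerp eich_apply)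

variable {F : Type*} [Field F] {k t : ℕ}

local notation "Vk" => Fin k → F
local notation "Mm" => Matrix (Fin k) (Fin k) F
local notation "MT" => Matrix (Fin t → Fin k) (Fin t → Fin k) F

namespace OForm

variable (Φ : OForm F k)

/-- The projection to the perpendicular of a pair. -/
def pr1 (e e' : Vk) : Mm := 1 - Φ.rk e e' - Φ.rk e' e

/-- The projection to the perpendicular of a pair, in a factor of the tensor power. -/
noncomputable def Pr (i : Fin t) (e e' : Vk) : MT := fa i (Φ.pr1 e e')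

/-- Trivial on the flag of an isotropic slice. -/
def DT (i : Fin t) (e : Vk) (h : GL (Fin t → Fin k) F) : Prop :=
  Φ.Iso h ∧ (h : MT) * Φ.P i e e = Φ.P i e e ∧
    ∀ x z, Φ.β x e = 0 → Φ.β z e = 0 → Φ.comp i z x (h : MT) = Φ.β z x • (1 : MT)

/-- The Levi component. -/
noncomputable def Ga (i : Fin t) (e' x : Vk) (h : GL (Fin t → Fin k) F) : MT :=
  Φ.comp i e' x ((h : MT) - 1)

/-- The Levi part. -/
noncomputable def Lv (i : Fin t) (e e' : Vk) (h : GL (Fin t → Fin k) F) : MT :=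
  Φ.P i e e' * ((h : MT) - 1) * Φ.Pr i e e'

/-- The central part. -/
noncomputable def Tp (i : Fin t) (e' : Vk) (h : GL (Fin t → Fin k) F) : MT :=
  Φ.comp i e' e' ((h : MT) - 1)

theorem pr1_mulVec (e e' x : Vk) :
    Φ.pr1 e e' *ᵥ x = x - Φ.β x e' • e - Φ.β x e • e' := by
  rw [pr1, Matrix.sub_mulVec, Matrix.sub_mulVec, Matrix.one_mulVec, rk_mulVec, rk_mulVec,
    Φ.beta_symm x e, Φ.beta_symm x e']

theorem adj1_pr1 (e e' : Vk) : Φ.adj1 (Φ.pr1 e e') = Φ.pr1 e e' := by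
  rw [pr1, adj1_sub, adj1_sub, adj1_one, adj1_rk, adj1_rk]; abel

theorem adj_Pr (i : Fin t) (e e' : Vk) : Φ.adj (Φ.Pr i e e' : MT) = Φ.Pr i e e' := by
  rw [Pr, adj_fa, adj1_pr1]

theorem one_split (i : Fin t) (e e' : Vk) :
    (1 : MT) = Φ.P i e e' + Φ.P i e' e + Φ.Pr i e e' := by
  rw [Pr, pr1, map_sub, map_sub, map_one, P, P]; abel

theorem Pr_P (i : Fin t) (e e' x y : Vk) :
    Φ.Pr i e e' * Φ.P i x y = (Φ.P i (Φ.pr1 e e' *ᵥ x) y : MT) := by rw [Pr, fa_mul_P]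

theorem P_Pr (i : Fin t) (e e' x y : Vk) :
    Φ.P i x y * Φ.Pr i e e' = (Φ.P i x (Φ.pr1 e e' *ᵥ y) : MT) := by
  rw [Pr, P_mul_fa, adj1_pr1]

theorem cm_Pr {i j : Fin t} (h : j ≠ i) (e e' : Vk) : Cm i (Φ.Pr j e e' : MT) := cm_fa h _

theorem comp_P_left (i : Fin t) (a b x y : Vk) (X : MT) :
    Φ.comp i x y (Φ.P i a b * X) = Φ.β x a • Φ.comp i b y X := by
  rw [show Φ.P i a b * X = fa i (Φ.rk a b) * X * fa i (1 : Mm) by rw [map_one, mul_one]; rfl,
    comp_conj, Matrix.one_mulVec, adj1_rk, rk_mulVec, comp_smul_left, Φ.beta_symm x a]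

theorem comp_P_right (i : Fin t) (a b x y : Vk) (X : MT) :
    Φ.comp i x y (X * Φ.P i a b) = Φ.β b y • Φ.comp i x a X := by
  rw [show X * Φ.P i a b = fa i (1 : Mm) * X * fa i (Φ.rk a b) by rw [map_one, one_mul]; rfl,
    comp_conj, adj1_one, Matrix.one_mulVec, rk_mulVec, comp_smul_right]

variable {Φ} {i : Fin t} {e e' : Fin k → F} {h h' : GL (Fin t → Fin k) F}

section pair

variable (he : Φ.β e e = 0) (he' : Φ.β e' e' = 0) (hee : Φ.β e e' = 1)
include he he' hee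

theorem pr1_self : Φ.pr1 e e' *ᵥ e = 0 := by
  rw [pr1_mulVec, he, hee, one_smul, zero_smul, sub_self, sub_zero]

theorem pr1_self' : Φ.pr1 e e' *ᵥ e' = 0 := by
  rw [pr1_mulVec, he', Φ.sform.symm e e', hee, one_smul, zero_smul, sub_zero, sub_self]

theorem pr1_perp {x : Vk} (hx : x ∈ pairPerp Φ.sform e e') : Φ.pr1 e e' *ᵥ x = x := by
  obtain ⟨h1, h2⟩ := (mem_pairPerp Φ.sform).1 hx
  rw [pr1_mulVec, h1, h2, zero_smul, zero_smul, sub_zero, sub_zero]

theorem pr1_mem (x : Vk) : Φ.pr1 e e' *ᵥ x ∈ pairPerp Φ.sform e e' := by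
  rw [pr1_mulVec]
  exact proj_pairPerp Φ.sform he he' hee x

theorem Pr_P_self (y : Vk) : Φ.Pr i e e' * Φ.P i e y = (0 : MT) := by
  rw [Pr_P, pr1_self he he' hee, P_zero_left]

theorem P_Pr_self (x : Vk) : Φ.P i x e * Φ.Pr i e e' = (0 : MT) := by
  rw [P_Pr, pr1_self he he' hee, P_zero_right]

theorem Pr_idem : Φ.Pr i e e' * Φ.Pr i e e' = (Φ.Pr i e e' : MT) := by
  rw [Pr, ← map_mul]
  refine congrArg (fa i) (ext1 fun x => ?_)
  rw [← Matrix.mulVec_mulVec, pr1_perp he he' hee (pr1_mem he he' hee x)]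

/-- The decomposition of an element trivial on the flag. -/
theorem DT.decomp (hD : Φ.DT i e h) :
    (h : MT) = 1 + (Φ.P i e e * Φ.Tp i e' h + Φ.Lv i e e' h - Φ.adj (Φ.Lv i e e' h)) ∧
      Φ.Tp i e' h + Φ.adj (Φ.Tp i e' h) =
        -Φ.comp i e' e' (Φ.Lv i e e' h * Φ.adj (Φ.Lv i e e' h)) := by
  obtain ⟨hI, hP, hflag⟩ := hD
  set D := (h : MT) - 1 with hD
  have hh : (h : MT) = 1 + D := by rw [hD]; abel
  have h1 : D * Φ.P i e e = 0 := by rw [hD, sub_mul, one_mul, hP, sub_self]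
  have hP' : Φ.P i e e * (h : MT) = Φ.P i e e := by
    have e1 := congrArg Φ.adj hP
    rw [adj_mul, adj_P] at e1
    conv_lhs => rw [← e1, mul_assoc, hI, mul_one]
  have h2 : Φ.P i e e * D = 0 := by rw [hD, mul_sub, mul_one, hP', sub_self]
  have hee' : Φ.β e' e = 1 := by rw [Φ.beta_symm e e', hee]
  have h1' : D * Φ.P i e e' = 0 := by
    rw [show Φ.P i e e' = Φ.P i e e * Φ.P i e' e' by rw [P_mul, hee, one_smul], ← mul_assoc, h1,
      zero_mul]
  have h2' : Φ.P i e' e * D = 0 := by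
    rw [show Φ.P i e' e = Φ.P i e' e' * Φ.P i e e by rw [P_mul, hee', one_smul], mul_assoc, h2,
      mul_zero]
  have hKK : Φ.Pr i e e' * D * Φ.Pr i e e' = 0 := Φ.comp_ext i fun x y => by
    have hx := ((mem_pairPerp Φ.sform).1 (pr1_mem he he' hee x)).1
    have hy := ((mem_pairPerp Φ.sform).1 (pr1_mem he he' hee y)).1
    rw [comp_zero, Pr, comp_conj, adj1_pr1, hD, comp_sub, hflag _ _ hy hx,
      Φ.comp_cm cm_one, sub_self]
  set L := Φ.Lv i e e' h with hL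
  have hLv : L = Φ.P i e e' * D * Φ.Pr i e e' := rfl
  set L₂ : MT := Φ.Pr i e e' * D * Φ.P i e' e with hL₂
  have hmid : Φ.P i e e' * D * Φ.P i e' e = Φ.P i e e * Φ.Tp i e' h := Φ.PXP _ _ _ _ _ _
  have hDe : D = Φ.P i e e * Φ.Tp i e' h + L + L₂ := by
    conv_lhs => rw [← one_mul D, ← mul_one (1 * D), Φ.one_split i e e']
    rw [← hmid, hLv, hL₂]
    simp only [add_mul, mul_add, one_mul, mul_one]
    rw [h2', mul_assoc (Φ.P i e e') D (Φ.P i e e'), h1', mul_zero,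
      mul_assoc (Φ.Pr i e e') D (Φ.P i e e'), h1', mul_zero, zero_mul, zero_mul, hKK]
    simp only [zero_mul, add_zero, zero_add]
    abel
  have hT : Cm i (Φ.Tp i e' h) := Φ.cm_comp _ _ _ _
  have hTa : Cm i (Φ.adj (Φ.Tp i e' h)) := Cm.adj Φ hT
  -- the adjoint
  have hadjL : Φ.adj L = Φ.Pr i e e' * Φ.adj D * Φ.P i e' e := by
    rw [hLv, adj_mul, adj_mul, adj_Pr, adj_P, mul_assoc]
  have hadjL₂ : Φ.adj L₂ = Φ.P i e e' * Φ.adj D * Φ.Pr i e e' := by
    rw [hL₂, adj_mul, adj_mul, adj_Pr, adj_P, mul_assoc]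
  have hiso : Φ.adj D + D + Φ.adj D * D = 0 := by
    have e1 : Φ.adj (h : MT) * (h : MT) = 1 := hI
    rw [hh, adj_add, adj_one] at e1
    rw [← sub_eq_zero.2 e1]
    simp only [add_mul, mul_add, one_mul, mul_one]
    abel
  have hz : Φ.P i e' e * L = 0 ∧ Φ.P i e' e * Φ.P i e e = 0 := by
    constructor
    · rw [hLv, mul_assoc (Φ.P i e e'), ← mul_assoc, P_mul, he, zero_smul, zero_mul]
    · rw [P_mul, he, zero_smul]
  have hPrD : Φ.Pr i e e' * D = L₂ := by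
    conv_lhs => rw [← mul_one (Φ.Pr i e e' * D), Φ.one_split i e e']
    rw [mul_add, mul_add, mul_assoc (Φ.Pr i e e') D (Φ.P i e e'), h1', mul_zero, hKK, zero_add,
      add_zero]
  have hprod : Φ.adj D * D = Φ.adj L₂ * L₂ := by
    have a1 : Φ.adj D * Φ.P i e e' = 0 := by
      rw [← Φ.adj_adj (Φ.adj D * Φ.P i e e'), adj_mul, adj_adj, adj_P, h2', adj_zero]
    have a2 : Φ.adj D * Φ.Pr i e e' = Φ.adj L₂ := by rw [← hPrD, adj_mul, adj_Pr]
    conv_lhs => rw [← mul_one (Φ.adj D), Φ.one_split i e e']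
    rw [mul_add, mul_add, a1, zero_add, add_mul, mul_assoc _ (Φ.P i e' e), h2', mul_zero, zero_add,
      ← hPrD, adj_mul, adj_Pr]
    conv_lhs => rw [show Φ.Pr i e e' = Φ.Pr i e e' * Φ.Pr i e e' from
      (Pr_idem he he' hee).symm]
    simp only [mul_assoc]
  have hL2 : L₂ = -Φ.adj L := by
    have e1 := congrArg (fun Z => Φ.Pr i e e' * Z * Φ.P i e' e) hiso
    simp only [mul_add, add_mul, mul_zero, zero_mul] at e1
    rw [hprod, hadjL₂, mul_assoc (Φ.P i e e') (Φ.adj D), mul_assoc (Φ.P i e e'),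
      ← mul_assoc (Φ.Pr i e e') (Φ.P i e e'), Pr_P_self he he' hee, zero_mul, zero_mul, add_zero,
      ← hadjL, ← hL₂] at e1
    exact eq_neg_of_add_eq_zero_right e1
  refine ⟨by rw [hh, hDe, hL2]; abel, ?_⟩
  have e1 := congrArg (Φ.comp i e' e') hiso
  rw [comp_add, comp_add, comp_zero, hprod, hL2, adj_neg, adj_adj, neg_mul_neg] at e1
  have e2 : Φ.comp i e' e' (Φ.adj D) = Φ.adj (Φ.Tp i e' h) := by
    rw [Tp, ← hD, adj_comp]
  rw [e2, show Φ.comp i e' e' D = Φ.Tp i e' h from rfl] at e1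
  exact eq_neg_of_add_eq_zero_left (by rw [← e1]; abel)

/-- Products of Levi parts. -/
theorem comp_Lv_mul (hD : Φ.DT i e h) (hD' : Φ.DT i e h') (x y : Vk) :
    Φ.comp i x y (Φ.Lv i e e' h * Φ.adj (Φ.Lv i e e' h')) =
      (Φ.β x e * Φ.β e y) • Φ.comp i e' e' (Φ.Lv i e e' h * Φ.adj (Φ.Lv i e e' h')) := by
  have e1 : Φ.Lv i e e' h * Φ.adj (Φ.Lv i e e' h') = Φ.P i e e *
      Φ.comp i e' e' (((h : MT) - 1) * Φ.Pr i e e' * Φ.Pr i e e' * Φ.adj ((h' : MT) - 1)) := by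
    rw [← Φ.PXP]
    simp only [Lv, adj_mul, adj_Pr, adj_P, mul_assoc]
  have hee' : Φ.β e' e = 1 := by rw [Φ.beta_symm e e', hee]
  rw [e1, Φ.comp_P_mul (Φ.cm_comp _ _ _ _), Φ.comp_P_mul (Φ.cm_comp _ _ _ _), hee', hee, one_mul,
    one_smul]

end pair

end OForm

end CfsgLib.MaxSub.TensorPowOrth
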