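import Cfsg.Agent.Lib.MaxSub.TensorPowOrth.FlagScalar
import Cfsg.Agent.Lib.MaxSub.TensorPowOrth.Similar

/-!
The stabiliser of an isotropic slice: its elements are similitudes of the factor and of the other
factors, times Eichler transformations and elements trivial on the perpendicular of the slice.
-/

set_option autoImplicit false
set_option maxHeartbeats 800000
set_option linter.unusedSectionVars false

namespace CfsgLib.MaxSub.TensorPowOrth

open Matrix Module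
open CfsgLib.Aschbacher CfsgLib.MaxSub.TensorPow
open CfsgLib.MaxSub.TensorOO (exists_pair split_pair pairPerp mem_pairPerp eich_apply pairPerp_nondeg
  exists_two_pairPerp exists_aniso_pairPerp)

variable {F : Type*} [Field F] {k t : ℕ}

local notation "Vk" => Fin k → F
local notation "Mm" => Matrix (Fin k) (Fin k) F
local notation "MT" => Matrix (Fin t → Fin k) (Fin t → Fin k) F

namespace OForm

variable (Φ : OForm F k)

/-- A similitude of a factor fixing a point, and one of the other factors. -/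
structure Frame (i : Fin t) (e e' : Vk) (M : Mm) (α : MT) (ν : F) : Prop where
  ne : ν ≠ 0
  sim : Φ.adj1 M * M = ν • 1
  cm : Cm i α
  adjα : Φ.adj α * α = ν⁻¹ • 1
  αadj : α * Φ.adj α = ν⁻¹ • 1
  fix : M *ᵥ e = e
  fix' : M *ᵥ e' = ν • e'

variable {Φ} {c₀ : F} {i : Fin t} {e e' : Fin k → F} {M : Matrix (Fin k) (Fin k) F}
  {α : Matrix (Fin t → Fin k) (Fin t → Fin k) F} {ν : F}

theorem Frame.adj_fix (Fr : Φ.Frame i e e' M α ν) : Φ.adj1 M *ᵥ e = ν • e := by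
  have h := congrArg (Φ.adj1 M *ᵥ ·) Fr.fix
  simp only [Matrix.mulVec_mulVec, Fr.sim, Matrix.smul_mulVec, Matrix.one_mulVec] at h
  exact h.symm

theorem Frame.adj_fix' (Fr : Φ.Frame i e e' M α ν) : Φ.adj1 M *ᵥ e' = e' := by
  have h := congrArg (Φ.adj1 M *ᵥ ·) Fr.fix'
  simp only [Matrix.mulVec_mulVec, Fr.sim, Matrix.smul_mulVec, Matrix.one_mulVec,
    Matrix.mulVec_smul] at h
  exact (smul_right_injective Vk Fr.ne h).symm

/-- The pure element of a frame. -/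
theorem Frame.exists_p (Fr : Φ.Frame i e e' M α ν) :
    ∃ p : GL (Fin t → Fin k) F, Φ.Iso p ∧ (p : MT) = fa i M * α ∧
      ∀ X : MT, (p : MT) * X * ((p⁻¹ : GL (Fin t → Fin k) F) : MT) =
        fa i M * (α * X * Φ.adj α) * fa i (Φ.adj1 M) := by
  have hsimM : M * Φ.adj1 M = ν • 1 := sim_comm Fr.ne Fr.sim
  have h1 : (fa i M * α) * (Φ.adj α * fa i (Φ.adj1 M)) = (1 : MT) := by
    rw [mul_assoc, ← mul_assoc α, Fr.αadj, Matrix.smul_mul, one_mul, Matrix.mul_smul, ← map_mul,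
      hsimM, map_smul, map_one, smul_smul, inv_mul_cancel₀ Fr.ne, one_smul]
  refine ⟨⟨fa i M * α, Φ.adj α * fa i (Φ.adj1 M), h1, mul_eq_one_comm.1 h1⟩, ?_, rfl, fun X => ?_⟩
  · show Φ.adj (fa i M * α) * (fa i M * α) = 1
    rw [adj_mul, adj_fa]
    exact mul_eq_one_comm.1 h1
  · show fa i M * α * X * (Φ.adj α * fa i (Φ.adj1 M)) = _
    simp only [mul_assoc]

theorem Frame.conj_fa (Fr : Φ.Frame i e e' M α ν) {p : GL (Fin t → Fin k) F}
    (hp : ∀ X : MT, (p : MT) * X * ((p⁻¹ : GL (Fin t → Fin k) F) : MT) =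
        fa i M * (α * X * Φ.adj α) * fa i (Φ.adj1 M)) (N : Mm) :
    (p : MT) * fa i N * ((p⁻¹ : GL (Fin t → Fin k) F) : MT) =
      fa i (M * N * (ν⁻¹ • Φ.adj1 M)) := by
  rw [hp, (Fr.cm N).eq, mul_assoc (fa i N), Fr.αadj, Matrix.mul_smul, mul_one, Matrix.mul_smul,
    Matrix.smul_mul, ← map_mul, ← map_mul, ← map_smul]
  congr 1
  rw [Matrix.mul_smul]

/-- Conjugating a central element. -/
theorem Frame.conj_P (Fr : Φ.Frame i e e' M α ν) {p : GL (Fin t → Fin k) F}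
    (hp : ∀ X : MT, (p : MT) * X * ((p⁻¹ : GL (Fin t → Fin k) F) : MT) =
        fa i M * (α * X * Φ.adj α) * fa i (Φ.adj1 M)) {X : MT} (hX : Cm i X) :
    (p : MT) * (Φ.P i e e * X) * ((p⁻¹ : GL (Fin t → Fin k) F) : MT) =
      Φ.P i e e * (α * X * Φ.adj α) := by
  have hc : Cm i (α * X * Φ.adj α) := (Fr.cm.mul hX).mul (Cm.adj Φ Fr.cm)
  rw [hp, show α * (Φ.P i e e * X) * Φ.adj α = Φ.P i e e * (α * X * Φ.adj α) by
      rw [← mul_assoc α, Fr.cm.P_comm]; simp only [mul_assoc],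
    ← mul_assoc, fa_mul_P, Fr.fix, mul_assoc, (hc _).eq, ← mul_assoc, P_mul_fa, adj1_adj1, Fr.fix]

/-- The image of an element trivial on the flag under the pure element. -/
theorem Frame.conj_DT (Fr : Φ.Frame i e e' M α ν) {p h : GL (Fin t → Fin k) F} (hpI : Φ.Iso p)
    (hp : ∀ X : MT, (p : MT) * X * ((p⁻¹ : GL (Fin t → Fin k) F) : MT) =
        fa i M * (α * X * Φ.adj α) * fa i (Φ.adj1 M)) (hD : Φ.DT i e h) :
    Φ.DT i e (p * h * p⁻¹) ∧
      ∀ x, Φ.Ga i e' x (p * h * p⁻¹) = α * Φ.Ga i e' (Φ.adj1 M *ᵥ x) h * Φ.adj α := by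
  have hcomp : ∀ z x X, Φ.comp i z x ((p : MT) * X * ((p⁻¹ : GL (Fin t → Fin k) F) : MT)) =
      α * Φ.comp i (Φ.adj1 M *ᵥ z) (Φ.adj1 M *ᵥ x) X * Φ.adj α := fun z x X => by
    rw [hp, comp_conj, Φ.comp_mul_cm (Cm.adj Φ Fr.cm), Φ.cm_mul_comp Fr.cm]
  have hv : ((p * h * p⁻¹ : GL (Fin t → Fin k) F) : MT) =
      (p : MT) * (h : MT) * ((p⁻¹ : GL (Fin t → Fin k) F) : MT) := by simp
  refine ⟨⟨(hpI.mul hD.1).mul hpI.inv, ?_, fun x z hx hz => ?_⟩, fun x => ?_⟩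
  · have h1 : (p : MT) * (Φ.P i e e * 1) * ((p⁻¹ : GL (Fin t → Fin k) F) : MT) =
        ν⁻¹ • Φ.P i e e := by
      rw [Fr.conj_P hp cm_one, mul_one, Fr.αadj, Matrix.mul_smul, mul_one]
    rw [mul_one] at h1
    have h2 : Φ.P i e e = ν • ((p : MT) * Φ.P i e e * ((p⁻¹ : GL (Fin t → Fin k) F) : MT)) := by
      rw [h1, smul_smul, mul_inv_cancel₀ Fr.ne, one_smul]
    rw [hv]
    conv_lhs => rw [h2]
    rw [Matrix.mul_smul]
    simp only [mul_assoc, Units.inv_mul_cancel_left]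
    rw [← mul_assoc (h : MT), hD.2.1, ← mul_assoc (p : MT), ← h2]
  · have hperp : ∀ {y : Vk}, Φ.β y e = 0 → Φ.β (Φ.adj1 M *ᵥ y) e = 0 := fun {y} hy => by
      rw [beta_mulVec, adj1_adj1, Fr.fix, hy]
    rw [hv, hcomp, hD.2.2 _ _ (hperp hx) (hperp hz), beta_mulVec, adj1_adj1, Matrix.mulVec_mulVec,
      sim_comm Fr.ne Fr.sim, Matrix.smul_mulVec, Matrix.one_mulVec, Φ.sform.smul_right,
      Matrix.mul_smul, mul_one, Matrix.smul_mul, Fr.αadj, smul_smul, mul_right_comm,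
      mul_inv_cancel₀ Fr.ne, one_mul]
  · rw [Ga, Ga, hv, show (p : MT) * (h : MT) * ((p⁻¹ : GL (Fin t → Fin k) F) : MT) - 1 =
        (p : MT) * ((h : MT) - 1) * ((p⁻¹ : GL (Fin t → Fin k) F) : MT) by
      rw [mul_sub, sub_mul, mul_one, Units.mul_inv], hcomp, Fr.adj_fix']

section stab

variable {G G' : Subgroup (GL (Fin t → Fin k) F)} (O : Φ.Ov c₀ G) (O' : Φ.Ov c₀ G')
include O O'

variable {g : GL (Fin t → Fin k) F} [Finite F]

/-- The similitude induced by an element fixing a slice. -/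
theorem Ov.stab_sim (hz' : Φ.NoZS G') (he0 : e ≠ 0) (he : Φ.β e e = 0) (he' : Φ.β e' e' = 0)
    (hee : Φ.β e e' = 1) (hg : Φ.Iso g) (hG : ∀ x ∈ G, g * x * g⁻¹ ∈ G') (hα : Cm i α)
    (hgP : (g : MT) * Φ.P i e e = Φ.P i e e * α) :
    ∃ M ν, Φ.Frame i e e' M α ν ∧ ∀ θ ∈ pairPerp Φ.sform e e', M *ᵥ θ ∈ pairPerp Φ.sform e e' ∧
      (g : MT) * Φ.E i e θ * ((g⁻¹ : GL (Fin t → Fin k) F) : MT) =
        Φ.E i e (ν⁻¹ • (M *ᵥ θ)) := by
  set gi : MT := ((g⁻¹ : GL (Fin t → Fin k) F) : MT) with hgi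
  have hee' : Φ.β e' e = 1 := by rw [Φ.beta_symm e e', hee]
  have hPg : Φ.P i e e * gi = Φ.P i e e * Φ.adj α := by
    have h1 := congrArg Φ.adj hgP
    rwa [adj_mul, adj_mul, adj_P, hg.adj_eq, ← hgi, (Cm.adj Φ hα).P_comm] at h1
  -- the inverse of the component
  have hainv : Φ.comp i e' e' (gi * Φ.P i e e) * α = 1 := by
    rw [← Φ.comp_mul_cm hα, mul_assoc, ← hgP, ← mul_assoc, hgi, Units.inv_mul, one_mul, comp_P, hee',
      hee, mul_one, one_smul]
  set ai := Φ.comp i e' e' (gi * Φ.P i e e) with hai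
  have hgiP : gi * Φ.P i e e = Φ.P i e e * ai := by
    calc gi * Φ.P i e e = gi * (Φ.P i e e * α) * ai := by
          rw [mul_assoc, mul_assoc, mul_eq_one_comm.1 hainv, mul_one]
      _ = Φ.P i e e * ai := by rw [← hgP, ← mul_assoc gi, hgi, Units.inv_mul, one_mul]
  have hPPg : (g : MT) * Φ.P i e e * gi = Φ.P i e e * (α * Φ.adj α) := by
    rw [hgP, ← hα.P_comm, mul_assoc α, hPg, ← mul_assoc α, hα.P_comm, mul_assoc]
  -- the images of the Eichler transformations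
  have himg : ∀ θ ∈ pairPerp Φ.sform e e', ∃ l ∈ pairPerp Φ.sform e e',
      (g : MT) * Φ.E i e θ * gi = Φ.E i e l := fun θ hθ => by
    obtain ⟨hθ1, -⟩ := (mem_pairPerp Φ.sform).1 hθ
    obtain ⟨u, hu, huv⟩ := O.eu i e θ he hθ1
    have hv : ((g * u * g⁻¹ : GL (Fin t → Fin k) F) : MT) = (g : MT) * Φ.E i e θ * gi := by
      rw [Units.val_mul, Units.val_mul, huv]
    have hDu := dt_E he hθ1 huv
    have hD : Φ.DT i e (g * u * g⁻¹) := by
      refine ⟨(hg.mul hDu.1).mul hg.inv, ?_, fun x z hx hz => ?_⟩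
      · rw [hv, mul_assoc, hgiP, ← huv, ← mul_assoc, mul_assoc (g : MT), hDu.2.1, hgP, mul_assoc,
          mul_eq_one_comm.1 hainv, mul_one]
      · have hl : Φ.P i θ e * gi = Φ.P i θ e' * (Φ.P i e e * Φ.adj α) := by
          rw [show Φ.P i θ e = Φ.P i θ e' * Φ.P i e e by rw [P_mul, hee', one_smul], mul_assoc, hPg]
        have hr : (g : MT) * Φ.P i e θ = Φ.P i e e * (α * Φ.P i e' θ) := by
          rw [show Φ.P i e θ = Φ.P i e e * Φ.P i e' θ by rw [P_mul, hee, one_smul], ← mul_assoc, hgP,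
            mul_assoc]
        rw [hv, E_eq, mul_add, add_mul, mul_one, hgi, Units.mul_inv, ← hgi, comp_add,
          Φ.comp_cm cm_one, W, mul_sub, sub_mul, mul_sub, sub_mul, Matrix.mul_smul, Matrix.smul_mul,
          hPPg, mul_assoc (g : MT) (Φ.P i θ e), hl, hr, comp_sub, comp_sub, comp_smul]
        simp only [← mul_assoc]
        rw [Φ.comp_mul_cm (Cm.adj Φ hα), comp_P_right, mul_assoc (Φ.P i e e) α,
          mul_assoc (Φ.P i e e) (α * Φ.P i e' θ), comp_P_left, hz, mul_assoc (Φ.P i e e) α,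
          comp_P_left, hz, Φ.beta_symm x e, hx]
        simp
    obtain ⟨l, hl, hlv⟩ := O'.dt_eu hz' he0 he (hG u hu) hD
    rw [hv] at hlv
    refine ⟨l - Φ.β l e' • e, ?_, ?_⟩
    · rw [mem_pairPerp, Φ.sform.sub_left, Φ.sform.smul_left, hl, he, mul_zero, sub_zero,
        Φ.sform.sub_left, Φ.sform.smul_left, hee, mul_one, sub_self]
      exact ⟨rfl, rfl⟩
    · have h1 : Φ.β (Φ.β l e' • e) e = 0 := by rw [Φ.sform.smul_left, he, mul_zero]
      have h2 : Φ.β (l - Φ.β l e' • e) e = 0 := by rw [Φ.sform.sub_left, hl, h1, sub_zero]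
      have h3 : Φ.E i e (Φ.β l e' • e) = (1 : MT) := by
        simp [E_eq, W, P_smul_left, P_smul_right, Φ.sform.smul_left, Φ.sform.smul_right, he]
      conv_lhs => rw [hlv, ← sub_add_cancel l (Φ.β l e' • e)]
      rw [← Φ.E_mul i he h2 h1, h3, mul_one]
  choose! π hπK hπ using himg
  have hkey : ∀ θ ∈ pairPerp Φ.sform e e', ∀ z ∈ pairPerp Φ.sform e e',
      Φ.β z (π θ) • (1 : MT) = Φ.comp i z e' ((g : MT) * Φ.W i θ e * gi) := by
    intro θ hθ z hz
    obtain ⟨hz1, hz2⟩ := (mem_pairPerp Φ.sform).1 hz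
    obtain ⟨hl1, hl2⟩ := (mem_pairPerp Φ.sform).1 (hπK θ hθ)
    have h1 := congrArg (Φ.comp i z e') (hπ θ hθ)
    rw [E_eq, E_eq, mul_add, add_mul, mul_sub, sub_mul, Matrix.mul_smul, Matrix.smul_mul, mul_one,
      hgi, Units.mul_inv, ← hgi, hPPg, comp_add, comp_add, Φ.comp_cm cm_one, comp_sub, comp_sub,
      comp_smul, comp_smul, Φ.comp_P_mul (hα.mul (Cm.adj Φ hα)), hz1, zero_mul, zero_smul,
      smul_zero, sub_zero, comp_P, hz1, zero_mul, zero_smul, smul_zero, sub_zero, comp_W, hee, hz1,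
      zero_mul, sub_zero, mul_one, hz2, zero_smul, zero_add, zero_add] at h1
    exact h1.symm
  have huniq : ∀ l ∈ pairPerp Φ.sform e e', ∀ l' ∈ pairPerp Φ.sform e e',
      (∀ z ∈ pairPerp Φ.sform e e', Φ.β z l • (1 : MT) = Φ.β z l' • 1) → l = l' := by
    intro l hl l' hl' h
    have hne : Nonempty (Fin t → Fin k) := ⟨fun _ => ⟨0, by have := O.hk; omega⟩⟩
    refine sub_eq_zero.1 (pairPerp_nondeg Φ.sform he he' hee _ (sub_mem hl hl') fun z hz => ?_)
    obtain ⟨x₀⟩ := hne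
    have := congrFun (congrFun (h z hz) x₀) x₀
    simp only [Matrix.smul_apply, Matrix.one_apply_eq, smul_eq_mul, mul_one] at this
    rw [Φ.sform.sub_left, Φ.beta_symm z l, Φ.beta_symm z l', this, sub_self]
  have hπadd : ∀ a ∈ pairPerp Φ.sform e e', ∀ b ∈ pairPerp Φ.sform e e',
      π (a + b) = π a + π b := fun a ha b hb => huniq _ (hπK _ (add_mem ha hb)) _
        (add_mem (hπK _ ha) (hπK _ hb)) fun z hz => by
    rw [Φ.sform.add_right, add_smul, hkey _ (add_mem ha hb) z hz, hkey _ ha z hz, hkey _ hb z hz,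
      W_add_left, mul_add, add_mul, comp_add]
  have hπsmul : ∀ (c : F), ∀ a ∈ pairPerp Φ.sform e e', π (c • a) = c • π a := fun c a ha =>
    huniq _ (hπK _ (Submodule.smul_mem _ c ha)) _ (Submodule.smul_mem _ c (hπK _ ha)) fun z hz => by
      rw [Φ.sform.smul_right, ← smul_smul, hkey _ (Submodule.smul_mem _ c ha) z hz, hkey _ ha z hz,
        W_smul_left, Matrix.mul_smul, Matrix.smul_mul, comp_smul]
  -- the multiplier
  have hsq : ∀ θ ∈ pairPerp Φ.sform e e',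
      Φ.β (π θ) (π θ) • (1 : MT) = Φ.β θ θ • (α * Φ.adj α) := by
    intro θ hθ
    obtain ⟨hl1, hl2⟩ := (mem_pairPerp Φ.sform).1 (hπK θ hθ)
    have hneg := hπsmul (-1) θ hθ
    rw [neg_one_smul, neg_one_smul] at hneg
    have h1 := congrArg₂ (fun A B => Φ.comp i e' e' A + Φ.comp i e' e' B) (hπ θ hθ)
      (hπ (-θ) (neg_mem hθ))
    simp only [hneg, E_eq, W_neg_left, Φ.sform.neg_left, Φ.sform.neg_right, neg_neg, mul_add,
      add_mul, mul_sub, sub_mul, mul_neg, neg_mul, Matrix.mul_smul, Matrix.smul_mul, mul_one, hgi,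
      Units.mul_inv] at h1
    rw [← hgi, hPPg] at h1
    simp only [comp_add, comp_sub, comp_neg, comp_smul, Φ.comp_cm cm_one,
      Φ.comp_P_mul (hα.mul (Cm.adj Φ hα)), comp_P, comp_W, he', hee, hee', hl2, Φ.sform.symm0 hl2,
      mul_zero, zero_mul, sub_self, zero_smul, mul_one, one_smul, neg_zero, zero_add] at h1
    set A := Φ.comp i e' e' ((g : MT) * Φ.W i θ e * gi)
    have := Φ.two
    linear_combination (norm := (match_scalars <;> field_simp <;> ring)) h1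
  obtain ⟨a, ha, haa⟩ := exists_aniso_pairPerp Φ.sform (by rw [finrank_vk]; exact O.hk) he he' hee
  obtain ⟨μ, hμ⟩ : ∃ μ : F, α * Φ.adj α = μ • 1 := ⟨Φ.β (π a) (π a) / Φ.β a a, by
    rw [div_eq_inv_mul, ← smul_smul, hsq a ha, inv_smul_smul₀ haa]⟩
  have hne : Nonempty (Fin t → Fin k) := ⟨fun _ => ⟨0, by have := O.hk; omega⟩⟩
  have hinj : ∀ {r s : F}, r • (1 : MT) = s • 1 → r = s := fun {r s} h => by
    obtain ⟨x₀⟩ := hne
    simpa using congrFun (congrFun h x₀) x₀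
  have hμ0 : μ ≠ 0 := fun h0 => by
    rw [h0, zero_smul] at hμ
    have h1 := congrArg (fun Z => ai * Z * Φ.adj ai) hμ
    simp only [mul_zero, zero_mul] at h1
    rw [← mul_assoc ai, hainv, one_mul, ← adj_mul, hainv, adj_one] at h1
    obtain ⟨x₀⟩ := hne
    simpa using congrFun (congrFun h1 x₀) x₀
  have hβ : ∀ x ∈ pairPerp Φ.sform e e', ∀ y ∈ pairPerp Φ.sform e e',
      Φ.β (π x) (π y) = μ * Φ.β x y := by
    have hd : ∀ x ∈ pairPerp Φ.sform e e', Φ.β (π x) (π x) = μ * Φ.β x x := fun x hx => by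
      refine hinj ?_
      rw [hsq x hx, hμ, smul_smul, mul_comm]
    intro x hx y hy
    have h1 := hd (x + y) (add_mem hx hy)
    rw [hπadd x hx y hy] at h1
    simp only [Φ.sform.add_left, Φ.sform.add_right, hd x hx, hd y hy,
      Φ.sform.symm (π x) (π y), Φ.sform.symm x y] at h1
    exact mul_left_cancel₀ Φ.two (by linear_combination h1)
  -- the matrix
  let L : Vk →ₗ[F] Vk :=
    { toFun := fun x => Φ.β x e' • e + (μ⁻¹ * Φ.β x e) • e' + μ⁻¹ • π (Φ.pr1 e e' *ᵥ x)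
      map_add' := fun x y => by
        rw [Matrix.mulVec_add, hπadd _ (pr1_mem he he' hee x) _ (pr1_mem he he' hee y),
          Φ.sform.add_left, Φ.sform.add_left]
        module
      map_smul' := fun c x => by
        rw [Matrix.mulVec_smul, hπsmul c _ (pr1_mem he he' hee x), Φ.sform.smul_left,
          Φ.sform.smul_left, RingHom.id_apply]
        module }
  set M : Mm := LinearMap.toMatrix' L with hM
  have hMx : ∀ x, M *ᵥ x =
      Φ.β x e' • e + (μ⁻¹ * Φ.β x e) • e' + μ⁻¹ • π (Φ.pr1 e e' *ᵥ x) := fun x => by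
    rw [hM, LinearMap.toMatrix'_mulVec]; rfl
  have hπ0 : π 0 = 0 := by
    have := hπsmul 0 0 (zero_mem _)
    simpa using this
  have hMK : ∀ θ ∈ pairPerp Φ.sform e e', M *ᵥ θ = μ⁻¹ • π θ := fun θ hθ => by
    obtain ⟨h1, h2⟩ := (mem_pairPerp Φ.sform).1 hθ
    rw [hMx, pr1_perp he he' hee hθ, h1, h2]
    simp
  refine ⟨M, μ⁻¹, ⟨inv_ne_zero hμ0, ?_, hα, ?_, by rw [inv_inv, hμ], ?_, ?_⟩,
    fun θ hθ => ⟨by rw [hMK θ hθ]; exact Submodule.smul_mem _ _ (hπK θ hθ), ?_⟩⟩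
  · refine ext1 fun x => sub_eq_zero.1 (Φ.sform.nondeg _ fun y => ?_)
    have hx := pr1_mem he he' hee x
    have hy := pr1_mem he he' hee y
    obtain ⟨hx1, hx2⟩ := (mem_pairPerp Φ.sform).1 (hπK _ hx)
    obtain ⟨hy1, hy2⟩ := (mem_pairPerp Φ.sform).1 (hπK _ hy)
    have e1 : Φ.β (M *ᵥ x) (M *ᵥ y) = μ⁻¹ * Φ.β x y := by
      have e2 : Φ.β x y = Φ.β x e' * Φ.β y e + Φ.β x e * Φ.β y e' +
          Φ.β (Φ.pr1 e e' *ᵥ x) (Φ.pr1 e e' *ᵥ y) := by
        simp only [pr1_mulVec, Φ.sform.sub_left, Φ.sform.sub_right, Φ.sform.smul_left,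
          Φ.sform.smul_right, he, he', hee, hee', Φ.sform.symm y e, Φ.sform.symm y e']
        ring
      simp only [hMx, Φ.sform.add_left, Φ.sform.add_right, Φ.sform.smul_left, Φ.sform.smul_right,
        he, he', hee, hee', hx1, hx2, Φ.sform.symm0 hy1, Φ.sform.symm0 hy2, hβ _ hx _ hy, e2]
      field_simp
      ring
    rw [Φ.sform.sub_left, Matrix.smul_mulVec, Matrix.one_mulVec, Φ.sform.smul_left,
      ← Matrix.mulVec_mulVec, beta_mulVec, adj1_adj1, e1, sub_self]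
  · rw [inv_inv]
    have h1 : (μ⁻¹ • Φ.adj α) * α = 1 := mul_eq_one_comm.1 (by
      rw [Matrix.mul_smul, hμ, inv_smul_smul₀ hμ0])
    rw [Matrix.smul_mul] at h1
    rw [← h1, smul_inv_smul₀ hμ0]
  · rw [hMx, pr1_self he he' hee, hπ0, he, hee]
    simp
  · rw [hMx, pr1_self' he he' hee, hπ0, he', hee']
    simp
  · rw [hMK θ hθ, inv_inv, smul_inv_smul₀ hμ0, hπ θ hθ]


omit O O' [Finite F] in
/-- An element fixing a slice is trivial on the flag, up to the pure element of its frame. -/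
theorem Frame.dt_of_conj (Fr : Φ.Frame i e e' M α ν) (he : Φ.β e e = 0) (he' : Φ.β e' e' = 0)
    (hee : Φ.β e e' = 1) (hg : Φ.Iso g) (hgP : (g : MT) * Φ.P i e e = Φ.P i e e * α)
    (hgE : ∀ θ ∈ pairPerp Φ.sform e e',
      (g : MT) * Φ.E i e θ * ((g⁻¹ : GL (Fin t → Fin k) F) : MT) = Φ.E i e (ν⁻¹ • (M *ᵥ θ)))
    {p : GL (Fin t → Fin k) F} (hpI : Φ.Iso p) (hpv : (p : MT) = fa i M * α)
    (hp : ∀ X : MT, (p : MT) * X * ((p⁻¹ : GL (Fin t → Fin k) F) : MT) =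
        fa i M * (α * X * Φ.adj α) * fa i (Φ.adj1 M)) : Φ.DT i e (p⁻¹ * g) := by
  have hee' : Φ.β e' e = 1 := by rw [Φ.beta_symm e e', hee]
  set h := p⁻¹ * g with hh
  have hpi : ((p⁻¹ : GL (Fin t → Fin k) F) : MT) = Φ.adj α * fa i (Φ.adj1 M) := by
    rw [← hpI.adj_eq, hpv, adj_mul, adj_fa]
  have hhv : (h : MT) = ((p⁻¹ : GL (Fin t → Fin k) F) : MT) * (g : MT) := by rw [hh, Units.val_mul]
  have hhP : (h : MT) * Φ.P i e e = Φ.P i e e := by
    rw [hhv, mul_assoc, hgP, hpi, mul_assoc, ← mul_assoc (fa i (Φ.adj1 M)), fa_mul_P, Fr.adj_fix,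
      P_smul_left, ← mul_assoc, Matrix.mul_smul, (Cm.adj Φ Fr.cm).P_comm, Matrix.smul_mul, mul_assoc,
      Fr.adjα, Matrix.mul_smul, mul_one, smul_smul, mul_inv_cancel₀ Fr.ne, one_smul]
  have hhE : ∀ θ ∈ pairPerp Φ.sform e e', (h : MT) * Φ.E i e θ = Φ.E i e θ * (h : MT) := fun θ hθ => by
    have h1 : (p : MT) * Φ.E i e θ * ((p⁻¹ : GL (Fin t → Fin k) F) : MT) =
        (g : MT) * Φ.E i e θ * ((g⁻¹ : GL (Fin t → Fin k) F) : MT) := by
      rw [hgE θ hθ, E, E, Fr.conj_fa hp, sim_conj_E1 Fr.ne Fr.sim, Fr.fix]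
    have h2 := congrArg (fun Z => ((p⁻¹ : GL (Fin t → Fin k) F) : MT) * Z * (g : MT)) h1
    simp only [mul_assoc, Units.inv_mul_cancel_left, Units.inv_mul, mul_one] at h2
    rw [hhv, mul_assoc, h2]
  have hhW : ∀ θ ∈ pairPerp Φ.sform e e', (h : MT) * Φ.W i θ e = Φ.W i θ e * (h : MT) := fun θ hθ => by
    have h1 := congrArg₂ (fun A B => A - B) (hhE θ hθ) (hhE (-θ) (neg_mem hθ))
    simp only [← mul_sub, ← sub_mul, E_eq, W_neg_left, Φ.sform.neg_left, Φ.sform.neg_right,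
      neg_neg] at h1
    rw [show (1 : MT) + (Φ.W i θ e - (Φ.β θ θ / 2) • Φ.P i e e) -
        (1 + (-Φ.W i θ e - (Φ.β θ θ / 2) • Φ.P i e e)) = (2 : F) • Φ.W i θ e by module,
      Matrix.mul_smul, Matrix.smul_mul] at h1
    exact smul_right_injective MT Φ.two h1
  have hPh : Φ.P i e e * (h : MT) = Φ.P i e e := by
    have e1 := congrArg Φ.adj hhP
    rw [adj_mul, adj_P] at e1
    conv_lhs => rw [← e1, mul_assoc, hpI.inv.mul hg, mul_one]
  have hce : Φ.comp i e e' (h : MT) = 1 := by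
    have := congrArg (Φ.comp i e' e') hPh
    rwa [comp_P_left, comp_P, hee', hee, one_smul, mul_one, one_smul] at this
  refine ⟨hpI.inv.mul hg, hhP, fun x z hx hz => ?_⟩
  have hbase : Φ.comp i z e (h : MT) = Φ.β z e • 1 := by
    have := congrArg (Φ.comp i z e') hhP
    rwa [comp_P_right, comp_P, hee, one_smul, mul_one] at this
  have hK : ∀ θ ∈ pairPerp Φ.sform e e', Φ.comp i z θ (h : MT) = Φ.β z θ • 1 := fun θ hθ => by
    obtain ⟨-, hθ2⟩ := (mem_pairPerp Φ.sform).1 hθ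
    have hPeθ : (h : MT) * Φ.P i e θ = Φ.P i e θ := by
      rw [show Φ.P i e θ = Φ.P i e e * Φ.P i e' θ by rw [P_mul, hee, one_smul], ← mul_assoc, hhP]
    have h1 := congrArg (Φ.comp i z e') (hhW θ hθ)
    rw [W, mul_sub, sub_mul, hPeθ, comp_sub, comp_sub, comp_P_right, comp_P, comp_P_left, comp_P_left,
      hz, hee, hθ2, hce] at h1
    simpa using h1
  obtain ⟨a, b, l, hl, rfl⟩ := split_pair Φ.sform he he' hee x
  have hb : b = 0 := by
    have h1 := ((mem_pairPerp Φ.sform).1 hl).1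
    simpa [Φ.sform.add_left, Φ.sform.smul_left, he, h1, hee'] using hx
  subst hb
  rw [zero_smul, add_zero, comp_add_right, comp_smul_right, hbase, hK l hl, Φ.sform.add_right,
    Φ.sform.smul_right, smul_smul, add_smul]

omit O in
/-- A multiple of the component at a vector of an element fixing a slice is scalar. -/
theorem Ov.stab_key (hz' : Φ.NoZS G') (he0 : e ≠ 0) (he : Φ.β e e = 0) (he' : Φ.β e' e' = 0)
    (hee : Φ.β e e' = 1) (hG : ∀ x ∈ G, g * x * g⁻¹ ∈ G') (Fr : Φ.Frame i e e' M α ν)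
    {p : GL (Fin t → Fin k) F} (hpI : Φ.Iso p)
    (hp : ∀ X : MT, (p : MT) * X * ((p⁻¹ : GL (Fin t → Fin k) F) : MT) =
        fa i M * (α * X * Φ.adj α) * fa i (Φ.adj1 M)) (hD : Φ.DT i e (p⁻¹ * g))
    (hMK : ∀ θ ∈ pairPerp Φ.sform e e', M *ᵥ θ ∈ pairPerp Φ.sform e e')
    {N : Mm} (hN : Φ.FacIn G i N) (hN' : Φ.FacIn G' i (M * N * (ν⁻¹ • Φ.adj1 M))) {s : F}
    (hs : s ≠ 0) (hNe : N *ᵥ e = s • e) {a : Vk} (ha : a ∈ pairPerp Φ.sform e e') {c r : F}
    (hNa : Φ.adj1 N *ᵥ a = c • a + r • e) (hsc : s * c ≠ 1) :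
    ∃ d : F, Φ.Ga i e' a (p⁻¹ * g) = d • 1 := by
  obtain ⟨hN1, u, hu, huv⟩ := hN
  obtain ⟨-, w, hw, hwv⟩ := hN'
  set h := p⁻¹ * g with hh
  obtain ⟨hD', hga⟩ := hD.inv.conj_self he he' hee hs hN1 hNe huv
  set D0 := h * (u * h⁻¹ * u⁻¹) with hD0
  have hD0D : Φ.DT i e D0 := hD.mul he he' hee hD'
  have hpu : p * u * p⁻¹ = w := Units.ext (by
    rw [Units.val_mul, Units.val_mul, huv, hwv, Fr.conj_fa hp])
  have hmem : p * D0 * p⁻¹ ∈ G' := by
    have e1 : p * D0 * p⁻¹ = g * u * g⁻¹ * (p * u * p⁻¹)⁻¹ := by rw [hD0, hh]; group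
    rw [e1, hpu]
    exact mul_mem (hG u hu) (inv_mem hw)
  obtain ⟨hDp, hgap⟩ := Fr.conj_DT hpI hp hD0D
  obtain ⟨d, hd⟩ := O'.ga_scalar hz' he0 he he' hee hmem hDp (hMK a ha)
  obtain ⟨ha1, -⟩ := (mem_pairPerp Φ.sform).1 ha
  have hMMa : Φ.adj1 M *ᵥ (M *ᵥ a) = ν • a := by
    rw [Matrix.mulVec_mulVec, Fr.sim, Matrix.smul_mulVec, Matrix.one_mulVec]
  have hNa1 : Φ.β (Φ.adj1 N *ᵥ a) e = 0 := by
    rw [hNa, Φ.sform.add_left, Φ.sform.smul_left, Φ.sform.smul_left, ha1, he, mul_zero, mul_zero,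
      add_zero]
  have hΓ : Φ.Ga i e' a D0 = (1 - s * c) • Φ.Ga i e' a h := by
    rw [hD.ga_mul he he' hee hD' ha1, hga a ha1, hD.ga_inv he he' hee hNa1]
    have e2 : Φ.Ga i e' (c • a + r • e) h = c • Φ.Ga i e' a h := by
      simp only [← GaL_apply, map_add, map_smul]
      rw [GaL_apply, GaL_apply, hD.ga_self he he' hee, smul_zero, add_zero]
    rw [hNa, e2]
    module
  rw [hgap, hMMa, ← GaL_apply, map_smul, GaL_apply, hΓ, smul_smul, Matrix.mul_smul,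
    Matrix.smul_mul] at hd
  have h1 := congrArg (fun Z => Φ.adj α * Z * α) hd
  simp only [Matrix.mul_smul, Matrix.smul_mul, mul_assoc, Fr.adjα, mul_one] at h1
  simp only [← mul_assoc, Fr.adjα, Matrix.smul_mul, one_mul, smul_smul] at h1
  have hne : ν * (1 - s * c) * (ν⁻¹ * ν⁻¹) ≠ 0 :=
    mul_ne_zero (mul_ne_zero Fr.ne (sub_ne_zero.2 (Ne.symm hsc)))
      (mul_ne_zero (inv_ne_zero Fr.ne) (inv_ne_zero Fr.ne))
  refine ⟨(ν * (1 - s * c) * (ν⁻¹ * ν⁻¹))⁻¹ * (d * ν⁻¹), ?_⟩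
  rw [← smul_smul, ← h1, smul_smul, mul_assoc (ν * (1 - s * c)), inv_mul_cancel₀ hne, one_smul]

/-- The structure of an element fixing a slice. -/
theorem Ov.stab_split (hz' : Φ.NoZS G') (he0 : e ≠ 0) (he : Φ.β e e = 0) (he' : Φ.β e' e' = 0)
    (hee : Φ.β e e' = 1) (hg : Φ.Iso g) (hG : ∀ x ∈ G, g * x * g⁻¹ ∈ G') (hα : Cm i α)
    (hgP : (g : MT) * Φ.P i e e = Φ.P i e e * α) :
    ∃ M ν, Φ.Frame i e e' M α ν ∧ ∃ p : GL (Fin t → Fin k) F, Φ.Iso p ∧ (p : MT) = fa i M * α ∧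
      (∀ X : MT, (p : MT) * X * ((p⁻¹ : GL (Fin t → Fin k) F) : MT) =
        fa i M * (α * X * Φ.adj α) * fa i (Φ.adj1 M)) ∧
      ∃ u ∈ G, IsWr u ∧ ∃ T : MT, Cm i T ∧ Φ.adj T = -T ∧
        ((g * u⁻¹ : GL (Fin t → Fin k) F) : MT) = (p : MT) * (1 + Φ.P i e e * T) := by
  haveI : NeZero k := ⟨by have := O.hk; omega⟩
  obtain ⟨M, ν, Fr, hMθ⟩ := O.stab_sim O' hz' he0 he he' hee hg hG hα hgP
  obtain ⟨p, hpI, hpv, hp⟩ := Fr.exists_p
  refine ⟨M, ν, Fr, p, hpI, hpv, hp, ?_⟩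
  have hMK := fun θ hθ => (hMθ θ hθ).1
  have hD := Fr.dt_of_conj he he' hee hg hgP (fun θ hθ => (hMθ θ hθ).2) hpI hpv hp
  set h := p⁻¹ * g with hh
  have key := fun {N : Mm} (hN : Φ.FacIn G i N) (hN' : Φ.FacIn G' i (M * N * (ν⁻¹ • Φ.adj1 M)))
      {s : F} (hs : s ≠ 0) (hNe : N *ᵥ e = s • e) {a : Vk} (ha : a ∈ pairPerp Φ.sform e e')
      {c r : F} (hNa : Φ.adj1 N *ᵥ a = c • a + r • e) (hsc : s * c ≠ 1) =>
    Ov.stab_key O' hz' he0 he he' hee hG Fr hpI hp hD hMK hN hN' hs hNe ha hNa hsc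
  have h11 : (-1 : F) ≠ 1 := fun e1 => Φ.two (by linear_combination -e1)
  let P : Submodule F Vk :=
    { carrier := {x | ∃ d : F, Φ.Ga i e' x h = d • 1}
      add_mem' := by
        rintro x y ⟨d, hd⟩ ⟨d', hd'⟩
        exact ⟨d + d', by rw [← GaL_apply, map_add, GaL_apply, GaL_apply, hd, hd', add_smul]⟩
      zero_mem' := ⟨0, by rw [← GaL_apply, map_zero, zero_smul]⟩
      smul_mem' := by
        rintro c x ⟨d, hd⟩
        exact ⟨c * d, by rw [← GaL_apply, map_smul, GaL_apply, hd, smul_smul]⟩ }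
  have hga : ∀ x ∈ pairPerp Φ.sform e e', x ∈ P := by
    by_cases hk4 : 4 ≤ k
    · intro x hx
      refine O.span_cls hk4 he he' hee P (fun a ha hcl => ?_) hx
      obtain ⟨ha1, ha2⟩ := (mem_pairPerp Φ.sform).1 ha
      rcases Nat.even_or_odd k with hev | hodd
      · obtain ⟨c, hc, hcc, hca⟩ := exists_two_pairPerp Φ.sform (by rw [finrank_vk]; exact hk4) he
          he' hee ha hcl.1
        obtain ⟨hc1, hc2⟩ := (mem_pairPerp Φ.sform).1 hc
        have hMc : Φ.β (M *ᵥ c) (M *ᵥ c) ≠ 0 := by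
          rw [sim_beta Fr.sim]; exact mul_ne_zero Fr.ne hcc
        have hMa : Φ.β (M *ᵥ a) (M *ᵥ a) ≠ 0 := by
          rw [sim_beta Fr.sim]; exact mul_ne_zero Fr.ne hcl.1
        refine key (O.facIn_pair hev hcl.1 hcc) (s := 1) (c := -1) (r := 0) ?_ one_ne_zero ?_ ha ?_ ?_
        · have e1 : M * (Φ.T1 a * Φ.T1 c) * (ν⁻¹ • Φ.adj1 M) =
              Φ.T1 (M *ᵥ a) * Φ.T1 (M *ᵥ c) := by
            rw [← sim_conj_T1 Fr.ne Fr.sim hcl.1, ← sim_conj_T1 Fr.ne Fr.sim hcc]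
            have h2 : (ν⁻¹ • Φ.adj1 M) * M = 1 := by
              rw [Matrix.smul_mul, Fr.sim, inv_smul_smul₀ Fr.ne]
            rw [show ∀ A B C D : Mm, A * (B * C) * D = A * B * 1 * C * D from fun A B C D => by
                simp [mul_assoc], ← h2]
            simp only [mul_assoc]
          rw [e1]
          exact O'.facIn_pair hev hMa hMc
        · rw [← Matrix.mulVec_mulVec, Φ.T1_perp (Φ.sform.symm0 hc1), Matrix.mulVec_neg,
            Φ.T1_perp (Φ.sform.symm0 ha1), neg_neg, one_smul]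
        · rw [adj1_mul, adj1_T1, adj1_T1, ← Matrix.mulVec_mulVec, Φ.T1_self hcl.1,
            Φ.T1_perp (Φ.sform.symm0 hca)]
          module
        · rwa [one_mul]
      · refine key (O.facIn_T (Or.inl hodd) hcl) (s := -1) (c := 1) (r := 0) ?_
          (neg_ne_zero.2 one_ne_zero) ?_ ha ?_ ?_
        · rw [sim_conj_T1 Fr.ne Fr.sim hcl.1]
          exact O'.facIn_T (Or.inl hodd) (sim_cls Fr.ne Fr.sim hcl)
        · rw [Φ.T1_perp (Φ.sform.symm0 ha1), neg_one_smul]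
        · rw [adj1_T1, Φ.T1_self hcl.1]
          module
        · rwa [mul_one]
    · have hk3 : k = 3 := by have := O.hk; omega
      obtain ⟨a, ha, haa⟩ := exists_aniso_pairPerp Φ.sform (by rw [finrank_vk]; exact O.hk) he he' hee
      obtain ⟨σ, hσ0, hσ⟩ := exists_scalar (O.hq hk3) Φ.two
      obtain ⟨N, hN, hN', hNe, r, hNa⟩ : ∃ N, Φ.FacIn G i N ∧
          Φ.FacIn G' i (M * N * (ν⁻¹ • Φ.adj1 M)) ∧ N *ᵥ e = σ ^ 2 • e ∧
            ∃ r : F, N *ᵥ a = a + r • e := by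
        let Gp : Subgroup (GL (Fin t → Fin k) F) := G ⊓ G'.comap (MulAut.conj p).toMonoidHom
        have hE : ∀ x θ, Φ.β x x = 0 → Φ.β θ x = 0 → Φ.FacIn Gp i (Φ.E1 x θ) := fun x θ hx hθ => by
          obtain ⟨hI, v, hv, hvv⟩ := O.facIn_E (i := i) hx hθ
          refine ⟨hI, v, ⟨hv, ?_⟩, hvv⟩
          obtain ⟨w, hw, hwv⟩ := O'.eu i (M *ᵥ x) (ν⁻¹ • (M *ᵥ θ)) (by rw [sim_beta Fr.sim, hx, mul_zero])
            (by rw [Φ.sform.smul_left, sim_beta Fr.sim, hθ, mul_zero, mul_zero])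
          show p * v * p⁻¹ ∈ G'
          rw [show p * v * p⁻¹ = w from Units.ext (by
            rw [Units.val_mul, Units.val_mul, hvv, hwv, Fr.conj_fa hp, sim_conj_E1 Fr.ne Fr.sim, E])]
          exact hw
        obtain ⟨N, ⟨hN1, v, ⟨hv, hv'⟩, hvv⟩, hNe, hNa⟩ := torus_of_E hE he he' hee ha haa hσ0
        refine ⟨N, ⟨hN1, v, hv, hvv⟩, ⟨?_, p * v * p⁻¹, hv', by
          rw [Units.val_mul, Units.val_mul, hvv, Fr.conj_fa hp]⟩, hNe, hNa⟩
        rw [adj1_mul, adj1_mul, adj1_smul, adj1_adj1]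
        simp only [Matrix.smul_mul, Matrix.mul_smul, mul_assoc]
        rw [← mul_assoc (Φ.adj1 M) M, Fr.sim, Matrix.smul_mul, one_mul, Matrix.mul_smul,
          Matrix.mul_smul, ← mul_assoc (Φ.adj1 N), hN1, one_mul, sim_comm Fr.ne Fr.sim]
        simp only [smul_smul]
        rw [show ν⁻¹ * (ν⁻¹ * (ν * ν)) = 1 by field_simp [Fr.ne], one_smul]
      have hadj : Φ.adj1 N *ᵥ a = (1 : F) • a + (-(r / σ ^ 2)) • e := by
        have h1 := congrArg (Φ.adj1 N *ᵥ ·) hNa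
        have h2 := congrArg (Φ.adj1 N *ᵥ ·) hNe
        simp only [Matrix.mulVec_mulVec, hN.1, Matrix.one_mulVec, Matrix.mulVec_add,
          Matrix.mulVec_smul] at h1 h2
        have h3 : Φ.adj1 N *ᵥ e = (σ ^ 2)⁻¹ • e := by
          conv_rhs => rw [h2, inv_smul_smul₀ (pow_ne_zero 2 hσ0)]
        rw [h3, smul_smul] at h1
        rw [one_smul, eq_sub_of_add_eq h1.symm, neg_smul, ← sub_eq_add_neg, div_eq_mul_inv]
      have hΓa : a ∈ P := key hN hN' (pow_ne_zero 2 hσ0) hNe ha hadj (by rwa [mul_one])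
      intro x hx
      obtain ⟨hx1, hx2⟩ := (mem_pairPerp Φ.sform).1 hx
      obtain ⟨ha1, ha2⟩ := (mem_pairPerp Φ.sform).1 ha
      have hxa : x = (Φ.β x a / Φ.β a a) • a := by
        by_contra hne
        have hd := CfsgLib.MaxSub.TensorOO.pairPerp_nondeg Φ.sform he he' hee
        set y := x - (Φ.β x a / Φ.β a a) • a with hy
        have hy0 : y ≠ 0 := sub_ne_zero.2 hne
        have hyK : y ∈ pairPerp Φ.sform e e' := sub_mem hx (Submodule.smul_mem _ _ ha)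
        obtain ⟨hy1, hy2⟩ := (mem_pairPerp Φ.sform).1 hyK
        have hya : Φ.β y a = 0 := by
          rw [hy, Φ.sform.sub_left, Φ.sform.smul_left, div_mul_cancel₀ _ haa, sub_self]
        have hli : LinearIndependent F ![e, e', a, y] := by
          rw [Fintype.linearIndependent_iff]
          intro q hq
          have hq' : q 0 • e + q 1 • e' + q 2 • a + q 3 • y = 0 := by
            rw [← hq, Fin.sum_univ_four]; rfl
          have c1 := congrArg (Φ.β e) hq'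
          have c2 := congrArg (Φ.β e') hq'
          have c3 := congrArg (Φ.β a) hq'
          simp only [Φ.sform.add_right, Φ.sform.smul_right, Φ.sform.zero_right, he, he', hee,
            Φ.sform.symm e e', Φ.sform.symm0 ha1, Φ.sform.symm0 ha2, Φ.sform.symm0 hy1,
            Φ.sform.symm0 hy2, Φ.sform.symm0 hya, ha1, ha2, mul_zero, zero_add, add_zero, mul_one,
            mul_eq_zero, or_iff_left haa] at c1 c2 c3
          rw [c2, c1, c3, zero_smul, zero_smul, zero_smul, zero_add, zero_add, zero_add] at hq'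
          have c4 := (smul_eq_zero.1 hq').resolve_right hy0
          intro n; fin_cases n <;> assumption
        have := hli.fintype_card_le_finrank
        rw [finrank_vk, Fintype.card_fin] at this
        omega
      rw [hxa]
      exact P.smul_mem _ hΓa
  obtain ⟨θ, hθ, hu⟩ := exists_E_of_ga O he he' hee hD hga
  obtain ⟨u, huG, huv⟩ := O.eu i e θ he hθ
  obtain ⟨T, hTc, hTa, hTv⟩ := hu u huv
  refine ⟨u, huG, isWr_of_fa huv, T, hTc, hTa, ?_⟩
  rw [← hTv, hh, ← Units.val_mul]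
  congr 1
  group

omit [Finite F] in
/-- The central part commutes with the elements of the other factors normalised by the pure element. -/
theorem Ov.stab_comm (hz' : Φ.NoZS G') (he0 : e ≠ 0) (he : Φ.β e e = 0)
    (Fr : Φ.Frame i e e' M α ν) (hG : ∀ x ∈ G, g * x * g⁻¹ ∈ G')
    {p : GL (Fin t → Fin k) F}
    (hp : ∀ X : MT, (p : MT) * X * ((p⁻¹ : GL (Fin t → Fin k) F) : MT) =
        fa i M * (α * X * Φ.adj α) * fa i (Φ.adj1 M))
    {u : GL (Fin t → Fin k) F} (hu : u ∈ G) {T : MT} (hTc : Cm i T) (hTa : Φ.adj T = -T)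
    (hgu : ((g * u⁻¹ : GL (Fin t → Fin k) F) : MT) = (p : MT) * (1 + Φ.P i e e * T))
    {m : Fin t} (hm : m ≠ i) {N : Mm} (hN : Φ.adj1 N * N = 1) {L : GL (Fin t → Fin k) F} (hL : L ∈ G)
    (hLv : (L : MT) = fa m N) (hpL : p * L * p⁻¹ ∈ G') : fa m N * T = T * fa m N := by
  set g' := g * u⁻¹ with hg'
  have hG' : g' * L * g'⁻¹ ∈ G' := by
    rw [show g' * L * g'⁻¹ = g * (u⁻¹ * L * u) * g⁻¹ by rw [hg']; group]
    exact hG _ (mul_mem (mul_mem (inv_mem hu) hL) hu)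
  set q := p⁻¹ * g' with hq
  have hqv : (q : MT) = 1 + Φ.P i e e * T := by
    rw [hq, Units.val_mul, hgu, Units.inv_mul_cancel_left]
  have hPP : Φ.P i e e * T * (Φ.P i e e * T) = 0 := by
    rw [← mul_assoc, mul_assoc (Φ.P i e e), hTc.P_comm, ← mul_assoc, P_mul, he]
    simp
  have hqi : ((q⁻¹ : GL (Fin t → Fin k) F) : MT) = 1 - Φ.P i e e * T :=
    Units.inv_eq_of_mul_eq_one_right (by
      rw [hqv, mul_sub, mul_one, add_mul, one_mul, hPP, add_zero, add_sub_cancel_right])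
  set Li : MT := fa m (Φ.adj1 N) with hLi
  have hLiv : ((L⁻¹ : GL (Fin t → Fin k) F) : MT) = Li := FacIn.inv_val hN hLv
  have hNLi : fa m N * Li = (1 : MT) := by rw [hLi, ← map_mul, mul_eq_one_comm.1 hN, map_one]
  set X : MT := T - fa m N * T * Li with hX
  have hXc : Cm i X := hTc.sub (((cm_fa hm _).mul hTc).mul (cm_fa hm _))
  have hv : ((q * L * q⁻¹ * L⁻¹ : GL (Fin t → Fin k) F) : MT) = 1 + Φ.P i e e * X := by
    have hNP : fa m N * Φ.P i e e = Φ.P i e e * fa m N := (fa_commute hm _ _).eq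
    have e2 : Φ.P i e e * T * fa m N * (Φ.P i e e * T) = 0 := by
      rw [mul_assoc (Φ.P i e e * T), ← mul_assoc (fa m N), hNP, mul_assoc (Φ.P i e e) (fa m N) T,
        ← mul_assoc (Φ.P i e e * T) (Φ.P i e e), mul_assoc (Φ.P i e e) T (Φ.P i e e), hTc.P_comm,
        ← mul_assoc (Φ.P i e e) (Φ.P i e e), P_mul, he]
      simp
    rw [Units.val_mul, Units.val_mul, Units.val_mul, hqv, hqi, hLv, hLiv, add_mul, one_mul, mul_sub,
      mul_one, add_mul (fa m N) _ (Φ.P i e e * T), e2, add_zero, ← mul_assoc (fa m N), hNP, sub_mul,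
      add_mul, hNLi, hX, mul_sub]
    rw [mul_assoc (Φ.P i e e * T), hNLi, mul_one]
    simp only [mul_assoc, add_sub_assoc]
  have hmem : p * (q * L * q⁻¹ * L⁻¹) * p⁻¹ ∈ G' := by
    rw [show p * (q * L * q⁻¹ * L⁻¹) * p⁻¹ = g' * L * g'⁻¹ * (p * L * p⁻¹)⁻¹ by rw [hq]; group]
    exact mul_mem hG' (inv_mem hpL)
  have hZ : Φ.ZS G' i e (α * X * Φ.adj α) := by
    refine ⟨(Fr.cm.mul hXc).mul (Cm.adj Φ Fr.cm), ?_, _, hmem, ?_⟩
    · have hXa : Φ.adj X = -X := by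
        rw [hX, adj_sub, hLi, adj_conj, hTa, mul_neg, neg_mul, neg_sub_neg, neg_sub]
      rw [adj_mul, adj_mul, adj_adj, hXa, neg_mul, mul_neg, mul_assoc]
    · rw [Units.val_mul, Units.val_mul, hv, mul_add, add_mul, mul_one, Units.mul_inv,
        Fr.conj_P hp hXc]
  have h0 := hz' i e _ he0 he hZ
  have h1 := congrArg (fun Z => Φ.adj α * Z * α) h0
  simp only [mul_assoc, Fr.adjα, Matrix.mul_smul, mul_one, mul_zero, zero_mul] at h1
  simp only [← mul_assoc, Fr.adjα, Matrix.smul_mul, one_mul, smul_smul] at h1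
  have hX0 : X = 0 := (smul_eq_zero.1 h1).resolve_left
    (mul_ne_zero (inv_ne_zero Fr.ne) (inv_ne_zero Fr.ne))
  rw [hX, sub_eq_zero] at hX0
  conv_rhs => rw [hX0, mul_assoc, hLi, ← map_mul, hN, map_one, mul_one]

/-- An element fixing a slice is a pure tensor times a permutation, if its frame is. -/
theorem Ov.stab_wr (hz' : Φ.NoZS G') (he0 : e ≠ 0) (he : Φ.β e e = 0) (he' : Φ.β e' e' = 0)
    (hee : Φ.β e e' = 1) (hg : Φ.Iso g) (hG : ∀ x ∈ G, g * x * g⁻¹ ∈ G') (hα : Cm i α)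
    (hgP : (g : MT) * Φ.P i e e = Φ.P i e e * α)
    (hwr : ∀ M ν, Φ.Frame i e e' M α ν → ∀ p : GL (Fin t → Fin k) F, Φ.Iso p →
      (p : MT) = fa i M * α → IsWr p) : IsWr g := by
  haveI : NeZero k := ⟨by have := O.hk; omega⟩
  obtain ⟨M, ν, Fr, p, hpI, hpv, hp, u, hu, huw, T, hTc, hTa, hgu⟩ :=
    O.stab_split O' hz' he0 he he' hee hg hG hα hgP
  obtain ⟨A, σ, hA⟩ := hwr M ν Fr p hpI hpv
  have hall : ∀ m, Cm m T := fun m => by
    by_cases hm : m = i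
    · rw [hm]; exact hTc
    refine Φ.cm_of_comm_E O.hk fun x θ hx hθ => ?_
    obtain ⟨L, hL, hLv⟩ := O.eu m x θ hx hθ
    obtain ⟨κ, hκ, hsim⟩ := wr_sim (Φ := Φ) (hA ▸ hpI) (σ m)
    set B : Mm := (A (σ m) : Mm) with hB
    obtain ⟨w, hw, hwv⟩ := O'.eu (σ m) (B *ᵥ x) (κ⁻¹ • (B *ᵥ θ))
      (by rw [sim_beta hsim, hx, mul_zero])
      (by rw [Φ.sform.smul_left, sim_beta hsim, hθ, mul_zero, mul_zero])
    have hBi : (((A (σ m))⁻¹ : GL (Fin k) F) : Mm) = κ⁻¹ • Φ.adj1 B :=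
      Units.inv_eq_of_mul_eq_one_left (by
        rw [Matrix.smul_mul, hsim, inv_smul_smul₀ hκ])
    have hpL : p * L * p⁻¹ ∈ G' := by
      rw [show p * L * p⁻¹ = w from Units.ext (by
        rw [Units.val_mul, Units.val_mul, hLv, hwv, E, E, ← Ad_apply, hA, Ad_wr_fa, ← hB, hBi,
          sim_conj_E1 hκ hsim])]
      exact hw
    have h1 := O.stab_comm O' hz' he0 he Fr hG hp hu hTc hTa hgu hm
      (by rw [adj1_E1, Φ.E1_mul hx (by rw [Φ.sform.neg_left, hθ, neg_zero]) hθ, neg_add_cancel,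
        E1_zero]) hL hLv hpL
    exact h1.symm
  obtain ⟨c, hc⟩ := scalar_of_commute fun m X => hall m X
  have hT0 : T = 0 := by
    rw [hc, adj_smul, adj_one, ← neg_smul] at hTa
    have h2 : (c + c) • (1 : MT) = 0 := by rw [add_smul]; nth_rw 1 [hTa]; simp
    rcases smul_eq_zero.1 h2 with h3 | h3
    · have : c = 0 := (mul_eq_zero.1 (by rw [← h3]; ring : (2 : F) * c = 0)).resolve_left Φ.two
      rw [hc, this, zero_smul]
    · rw [hc, h3, smul_zero]
  rw [hT0, mul_zero, add_zero, mul_one] at hgu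
  have hgp : g * u⁻¹ = p := Units.ext hgu
  have h4 := isWr_mul (⟨A, σ, hA⟩ : IsWr p) huw
  rwa [← hgp, inv_mul_cancel_right] at h4

end stab

end OForm

end CfsgLib.MaxSub.TensorPowOrth
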