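import Cfsg.Agent.Lib.MaxSub.TensorPowOrth.Shape
import Cfsg.Agent.Lib.MaxSub.TensorPowOrth.Root
import Cfsg.Agent.Lib.MaxSub.TensorPow.Moving
import Cfsg.Agent.Lib.MaxSub.TensorPow.Lie

/-!
A similitude conjugating the Eichler transformations of all factors into the wreath group lies in it.
-/

set_option autoImplicit false
set_option maxHeartbeats 800000
set_option linter.unusedSectionVars false

namespace CfsgLib.MaxSub.TensorPowOrth

open Matrix Module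
open CfsgLib.Aschbacher CfsgLib.MaxSub.TensorPow
open CfsgLib.MaxSub.TensorOO (exists_pair pairPerp mem_pairPerp pairPerp_nondeg exists_aniso_pairPerp)

variable {F : Type*} [Field F] {k t : ℕ}

local notation "Vk" => Fin k → F
local notation "Mm" => Matrix (Fin k) (Fin k) F
local notation "MT" => Matrix (Fin t → Fin k) (Fin t → Fin k) F

namespace OForm

variable (Φ : OForm F k) [Finite F]

/-- An Eichler transformation of a factor as a unit. -/
noncomputable def Eu (i : Fin t) (e θ : Vk) (he : Φ.β e e = 0) (hθ : Φ.β θ e = 0) :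
    GL (Fin t → Fin k) F :=
  ⟨Φ.E i e θ, Φ.E i e (-θ), Φ.E_mul_neg i he hθ,
    by rw [Φ.E_mul i he (by rw [Φ.sform.neg_left, hθ, neg_zero]) hθ, neg_add_cancel, E_zero]⟩

theorem Eu_val (i : Fin t) (e θ : Vk) (he : Φ.β e e = 0) (hθ : Φ.β θ e = 0) :
    ((Φ.Eu i e θ he hθ : GL (Fin t → Fin k) F) : MT) = Φ.E i e θ := rfl

/-- Two singular vectors have a common partner. -/
theorem exists_partner (hk : 3 ≤ k) {e f : Vk} (he0 : e ≠ 0) (he : Φ.β e e = 0) (hf0 : f ≠ 0)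
    (hf : Φ.β f f = 0) : ∃ y, Φ.β y y = 0 ∧ Φ.β e y ≠ 0 ∧ Φ.β f y ≠ 0 := by
  obtain ⟨e', he', h⟩ := exists_pair Φ.sform he0 he
  by_cases h1 : Φ.β f e' = 0
  · by_cases h0 : Φ.β e f = 0
    · have HR := Φ.sform.restrict (pairPerp_nondeg Φ.sform he he' h)
      obtain ⟨g, hg, heg⟩ := exists_pair HR
        (e := ⟨f, (mem_pairPerp Φ.sform).2 ⟨Φ.sform.symm0 h0, h1⟩⟩)
        (fun e => hf0 (congrArg Subtype.val e)) hf
      obtain ⟨hg1, hg2⟩ := (mem_pairPerp Φ.sform).1 g.2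
      change Φ.β (g : Vk) g = 0 at hg
      change Φ.β f (g : Vk) = 1 at heg
      refine ⟨e' + g, ?_, ?_, ?_⟩
      · simp [Φ.sform.add_left, Φ.sform.add_right, he', hg, hg2, Φ.sform.symm0 hg2]
      · simp [Φ.sform.add_right, h, Φ.sform.symm0 hg1]
      · simp [Φ.sform.add_right, h1, heg]
    · obtain ⟨w, hw, hww⟩ := exists_aniso_pairPerp Φ.sform (by rw [finrank_vk]; exact hk) he he' h
      obtain ⟨hw1, hw2⟩ := (mem_pairPerp Φ.sform).1 hw
      have hq : Φ.β w w / 2 ≠ 0 := div_ne_zero hww Φ.two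
      have key : ∀ r : F, r * r = 1 → Φ.β (e + r • w - (Φ.β w w / 2) • e')
          (e + r • w - (Φ.β w w / 2) • e') = 0 ∧
          Φ.β e (e + r • w - (Φ.β w w / 2) • e') ≠ 0 ∧
          Φ.β f (e + r • w - (Φ.β w w / 2) • e') = Φ.β e f + r * Φ.β f w := fun r hr => by
        refine ⟨?_, ?_, ?_⟩
        · simp only [Φ.sform.add_left, Φ.sform.add_right, Φ.sform.sub_left, Φ.sform.sub_right,
            Φ.sform.smul_left, Φ.sform.smul_right, he, he', h, Φ.sform.symm e e', hw1, hw2,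
            Φ.sform.symm0 hw1, Φ.sform.symm0 hw2, mul_zero, add_zero, sub_zero, zero_sub, zero_add]
          have := Φ.two
          field_simp
          linear_combination 2 * Φ.β w w * hr
        · rw [Φ.sform.sub_right, Φ.sform.add_right, Φ.sform.smul_right, Φ.sform.smul_right, he, h,
            Φ.sform.symm0 hw1, mul_zero, add_zero, mul_one, zero_sub]
          exact neg_ne_zero.2 hq
        · rw [Φ.sform.sub_right, Φ.sform.add_right, Φ.sform.smul_right, Φ.sform.smul_right, h1,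
            mul_zero, sub_zero, Φ.beta_symm e f]
      by_cases h2 : Φ.β e f + 1 * Φ.β f w = 0
      · obtain ⟨a1, a2, a3⟩ := key (-1) (by ring)
        refine ⟨_, a1, a2, fun h3 => mul_ne_zero Φ.two h0 ?_⟩
        rw [a3] at h3
        linear_combination h2 + h3
      · obtain ⟨a1, a2, a3⟩ := key 1 (one_mul 1)
        exact ⟨_, a1, a2, by rwa [a3]⟩
  · exact ⟨e', he', by rw [h]; exact one_ne_zero, h1⟩

variable {g : GL (Fin t → Fin k) F}

/-- A similitude conjugating the Eichler transformations of all factors into the wreath group lies in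
the wreath group. -/
theorem wr_of_conj_E (hk : 3 ≤ k) (ht : 1 ≤ t) (hq : k = 3 → Nat.card F ≠ 3)
    (hminus : k = 4 → ∀ U : Submodule F Vk, (∀ x ∈ U, Φ.β x x = 0) → finrank F U ≤ 1)
    (hg : Φ.Sim g)
    (h : ∀ (i : Fin t) (e θ : Vk), Φ.β e e = 0 → Φ.β θ e = 0 → ∀ u : GL (Fin t → Fin k) F,
      (u : MT) = Φ.E i e θ → IsWr (g⁻¹ * u * g)) : IsWr g := by
  haveI : NeZero k := ⟨by omega⟩
  suffices hm : ∀ i, ∃ j, Maps g⁻¹ i j by
    have := isWr_inv (isWr_of_maps (by omega) ht hm)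
    rwa [inv_inv] at this
  intro i
  have horth : ∀ {e θ : Vk} (c : F), Φ.β θ e = 0 → Φ.β (c • θ) e = 0 := fun c hθ => by
    rw [Φ.sform.smul_left, hθ, mul_zero]
  -- the factor receiving an Eichler transformation
  have hone : ∀ e θ, e ≠ 0 → Φ.β e e = 0 → Φ.β θ e = 0 → Φ.β θ θ ≠ 0 →
      ∃ j A, Ad g⁻¹ (Φ.E i e θ) = fa j A := fun e θ he0 he hθ hθθ => by
    obtain ⟨j, A, hA⟩ := Φ.conj_single_factor hk hq hminus hg (i := i) he0 he hθ hθθ
      (u := fun c => Φ.Eu i e (c • θ) he (horth c hθ)) (fun c => rfl)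
      (h i e _ he (horth 1 hθ) _ rfl) (fun _ c => h i e _ he (horth c hθ) _ rfl)
    refine ⟨j, A, ?_⟩
    rw [← hA, Ad_apply, inv_inv, Units.val_mul, Units.val_mul, Eu_val, one_smul]
  have hsq : ∀ e θ, Φ.β e e = 0 → Φ.β θ e = 0 →
      (Φ.E i e θ - 1) * (Φ.E i e θ - 1) = (-Φ.β θ θ) • (Φ.P i e e : MT) := fun e θ he hθ => by
    rw [E, ← map_one (fa i), ← map_sub, ← map_mul, (Φ.E1_sub_one he hθ).1, map_smul]
    rfl
  have hsame : ∀ e θ f φ, Φ.β e e = 0 → Φ.β θ e = 0 → Φ.β θ θ ≠ 0 → Φ.β f f = 0 → Φ.β φ f = 0 →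
      Φ.β φ φ ≠ 0 → Φ.β e f ≠ 0 → ∀ j j' A A', Ad g⁻¹ (Φ.E i e θ) = fa j A →
      Ad g⁻¹ (Φ.E i f φ) = fa j' A' → j = j' := by
    intro e θ f φ he hθ hθθ hf hφ hφφ hef j j' A A' hA hA'
    by_contra hne
    have h1 : Commute (Φ.E i e θ : MT) (Φ.E i f φ) := by
      refine Ad_injective g⁻¹ ?_
      rw [Ad_mul_apply, Ad_mul_apply, hA, hA', (fa_commute hne A A').eq]
    have h1' : Commute (Φ.E i e θ - 1 : MT) (Φ.E i f φ - 1) :=
      (h1.sub_left (Commute.one_left _)).sub_right (Commute.one_right _)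
    have h2 := ((h1'.mul_left h1').mul_right (h1'.mul_left h1')).eq
    rw [hsq e θ he hθ, hsq f φ hf hφ] at h2
    simp only [Matrix.smul_mul, Matrix.mul_smul, P_mul, smul_smul] at h2
    have h3 := congrArg (Φ.comp i e f) h2
    rw [comp_smul, comp_smul, comp_P, comp_P, he, zero_mul, zero_smul, smul_zero,
      Φ.beta_symm e f] at h3
    haveI : Nonempty (Fin t → Fin k) := ⟨fun _ => ⟨0, by omega⟩⟩
    rw [smul_smul] at h3
    exact mul_ne_zero (mul_ne_zero (neg_ne_zero.2 hθθ) (mul_ne_zero (neg_ne_zero.2 hφφ) hef))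
      (mul_ne_zero hef hef) ((smul_eq_zero.1 h3.symm).resolve_right one_ne_zero)
  obtain ⟨e₀, he₀0, he₀⟩ := Φ.sform.exists_iso (by rw [finrank_vk]; exact hk : 3 ≤ finrank F Vk)
  obtain ⟨_, θ₀, -, -, hθ₀, hθ₀₀⟩ := Φ.exists_orth_aniso hk he₀0 he₀
  have hθ₀e := ((mem_pairPerp Φ.sform).1 hθ₀).1
  obtain ⟨j, A₀, hA₀⟩ := hone e₀ θ₀ he₀0 he₀ hθ₀e hθ₀₀
  have hrange : ∀ e θ, e ≠ 0 → Φ.β e e = 0 → Φ.β θ e = 0 → Φ.β θ θ ≠ 0 →
      ∃ A, Ad g⁻¹ (Φ.E i e θ) = fa j A := fun e θ he0 he hθ hθθ => by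
    obtain ⟨y, hy, hey, he₀y⟩ := Φ.exists_partner hk he0 he he₀0 he₀
    have hy0 : y ≠ 0 := fun h0 => hey (by rw [h0, Φ.sform.zero_right])
    obtain ⟨_, φ, -, -, hφ, hφφ⟩ := Φ.exists_orth_aniso hk hy0 hy
    have hφy := ((mem_pairPerp Φ.sform).1 hφ).1
    obtain ⟨j₁, A₁, hA₁⟩ := hone y φ hy0 hy hφy hφφ
    obtain ⟨j₂, A, hA⟩ := hone e θ he0 he hθ hθθ
    have a1 := hsame e θ y φ he hθ hθθ hy hφy hφφ hey j₂ j₁ A A₁ hA hA₁
    have a2 := hsame e₀ θ₀ y φ he₀ hθ₀e hθ₀₀ hy hφy hφφ he₀y j j₁ A₀ A₁ hA₀ hA₁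
    exact ⟨A, by rw [hA, a1, a2]⟩
  refine ⟨j, fun X => Φ.E1_top hk
    { carrier := {X | ∃ A, Ad g⁻¹ (fa i X) = fa j A}
      mul_mem' := by
        rintro X Y ⟨A, hA⟩ ⟨B, hB⟩
        exact ⟨A * B, by rw [map_mul, Ad_mul_apply, hA, hB, map_mul]⟩
      one_mem' := ⟨1, by rw [map_one (fa i), map_one (fa j), Ad_apply, mul_one, Units.mul_inv]⟩
      add_mem' := by
        rintro X Y ⟨A, hA⟩ ⟨B, hB⟩
        exact ⟨A + B, by rw [map_add, map_add, hA, hB, map_add]⟩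
      zero_mem' := ⟨0, by rw [map_zero, map_zero, map_zero]⟩
      algebraMap_mem' := fun c => ⟨algebraMap F Mm c, by
        rw [AlgHom.commutes, AlgHom.commutes, Algebra.algebraMap_eq_smul_one, map_smul, Ad_apply,
          mul_one, Units.mul_inv]⟩ } (fun e θ he hθ => ?_) X⟩
  show ∃ A, Ad g⁻¹ (Φ.E i e θ) = fa j A
  rcases eq_or_ne e 0 with rfl | he0
  · refine ⟨1, ?_⟩
    simp [E_eq, W, P_zero_left, P_zero_right, Ad_apply]
  by_cases hθθ : Φ.β θ θ = 0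
  · obtain ⟨_, z, -, -, hz, hzz⟩ := Φ.exists_orth_aniso hk he0 he
    have hze := ((mem_pairPerp Φ.sform).1 hz).1
    obtain ⟨w, hwe, hww, hθw⟩ : ∃ w, Φ.β w e = 0 ∧ Φ.β w w ≠ 0 ∧ Φ.β (θ + w) (θ + w) ≠ 0 := by
      by_cases h1 : Φ.β (θ + z) (θ + z) = 0
      · refine ⟨-z, by rw [Φ.sform.neg_left, hze, neg_zero],
          by rwa [Φ.sform.neg_left, Φ.sform.neg_right, neg_neg], fun h2 => mul_ne_zero Φ.two hzz ?_⟩
        simp only [Φ.sform.add_left, Φ.sform.add_right, Φ.sform.neg_left, Φ.sform.neg_right,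
          hθθ] at h1 h2
        linear_combination h1 + h2
      · exact ⟨z, hze, hzz, h1⟩
    have hsum : Φ.β (θ + w) e = 0 := by rw [Φ.sform.add_left, hθ, hwe, add_zero]
    have hneg : Φ.β (-w) e = 0 := by rw [Φ.sform.neg_left, hwe, neg_zero]
    obtain ⟨A, hA⟩ := hrange e (θ + w) he0 he hsum hθw
    obtain ⟨B, hB⟩ := hrange e (-w) he0 he hneg (by
      rwa [Φ.sform.neg_left, Φ.sform.neg_right, neg_neg])
    refine ⟨A * B, ?_⟩
    rw [show Φ.E i e θ = Φ.E i e (θ + w) * Φ.E i e (-w) by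
        rw [Φ.E_mul i he hsum hneg, add_neg_cancel_right], Ad_mul_apply, hA, hB, map_mul]
  · exact hrange e θ he0 he hθ hθθ

end OForm

end CfsgLib.MaxSub.TensorPowOrth
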