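import Cfsg.Agent.Lib.MaxSub.TensorPowOrth.Stab
import Cfsg.Agent.Lib.MaxSub.TensorPowOrth.WrTest
import Cfsg.Agent.Lib.MaxSub.TensorPowOrth.Ext
import Cfsg.Agent.Lib.MaxSub.TensorPowOrth.Refl
import Cfsg.Agent.Lib.MaxSub.TensorPow.Isolate

/-!
With at least three factors, an element fixing a slice is a pure tensor times a permutation, if the
theorem is known for one factor fewer.
-/

set_option autoImplicit false
set_option maxHeartbeats 800000
set_option linter.unusedSectionVars false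
set_option linter.style.haveILetI false

namespace CfsgLib.MaxSub.TensorPowOrth

open Matrix Module
open CfsgLib.Aschbacher CfsgLib.MaxSub.TensorPow
open CfsgLib.MaxSub.TensorOO (exists_pair)

variable {F : Type*} [Field F] {k n : ℕ}

local notation "Vk" => Fin k → F
local notation "Mm" => Matrix (Fin k) (Fin k) F
local notation "MS" => Matrix (Fin n → Fin k) (Fin n → Fin k) F
local notation "MT" => Matrix (Fin (n + 1) → Fin k) (Fin (n + 1) → Fin k) F

/-- The converse for extensions. -/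
theorem isWr_of_extGL [NeZero k] (hk : 2 ≤ k) (hn : 1 ≤ n) (i : Fin (n + 1))
    {g : GL (Fin n → Fin k) F} (hg : IsWr (extGL i g)) : IsWr g := by
  obtain ⟨A, σ, hA⟩ := hg
  refine isWr_of_maps hk hn fun l => ?_
  have hm := maps_wr A σ (i.succAbove l)
  rw [← hA] at hm
  have hfix : ∀ {u : GL (Fin n → Fin k) F}, Maps (extGL (F := F) i u) i i := fun {u} X => ⟨X, by
    rw [Ad_apply, extGL_val, (cm_ext i _ X).eq, mul_assoc, ← extGL_val, Units.mul_inv, mul_one]⟩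
  obtain ⟨j, hj⟩ : ∃ j, i.succAbove j = σ (i.succAbove l) := Fin.exists_succAbove_eq fun h => by
    rw [h] at hm
    have := hm.inv
    rw [← map_inv] at this
    exact Fin.ne_succAbove i l (maps_unique hk hfix this)
  refine ⟨j, fun X => ?_⟩
  obtain ⟨Y, hY⟩ := hm X
  refine ⟨Y, ext_injective i ?_⟩
  rw [ext_fa, hj, ← hY, Ad_apply, Ad_apply, map_mul, map_mul, ext_fa, extGL_val]
  rfl

namespace OForm

variable (Φ : OForm F k) {c₀ : F}

/-- The isometries of the other factors induced on a slice by the stabiliser of the slice. -/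
def sg (G : Subgroup (GL (Fin (n + 1) → Fin k) F)) (i : Fin (n + 1)) (e : Vk) :
    Subgroup (GL (Fin n → Fin k) F) where
  carrier := {d | Φ.Iso d ∧ ∃ g ∈ G, (g : MT) * Φ.P i e e = Φ.P i e e * ext i (d : MS)}
  one_mem' := ⟨by show Φ.adj (1 : MS) * 1 = 1; rw [adj_one, mul_one], 1, one_mem G, by
    rw [Units.val_one, one_mul, Units.val_one, map_one, mul_one]⟩
  mul_mem' := by
    rintro a b ⟨ha, g, hg, hgP⟩ ⟨hb, h, hh, hhP⟩
    refine ⟨ha.mul hb, g * h, mul_mem hg hh, ?_⟩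
    rw [Units.val_mul, mul_assoc, hhP, ← mul_assoc, hgP, mul_assoc, Units.val_mul, map_mul]
  inv_mem' := by
    rintro a ⟨ha, g, hg, hgP⟩
    refine ⟨ha.inv, g⁻¹, inv_mem hg, ?_⟩
    calc ((g⁻¹ : GL (Fin (n + 1) → Fin k) F) : MT) * Φ.P i e e
        = ((g⁻¹ : GL (Fin (n + 1) → Fin k) F) : MT) *
          (Φ.P i e e * (ext i (a : MS) * ext i ((a⁻¹ : GL (Fin n → Fin k) F) : MS))) := by
          rw [← map_mul, Units.mul_inv, map_one, mul_one]
      _ = Φ.P i e e * ext i ((a⁻¹ : GL (Fin n → Fin k) F) : MS) := by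
          rw [← mul_assoc (Φ.P i e e), ← hgP, mul_assoc, Units.inv_mul_cancel_left]

variable {Φ} {G : Subgroup (GL (Fin (n + 1) → Fin k) F)} {i : Fin (n + 1)} {e : Fin k → F}

theorem mem_sg_of_val (hiso : ∀ g ∈ G, Φ.Iso g) [NeZero k] {d : GL (Fin n → Fin k) F}
    {g : GL (Fin (n + 1) → Fin k) F} (hg : g ∈ G) (hv : (g : MT) = ext i (d : MS)) :
    d ∈ Φ.sg G i e := by
  refine ⟨(Φ.iso_extGL i d).1 ?_, g, hg, ?_⟩
  · rw [show extGL i d = g from Units.ext (by rw [extGL_val, hv])]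
    exact hiso g hg
  · rw [hv, (cm_ext i _).P_comm]

variable (O : Φ.Ov c₀ G) [Finite F]
include O

/-- The hypotheses pass to the group induced on the other factors. -/
theorem Ov.sub (i : Fin (n + 1)) (e : Vk) (hn : 2 ≤ n) : Φ.Ov c₀ (Φ.sg G i e) := by
  haveI : NeZero k := ⟨by have := O.hk; omega⟩
  refine ⟨O.c₀_ne, O.hk, O.hq, O.minus, fun g hg => hg.1, fun l x θ hx hθ => ?_,
    fun _ l a ha => ?_, fun hev l a b ha hb => ?_, fun σ hσ => ?_⟩
  · obtain ⟨g, hg, hgv⟩ := O.eu (i.succAbove l) x θ hx hθ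
    exact ⟨Φ.Eu l x θ hx hθ, mem_sg_of_val O.iso hg (by rw [hgv, Eu_val, E, E, ext_fa]), rfl⟩
  · obtain ⟨g, hg, hgv⟩ := O.turn (Or.inr (by omega)) (i.succAbove l) a ha
    refine ⟨⟨Φ.Tn l a, Φ.Tn l a, Φ.Tn_mul_self l ha.1, Φ.Tn_mul_self l ha.1⟩,
      mem_sg_of_val O.iso hg ?_, rfl⟩
    rw [hgv]
    exact (ext_fa i l _).symm
  · obtain ⟨g, hg, hgv⟩ := O.pair hev (i.succAbove l) a b ha hb
    let T : ∀ v : Vk, Φ.β v v ≠ 0 → GL (Fin n → Fin k) F := fun v hv =>
      ⟨Φ.Tn l v, Φ.Tn l v, Φ.Tn_mul_self l hv, Φ.Tn_mul_self l hv⟩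
    refine ⟨T a ha * T b hb, mem_sg_of_val O.iso hg ?_, rfl⟩
    rw [hgv, Units.val_mul, map_mul]
    exact congrArg₂ (· * ·) (ext_fa i l _).symm (ext_fa i l _).symm
  · refine mem_sg_of_val O.iso (O.perm (extPerm i σ) (by rw [sign_extPerm, hσ])) ?_
    exact (ext_permMat i σ).symm

/-- The group induced on the other factors is contained in their wreath group. -/
theorem Ov.sg_wr (hn : 2 ≤ n) (hz : Φ.NoZS G) (hnorm : ∀ g ∈ G, ∀ i, Maps g i i → IsWr g)
    (IH : ∀ G' : Subgroup (GL (Fin n → Fin k) F), Φ.Ov c₀ G' → Φ.Concl G')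
    (he0 : e ≠ 0) (he : Φ.β e e = 0) : ∀ d ∈ Φ.sg G i e, IsWr d := by
  haveI : NeZero k := ⟨by have := O.hk; omega⟩
  rcases IH _ (O.sub i e hn) with h | hB
  · exact h
  exfalso
  obtain ⟨a, last, D⟩ := Φ.exists_diag (by have := O.hk; omega) O.c₀_ne
  obtain ⟨d, ⟨hdI, g, hg, hgP⟩, hdw, hdc⟩ :=
    hB.exists_refl O.hk hn (fun g hg => hg.1) D
  obtain ⟨e', he', hee⟩ := exists_pair Φ.sform he0 he
  set α : MT := ext i (d : MS) with hαdef
  obtain ⟨M, ν, Fr, p, hpI, hpv, hp, u, hu, -, T, hTc, hTa, hgu⟩ :=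
    O.stab_split O hz he0 he he' hee (O.iso g hg)
      (fun x hx => mul_mem (mul_mem hg hx) (inv_mem hg)) (cm_ext i _) hgP
  have hαI : Φ.adj α * α = 1 := (Φ.iso_extGL i d).2 hdI
  have hdc' : ∀ (l : Fin (n + 1)), l ≠ i → ∀ r, Commute α (Φ.P l (a r) (a r)) := fun l hl r => by
    obtain ⟨l', rfl⟩ := Fin.exists_succAbove_eq hl
    have h1 := (hdc l' r).map (ext i).toRingHom.toMonoidHom
    show Commute (ext i (d : MS)) (fa _ _)
    rw [← ext_fa]
    exact h1
  have hd0 : Φ.Dc a T := fun l r => by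
    by_cases hl : l = i
    · subst hl; exact hTc _
    refine D.dc_of_turn (fun s hs => ?_) r
    obtain ⟨L, hL, hLv⟩ := O.turn (Or.inr (by omega)) l (a s) (D.cls hs)
    have hαL : α * Φ.Tn l (a s) = Φ.Tn l (a s) * α := by
      rw [Tn, T1, map_sub, map_one, map_smul]
      exact (((hdc' l hl s).smul_right _).sub_right (Commute.one_right _)).eq
    have hαα : α * Φ.adj α = 1 := mul_eq_one_comm.1 hαI
    have hpL : p * L * p⁻¹ ∈ G := by
      rw [show p * L * p⁻¹ = L from Units.ext (by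
        rw [Units.val_mul, Units.val_mul, hLv, hp, hαL, mul_assoc _ α, hαα, mul_one, Tn,
          (fa_commute (Ne.symm hl) M (Φ.T1 (a s))).eq, mul_assoc, ← map_mul, sim_comm Fr.ne Fr.sim]
        have hν : ν = 1 := by
          have h1 := Fr.adjα
          rw [hαI] at h1
          have h2 := congrFun (congrFun h1 (fun _ => 0)) (fun _ => 0)
          simp only [Matrix.one_apply_eq, Matrix.smul_apply, smul_eq_mul, mul_one] at h2
          exact inv_eq_one.1 h2.symm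
        rw [hν, one_smul, map_one, mul_one])]
      exact hL
    exact (O.stab_comm O hz he0 he Fr (fun x hx => mul_mem (mul_mem hg hx) (inv_mem hg)) hp hu hTc hTa
      hgu hl (by rw [adj1_T1, Φ.T1_mul_self (D.cls hs).1]) hL hLv hpL).symm
  have hTs := D.sym_of_dc n {i} T (by rw [Finset.card_singleton, add_comm])
    (fun l hl => by rw [Finset.mem_singleton.1 hl]; exact hTc) hd0
  have hT0 : T = 0 := by
    have h2 : (2 : F) • T = 0 := by
      rw [two_smul]
      nth_rw 1 [← hTs]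
      rw [hTa, neg_add_cancel]
    exact (smul_eq_zero.1 h2).resolve_left Φ.two
  rw [hT0, mul_zero, add_zero, mul_one] at hgu
  have hpG : p ∈ G := by rw [← Units.ext hgu]; exact mul_mem hg (inv_mem hu)
  have hpw : IsWr p := hnorm p hpG i fun X => ⟨_, by rw [Ad_apply, Fr.conj_fa hp]⟩
  have hsimM := sim_comm Fr.ne Fr.sim
  let Mi : GL (Fin (n + 1) → Fin k) F := ⟨fa i (ν⁻¹ • Φ.adj1 M), fa i M,
    by rw [← map_mul, Matrix.smul_mul, Fr.sim, inv_smul_smul₀ Fr.ne, map_one],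
    by rw [← map_mul, Matrix.mul_smul, hsimM, inv_smul_smul₀ Fr.ne, map_one]⟩
  have hMp : extGL i d = Mi * p := Units.ext (by
    rw [Units.val_mul, hpv, ← mul_assoc]
    show _ = fa i (ν⁻¹ • Φ.adj1 M) * fa i M * α
    rw [← map_mul, Matrix.smul_mul, Fr.sim, inv_smul_smul₀ Fr.ne, map_one, one_mul, extGL_val])
  exact hdw (isWr_of_extGL (by have := O.hk; omega) (by omega) i
    (hMp ▸ isWr_mul (isWr_of_fa (g := Mi) rfl) hpw))

/-- An element fixing a slice lies in the wreath group. -/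
theorem Ov.slice_wr_ind (hn : 2 ≤ n) (hz : Φ.NoZS G) (hnorm : ∀ g ∈ G, ∀ i, Maps g i i → IsWr g)
    (IH : ∀ G' : Subgroup (GL (Fin n → Fin k) F), Φ.Ov c₀ G' → Φ.Concl G')
    (he0 : e ≠ 0) (he : Φ.β e e = 0) {g : GL (Fin (n + 1) → Fin k) F} (hg : g ∈ G) {α : MT}
    (hα : Cm i α) (hgP : (g : MT) * Φ.P i e e = Φ.P i e e * α) : IsWr g := by
  haveI : NeZero k := ⟨by have := O.hk; omega⟩
  obtain ⟨e', he', hee⟩ := exists_pair Φ.sform he0 he
  have hGG : ∀ x ∈ G, g * x * g⁻¹ ∈ G := fun x hx => mul_mem (mul_mem hg hx) (inv_mem hg)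
  refine O.stab_wr O hz he0 he he' hee (O.iso g hg) hGG hα hgP fun M ν Fr p hpI hpv => ?_
  obtain ⟨Y, hY⟩ := exists_ext hα
  obtain ⟨Y', hY'⟩ := exists_ext (Cm.adj Φ hα)
  have hYY : (ν • Y') * Y = 1 := ext_injective i (by
    rw [map_mul, map_smul, ← hY, ← hY', Matrix.smul_mul, Fr.adjα, smul_inv_smul₀ Fr.ne, map_one])
  let y : GL (Fin n → Fin k) F := ⟨Y, ν • Y', mul_eq_one_comm.1 hYY, hYY⟩
  have hyv : ext i (y : MS) = α := hY.symm
  have hadjY : Φ.adj Y = Y' := ext_injective i (by rw [← adj_ext, ← hY, hY'])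
  have hgiP : ((g⁻¹ : GL (Fin (n + 1) → Fin k) F) : MT) * Φ.P i e e =
      Φ.P i e e * ext i ((y⁻¹ : GL (Fin n → Fin k) F) : MS) := by
    calc _ = ((g⁻¹ : GL (Fin (n + 1) → Fin k) F) : MT) *
          (Φ.P i e e * (α * ext i ((y⁻¹ : GL (Fin n → Fin k) F) : MS))) := by
          rw [← hyv, ← map_mul, Units.mul_inv, map_one, mul_one]
      _ = _ := by rw [← mul_assoc (Φ.P i e e), ← hgP, mul_assoc, Units.inv_mul_cancel_left]
  have hwr : IsWr y⁻¹ := by
    refine Φ.wr_of_conj_E O.hk (by omega) O.hq O.minus ⟨ν, Fr.ne, ?_⟩ fun l x θ hx hθ u huv => ?_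
    · show Φ.adj (ν • Y') * (ν • Y') = ν • 1
      rw [adj_smul, ← hadjY, adj_adj, Matrix.smul_mul, hadjY, mul_eq_one_comm.1 hYY]
    refine O.sg_wr hn hz hnorm IH he0 he _ (i := i) ?_
    obtain ⟨L, hL, hLv⟩ := O.eu (i.succAbove l) x θ hx hθ
    have huv' : ext i (u : MS) = (L : MT) := by rw [huv, hLv, E, E, ext_fa]
    refine ⟨?_, g * L * g⁻¹, hGG L hL, ?_⟩
    · show Φ.adj _ * _ = 1
      have hyI : Φ.adj Y * Y = ν⁻¹ • 1 := by
        rw [hadjY, ← inv_smul_smul₀ Fr.ne (Y' * Y), ← Matrix.smul_mul, hYY]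
      have hyI' : Φ.adj (ν • Y') * (ν • Y') = ν • 1 := by
        rw [adj_smul, ← hadjY, adj_adj, Matrix.smul_mul, hadjY, mul_eq_one_comm.1 hYY]
      have hu1 : Φ.adj (u : MS) * (u : MS) = 1 := by
        rw [huv, adj_E, Φ.E_mul l hx (by rw [Φ.sform.neg_left, hθ, neg_zero]) hθ, neg_add_cancel,
          E_zero]
      rw [inv_inv, Units.val_mul, Units.val_mul, adj_mul, adj_mul]
      show Φ.adj (ν • Y') * (Φ.adj (u : MS) * Φ.adj Y) * (Y * (u : MS) * (ν • Y')) = 1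
      rw [show Φ.adj (ν • Y') * (Φ.adj (u : MS) * Φ.adj Y) * (Y * (u : MS) * (ν • Y')) =
        Φ.adj (ν • Y') * (Φ.adj (u : MS) * (Φ.adj Y * Y) * (u : MS)) * (ν • Y') by
          simp only [mul_assoc], hyI]
      rw [Matrix.mul_smul (Φ.adj (u : MS)) ν⁻¹, mul_one, Matrix.smul_mul ν⁻¹ _ (u : MS), hu1,
        Matrix.mul_smul (Φ.adj (ν • Y')) ν⁻¹, mul_one, Matrix.smul_mul ν⁻¹, hyI', inv_smul_smul₀ Fr.ne]
    · rw [Units.val_mul, Units.val_mul, mul_assoc, hgiP, mul_assoc (g : MT), ← huv', ← mul_assoc (ext i (u : MS)),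
        (cm_ext i _).P_comm, mul_assoc (Φ.P i e e), ← mul_assoc (g : MT), hgP, ← hyv, mul_assoc,
        inv_inv, Units.val_mul, Units.val_mul, map_mul, map_mul, mul_assoc (ext i (y : MS))]
  have hyw : IsWr (extGL i y) := isWr_extGL i (by simpa using isWr_inv hwr)
  let Mu : GL (Fin (n + 1) → Fin k) F := ⟨fa i M, fa i (ν⁻¹ • Φ.adj1 M),
    by rw [← map_mul, Matrix.mul_smul, sim_comm Fr.ne Fr.sim, inv_smul_smul₀ Fr.ne, map_one],
    by rw [← map_mul, Matrix.smul_mul, Fr.sim, inv_smul_smul₀ Fr.ne, map_one]⟩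
  rw [show p = Mu * extGL i y from Units.ext (by rw [Units.val_mul, hpv, extGL_val, hyv])]
  exact isWr_mul (isWr_of_fa (g := Mu) rfl) hyw

end OForm

end CfsgLib.MaxSub.TensorPowOrth
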