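import Cfsg.Agent.Lib.MaxSub.TensorPowOrth.Nilp

/-!
Isometries of a single factor in the group: transitivity on singular points and a torus.
-/

set_option autoImplicit false
set_option maxHeartbeats 400000
set_option linter.unusedSectionVars false

namespace CfsgLib.MaxSub.TensorPowOrth

open Matrix Module
open CfsgLib.Aschbacher CfsgLib.MaxSub.TensorPow
open CfsgLib.MaxSub.TensorOO (eich_apply eich_swap exists_pair pairPerp mem_pairPerp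
  exists_aniso_pairPerp pairPerp_nondeg)

variable {F : Type*} [Field F] {k t : ℕ}

local notation "Vk" => Fin k → F
local notation "Mm" => Matrix (Fin k) (Fin k) F
local notation "MT" => Matrix (Fin t → Fin k) (Fin t → Fin k) F

namespace OForm

variable (Φ : OForm F k)

/-- An isometry of a factor acting in the group. -/
def FacIn (G : Subgroup (GL (Fin t → Fin k) F)) (i : Fin t) (M : Mm) : Prop :=
  Φ.adj1 M * M = 1 ∧ ∃ g ∈ G, (g : MT) = fa i M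

variable {Φ} {c₀ : F} {G : Subgroup (GL (Fin t → Fin k) F)} {i : Fin t}

theorem FacIn.mul {M N : Mm} (hM : Φ.FacIn G i M) (hN : Φ.FacIn G i N) : Φ.FacIn G i (M * N) := by
  obtain ⟨hM1, g, hg, hgv⟩ := hM
  obtain ⟨hN1, h, hh, hhv⟩ := hN
  refine ⟨?_, g * h, mul_mem hg hh, by rw [Units.val_mul, hgv, hhv, map_mul]⟩
  rw [adj1_mul, mul_assoc, ← mul_assoc (Φ.adj1 M), hM1, one_mul, hN1]

theorem FacIn.one : Φ.FacIn G i (1 : Mm) :=
  ⟨by rw [adj1_one, one_mul], 1, one_mem G, by rw [Units.val_one, map_one]⟩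

variable (O : Φ.Ov c₀ G)
include O

theorem Ov.facIn_E {e θ : Vk} (he : Φ.β e e = 0) (hθ : Φ.β θ e = 0) :
    Φ.FacIn G i (Φ.E1 e θ) := by
  refine ⟨?_, O.eu i e θ he hθ⟩
  rw [adj1_E1, Φ.E1_mul he (by rw [Φ.sform.neg_left, hθ, neg_zero]) hθ, neg_add_cancel, E1_zero]

theorem Ov.facIn_T (hg : Odd k ∨ 3 ≤ t) {a : Vk} (ha : Φ.Cls c₀ a) : Φ.FacIn G i (Φ.T1 a) :=
  ⟨by rw [adj1_T1, Φ.T1_mul_self ha.1], O.turn hg i a ha⟩

theorem Ov.facIn_pair (hk : Even k) {a b : Vk} (ha : Φ.β a a ≠ 0) (hb : Φ.β b b ≠ 0) :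
    Φ.FacIn G i (Φ.T1 a * Φ.T1 b) := by
  refine ⟨?_, ?_⟩
  · rw [adj1_mul, adj1_T1, adj1_T1, mul_assoc, ← mul_assoc (Φ.T1 a), Φ.T1_mul_self ha, one_mul,
      Φ.T1_mul_self hb]
  · obtain ⟨g, hg, hgv⟩ := O.pair hk i a b ha hb
    exact ⟨g, hg, by rw [hgv, map_mul]; rfl⟩

variable [Finite F]

theorem Ov.facIn_step {e y : Vk} (he : Φ.β e e = 0) (hy : Φ.β y y = 0) (hey : Φ.β e y ≠ 0) :
    ∃ M, Φ.FacIn G i M ∧ ∃ s : F, s ≠ 0 ∧ M *ᵥ e = s • y := by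
  set e' := (Φ.β e y)⁻¹ • y with he'd
  have he' : Φ.β e' e' = 0 := by simp [he'd, Φ.sform.smul_left, Φ.sform.smul_right, hy]
  have h : Φ.β e e' = 1 := by rw [he'd, Φ.sform.smul_right, inv_mul_cancel₀ hey]
  obtain ⟨z, hz, hzz⟩ := exists_aniso_pairPerp Φ.sform (by rw [finrank_vk]; exact O.hk) he he' h
  obtain ⟨hz1, hz2⟩ := (mem_pairPerp Φ.sform).1 hz
  refine ⟨_, (O.facIn_E (θ := (Φ.β z z / 2)⁻¹ • z) he (by
    rw [Φ.sform.smul_left, hz1, mul_zero])).mul (O.facIn_E he' hz2),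
    -(Φ.β z z / 2) * (Φ.β e y)⁻¹,
    mul_ne_zero (neg_ne_zero.2 (div_ne_zero hzz Φ.two)) (inv_ne_zero hey), ?_⟩
  rw [← Matrix.mulVec_mulVec, E1_mulVec, E1_mulVec, eich_swap Φ.sform he h hz hzz, he'd, smul_smul]

/-- Singular points of a factor are conjugate in the group. -/
theorem Ov.facIn_move {e e₁ : Vk} (he0 : e ≠ 0) (he : Φ.β e e = 0) (he₁0 : e₁ ≠ 0)
    (he₁ : Φ.β e₁ e₁ = 0) : ∃ M, Φ.FacIn G i M ∧ ∃ s : F, s ≠ 0 ∧ M *ᵥ e = s • e₁ := by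
  by_cases h0 : Φ.β e e₁ ≠ 0
  · exact O.facIn_step he he₁ h0
  rw [not_not] at h0
  obtain ⟨y, hy, hey, he₁y⟩ : ∃ y, Φ.β y y = 0 ∧ Φ.β e y ≠ 0 ∧ Φ.β e₁ y ≠ 0 := by
    obtain ⟨e', he', h⟩ := exists_pair Φ.sform he0 he
    by_cases h1 : Φ.β e₁ e' = 0
    · have HR := Φ.sform.restrict (pairPerp_nondeg Φ.sform he he' h)
      obtain ⟨g, hg, heg⟩ := exists_pair HR
        (e := ⟨e₁, (mem_pairPerp Φ.sform).2 ⟨Φ.sform.symm0 h0, h1⟩⟩)
        (fun e => he₁0 (congrArg Subtype.val e)) he₁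
      obtain ⟨hg1, hg2⟩ := (mem_pairPerp Φ.sform).1 g.2
      change Φ.β (g : Vk) g = 0 at hg
      change Φ.β e₁ (g : Vk) = 1 at heg
      refine ⟨e' + g, ?_, ?_, ?_⟩
      · simp [Φ.sform.add_left, Φ.sform.add_right, he', hg, hg2, Φ.sform.symm0 hg2]
      · simp [Φ.sform.add_right, h, Φ.sform.symm0 hg1]
      · simp [Φ.sform.add_right, h1, heg]
    · exact ⟨e', he', by rw [h]; exact one_ne_zero, h1⟩
  obtain ⟨M, hM, s, hs, hMe⟩ := O.facIn_step (i := i) he hy hey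
  obtain ⟨M', hM', s', hs', hMy⟩ :=
    O.facIn_step (i := i) hy he₁ (fun h => he₁y (Φ.sform.symm0 h))
  exact ⟨M' * M, hM'.mul hM, s * s', mul_ne_zero hs hs', by
    rw [← Matrix.mulVec_mulVec, hMe, Matrix.mulVec_smul, hMy, smul_smul]⟩

omit O [Finite F] in
/-- The torus of a hyperbolic pair, from Eichler transformations. -/
theorem torus_of_E (hE : ∀ e θ, Φ.β e e = 0 → Φ.β θ e = 0 → Φ.FacIn G i (Φ.E1 e θ))
    {e e' a : Vk} (he : Φ.β e e = 0) (he' : Φ.β e' e' = 0) (h : Φ.β e e' = 1)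
    (ha : a ∈ pairPerp Φ.sform e e') (haa : Φ.β a a ≠ 0) {s : F} (hs : s ≠ 0) :
    ∃ M, Φ.FacIn G i M ∧ M *ᵥ e = s ^ 2 • e ∧ ∃ r : F, M *ᵥ a = a + r • e := by
  obtain ⟨h1, h2⟩ := (mem_pairPerp Φ.sform).1 ha
  have hsm : ∀ {v : Vk} (r : F), Φ.β a v = 0 → Φ.β (r • a) v = 0 := fun r hv => by
    rw [Φ.sform.smul_left, hv, mul_zero]
  have hD := hE e' (s⁻¹ • a) he' (hsm _ h2)
  have hC := hE e ((s / (Φ.β a a / 2)) • a) he (hsm _ h1)
  have hB := hE e ((Φ.β a a / 2)⁻¹ • a) he (hsm _ h1)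
  have hA := hE e' a he' h2
  refine ⟨_, ((hD.mul hC).mul hB).mul hA, ?_, 2 * s * (1 + s), ?_⟩ <;>
  · simp only [← Matrix.mulVec_mulVec, E1_mulVec, eich_apply, Φ.sform.add_left, Φ.sform.add_right,
      Φ.sform.sub_left, Φ.sform.sub_right, Φ.sform.smul_left, Φ.sform.smul_right, he, he', h,
      Φ.sform.symm e e', Φ.sform.symm a e, Φ.sform.symm a e', h1, h2]
    have := Φ.two
    match_scalars <;> field_simp <;> ring

omit [Finite F] in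
/-- The torus of a hyperbolic pair. -/
theorem Ov.torus {e e' a : Vk} (he : Φ.β e e = 0) (he' : Φ.β e' e' = 0) (h : Φ.β e e' = 1)
    (ha : a ∈ pairPerp Φ.sform e e') (haa : Φ.β a a ≠ 0) {s : F} (hs : s ≠ 0) :
    ∃ M, Φ.FacIn G i M ∧ M *ᵥ e = s ^ 2 • e ∧ ∃ r : F, M *ᵥ a = a + r • e :=
  torus_of_E (fun _ _ h1 h2 => O.facIn_E h1 h2) he he' h ha haa hs

end OForm

end CfsgLib.MaxSub.TensorPowOrth
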