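import Cfsg.Agent.Lib.MaxSub.TensorPowOrth.Split
import Cfsg.Agent.Lib.MaxSub.TensorPowOrth.Torus
import Cfsg.Agent.Lib.MaxSub.TensorPow.Moving

/-!
Elements of the group trivial on the perpendicular of an isotropic slice: if there is one, then there
are elements of rank two, and there are only two factors.
-/

set_option autoImplicit false
set_option maxHeartbeats 800000
set_option linter.unusedSectionVars false

namespace CfsgLib.MaxSub.TensorPowOrth

open Matrix Module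
open CfsgLib.Aschbacher CfsgLib.MaxSub.TensorPow
open CfsgLib.MaxSub.TensorOO (exists_pair split_pair singular_span pairPerp mem_pairPerp
  exists_aniso_pairPerp eich_apply)

variable {F : Type*} [Field F] {k t : ℕ}

local notation "Vk" => Fin k → F
local notation "Mm" => Matrix (Fin k) (Fin k) F
local notation "MT" => Matrix (Fin t → Fin k) (Fin t → Fin k) F

namespace OForm

variable (Φ : OForm F k)

/-- The skew operators giving an element trivial on the perpendicular of an isotropic slice. -/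
def ZS (G : Subgroup (GL (Fin t → Fin k) F)) (i : Fin t) (e : Vk) (T : MT) : Prop :=
  Cm i T ∧ Φ.adj T = -T ∧ ∃ g ∈ G, (g : MT) = 1 + Φ.P i e e * T

/-- The operators commuting with a set of factors, of given symmetry. -/
def cmGrp (D : Finset (Fin t)) (ε : F) : AddSubgroup MT where
  carrier := {T | (∀ l ∈ D, Cm l T) ∧ Φ.adj T = ε • T}
  zero_mem' := ⟨fun _ _ => cm_zero, by rw [adj_zero, smul_zero]⟩
  add_mem' := fun {a b} ha hb =>
    ⟨fun l hl => (ha.1 l hl).add (hb.1 l hl), by rw [adj_add, ha.2, hb.2, smul_add]⟩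
  neg_mem' := fun {a} ha => ⟨fun l hl => (ha.1 l hl).neg, by rw [adj_neg, ha.2, smul_neg]⟩

theorem mem_cmGrp {D : Finset (Fin t)} {ε : F} {T : MT} :
    T ∈ Φ.cmGrp D ε ↔ (∀ l ∈ D, Cm l T) ∧ Φ.adj T = ε • T := Iff.rfl

theorem beta_mulVec (M : Mm) (x y : Vk) : Φ.β (M *ᵥ x) y = Φ.β x (Φ.adj1 M *ᵥ y) := by
  rw [β, β, adj1, Matrix.mulVec_mulVec, mul_assoc, Matrix.mul_nonsing_inv_cancel_left _ _ Φ.det,
    ← Matrix.mulVec_mulVec, Matrix.dotProduct_mulVec x, Matrix.vecMul_transpose]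

theorem isometry_beta {M : Mm} (hM : Φ.adj1 M * M = 1) (x y : Vk) :
    Φ.β (M *ᵥ x) (M *ᵥ y) = Φ.β x y := by
  rw [beta_mulVec, Matrix.mulVec_mulVec, hM, Matrix.one_mulVec]

/-- Products with a vanishing factor. -/
theorem P_mul_cm_ne_zero {i : Fin t} {e : Vk} (he : e ≠ 0) {T : MT} (hT : Cm i T) (h : T ≠ 0) :
    Φ.P i e e * T ≠ 0 := fun h0 => by
  obtain ⟨u, hu⟩ := Φ.sform.exists_left he
  have h1 := congrArg (Φ.comp i u u) h0
  rw [Φ.comp_P_mul hT, comp_zero, hu, Φ.beta_symm u e, hu, one_mul, one_smul] at h1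
  exact h h1

theorem W_mul_cm_ne_zero {i : Fin t} {θ e : Vk} (he0 : e ≠ 0) (he : Φ.β e e = 0)
    (hθ : Φ.β θ e = 0) (hθθ : Φ.β θ θ ≠ 0) {T : MT} (hT : Cm i T) (h : T ≠ 0) :
    Φ.W i θ e * T ≠ 0 := fun h0 => by
  obtain ⟨u, hu⟩ := Φ.sform.exists_left he0
  have h1 := congrArg (Φ.comp i u θ) h0
  rw [Φ.comp_W_mul hT, comp_zero, Φ.sform.symm θ e, hθ, mul_zero, zero_sub, hu, one_mul] at h1
  exact h ((smul_eq_zero.1 h1).resolve_left (neg_ne_zero.2 hθθ))

theorem W_sq {i : Fin t} {θ e : Vk} (he : Φ.β e e = 0) (hθ : Φ.β θ e = 0) :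
    Φ.W i θ e * Φ.W i θ e = (-Φ.β θ θ) • (Φ.P i e e : MT) := by
  simp only [W, sub_mul, mul_sub, P_mul, hθ, he, Φ.sform.symm0 hθ, zero_smul, neg_smul]
  abel

theorem W_smul_left (i : Fin t) (c : F) (x y : Vk) : Φ.W i (c • x) y = c • (Φ.W i x y : MT) := by
  rw [W, W, P_smul_left, P_smul_right, smul_sub]

theorem W_smul_right (i : Fin t) (c : F) (x y : Vk) : Φ.W i x (c • y) = c • (Φ.W i x y : MT) := by
  rw [W, W, P_smul_left, P_smul_right, smul_sub]

theorem W_sub_right (i : Fin t) (x y z : Vk) :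
    Φ.W i x (y - z) = (Φ.W i x y - Φ.W i x z : MT) := by
  rw [W, W, W, P_sub_left, P_sub_right]; abel

theorem W_zero_right (i : Fin t) (x : Vk) : (Φ.W i x 0 : MT) = 0 := by
  rw [W, P_zero_left, P_zero_right, sub_zero]

/-- The conjugate of a decomposed operator by an element of a factor. -/
theorem conj_dec {j : Fin t} {B X : MT} {M N : Mm} (hB : Cm j B) :
    fa j M * (X * B) * fa j N = (fa j M * X * fa j N) * B := by
  rw [mul_assoc, mul_assoc X, (hB N).eq, ← mul_assoc X, ← mul_assoc, ← mul_assoc]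

/-- The conjugate of a factor operator by another factor. -/
theorem conj_other {j : Fin t} {B : MT} {M : Mm} (hM : Φ.adj1 M * M = 1) (hB : Cm j B) :
    fa j M * B * fa j (Φ.adj1 M) = B := by
  rw [← (hB M).eq, mul_assoc, ← map_mul, mul_eq_one_comm.1 hM, map_one, mul_one]

variable {Φ} {c₀ : F} {G : Subgroup (GL (Fin t → Fin k) F)}

theorem FacIn.inv_val {j : Fin t} {M : Mm} (hM : Φ.adj1 M * M = 1) {g : GL (Fin t → Fin k) F}
    (hg : (g : MT) = fa j M) : ((g⁻¹ : GL (Fin t → Fin k) F) : MT) = fa j (Φ.adj1 M) :=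
  Units.inv_eq_of_mul_eq_one_left (by rw [hg, ← map_mul, hM, map_one])

theorem adj_conj {j : Fin t} (M : Mm) (X : MT) :
    Φ.adj (fa j M * X * fa j (Φ.adj1 M)) = fa j M * Φ.adj X * fa j (Φ.adj1 M) := by
  rw [adj_mul, adj_mul, adj_fa, adj_fa, adj1_adj1, mul_assoc]

theorem ZS.neg {i : Fin t} {e : Vk} (he : Φ.β e e = 0) {T : MT} (h : Φ.ZS G i e T) :
    Φ.ZS G i e (-T) := by
  obtain ⟨hc, ha, g, hg, hgv⟩ := h
  refine ⟨hc.neg, by rw [adj_neg, ha], g⁻¹, inv_mem hg, Units.inv_eq_of_mul_eq_one_left ?_⟩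
  rw [hgv, mul_neg]
  simp only [add_mul, mul_add, one_mul, mul_one, neg_mul, mul_neg]
  rw [show Φ.P i e e * T * (Φ.P i e e * T) = 0 by
    rw [mul_assoc, ← mul_assoc T, hc.P_comm, mul_assoc, P_mul', he, zero_smul]]
  abel

theorem ZS.add {i : Fin t} {e : Vk} (he : Φ.β e e = 0) {T T' : MT} (h : Φ.ZS G i e T)
    (h' : Φ.ZS G i e T') : Φ.ZS G i e (T + T') := by
  obtain ⟨hc, ha, g, hg, hgv⟩ := h
  obtain ⟨hc', ha', g', hg', hgv'⟩ := h'
  refine ⟨hc.add hc', by rw [adj_add, ha, ha', neg_add], g * g', mul_mem hg hg', ?_⟩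
  rw [Units.val_mul, hgv, hgv']
  simp only [add_mul, mul_add, one_mul, mul_one]
  rw [show Φ.P i e e * T * (Φ.P i e e * T') = 0 by
    rw [mul_assoc, ← mul_assoc T, hc.P_comm, mul_assoc, P_mul', he, zero_smul]]
  abel

theorem zs_zero (i : Fin t) (e : Vk) : Φ.ZS G i e (0 : MT) :=
  ⟨cm_zero, by rw [adj_zero, neg_zero], 1, one_mem G, by simp⟩

theorem zs_degenerate (i : Fin t) {T : MT} (hc : Cm i T) (ha : Φ.adj T = -T) :
    Φ.ZS G i 0 T := ⟨hc, ha, 1, one_mem G, by simp [P_zero_left]⟩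

/-- The skew operators at an isotropic vector form a group. -/
def zsGrp {e : Vk} (he : Φ.β e e = 0) (i : Fin t) : AddSubgroup MT where
  carrier := {T | Φ.ZS G i e T}
  zero_mem' := zs_zero i e
  add_mem' := fun ha hb => ha.add he hb
  neg_mem' := fun ha => ha.neg he

/-- Conjugation in another factor. -/
theorem ZS.conj {i j : Fin t} (hij : j ≠ i) {e : Vk} {T : MT} (h : Φ.ZS G i e T) {M : Mm}
    (hM : Φ.FacIn G j M) : Φ.ZS G i e (fa j M * T * fa j (Φ.adj1 M)) := by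
  obtain ⟨hc, ha, g, hg, hgv⟩ := h
  obtain ⟨hM1, u, hu, huv⟩ := hM
  refine ⟨(((cm_fa hij _).mul hc).mul (cm_fa hij _)), by rw [adj_conj, ha, mul_neg, neg_mul],
    u * g * u⁻¹, mul_mem (mul_mem hu hg) (inv_mem hu), ?_⟩
  rw [Units.val_mul, Units.val_mul, huv, hgv, FacIn.inv_val hM1 huv, mul_add, add_mul, mul_one,
    ← map_mul, mul_eq_one_comm.1 hM1, map_one, ← mul_assoc (fa j M),
    show fa j M * Φ.P i e e = Φ.P i e e * fa j M from (fa_commute hij M _).eq]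
  simp only [mul_assoc]

/-- Conjugation in the same factor. -/
theorem ZS.move {i : Fin t} {e : Vk} {T : MT} (h : Φ.ZS G i e T) {M : Mm}
    (hM : Φ.FacIn G i M) : Φ.ZS G i (M *ᵥ e) T := by
  obtain ⟨hc, ha, g, hg, hgv⟩ := h
  obtain ⟨hM1, u, hu, huv⟩ := hM
  refine ⟨hc, ha, u * g * u⁻¹, mul_mem (mul_mem hu hg) (inv_mem hu), ?_⟩
  rw [Units.val_mul, Units.val_mul, huv, hgv, FacIn.inv_val hM1 huv, mul_add, add_mul, mul_one,
    ← map_mul, mul_eq_one_comm.1 hM1, map_one, conj_dec hc, conj_P, adj1_adj1]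

theorem ZS.of_smul {i : Fin t} {e : Vk} {s : F} {T : MT} (h : Φ.ZS G i (s • e) T) :
    Φ.ZS G i e (s ^ 2 • T) := by
  obtain ⟨hc, ha, g, hg, hgv⟩ := h
  refine ⟨hc.smul _, by rw [adj_smul, ha, smul_neg], g, hg, ?_⟩
  rw [hgv, P_smul_left, P_smul_right, smul_smul, ← pow_two, Matrix.smul_mul, Matrix.mul_smul]

/-- The decomposed elements of a pair of factors. -/
def TT (G : Subgroup (GL (Fin t → Fin k) F)) (l i : Fin t) (M : MT) : Prop :=
  Cm l M ∧ Cm i M ∧ Φ.adj M = M ∧ ∀ f e θ, Φ.β f f = 0 → Φ.β e e = 0 → Φ.β θ e = 0 →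
    Φ.ZS G l f (Φ.W i θ e * M)

/-- The decomposed elements of a pair of factors form a group. -/
def ttGrp (G : Subgroup (GL (Fin t → Fin k) F)) (l i : Fin t) (hli : i ≠ l) : AddSubgroup MT where
  carrier := {M | Φ.TT G l i M}
  zero_mem' := ⟨cm_zero, cm_zero, Φ.adj_zero, fun f e θ hf _ _ => by
    rw [mul_zero]; exact zs_zero l f⟩
  add_mem' := fun {a b} ha hb => ⟨ha.1.add hb.1, ha.2.1.add hb.2.1,
    by rw [adj_add, ha.2.2.1, hb.2.2.1], fun f e θ hf he hθ => by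
      rw [mul_add]; exact (ha.2.2.2 f e θ hf he hθ).add hf (hb.2.2.2 f e θ hf he hθ)⟩
  neg_mem' := fun {a} ha => ⟨ha.1.neg, ha.2.1.neg, by rw [adj_neg, ha.2.2.1],
    fun f e θ hf he hθ => by rw [mul_neg]; exact (ha.2.2.2 f e θ hf he hθ).neg hf⟩

theorem TT.smul {l i : Fin t} {M : MT} (h : Φ.TT G l i M) (c : F) : Φ.TT G l i (c • M) :=
  ⟨h.1.smul c, h.2.1.smul c, by rw [adj_smul, h.2.2.1], fun f e θ hf he hθ => by
    have := h.2.2.2 f e (c • θ) hf he (by rw [Φ.sform.smul_left, hθ, mul_zero])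
    rwa [W_smul_left, Matrix.smul_mul, ← Matrix.mul_smul] at this⟩

theorem sym_conj {j : Fin t} (M : Mm) {X : MT} (h : Φ.adj X = X) :
    Φ.adj (fa j M * X * fa j (Φ.adj1 M)) = fa j M * X * fa j (Φ.adj1 M) := by rw [adj_conj, h]

variable (O : Φ.Ov c₀ G)
include O

theorem Ov.conj_mem {j : Fin t} {𝒳 : AddSubgroup MT}
    (h : ∀ M, Φ.FacIn G j M → ∀ Y ∈ 𝒳, fa j M * Y * fa j (Φ.adj1 M) ∈ 𝒳) :
    Φ.InvSet c₀ j 𝒳 := by
  refine ⟨fun e θ he hθ Y hY => ?_, fun hg a ha Y hY => ?_, fun hk a b ha hb Y hY => ?_⟩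
  · have := h _ (O.facIn_E he hθ) Y hY
    rwa [adj1_E1] at this
  · have := h _ (O.facIn_T hg ha) Y hY
    rwa [adj1_T1] at this
  · have := h _ (O.facIn_pair hk ha hb) Y hY
    rwa [adj1_mul, adj1_T1, adj1_T1, map_mul, map_mul] at this

omit O in
theorem ttGrp_conj {l i j : Fin t} (hli : i ≠ l) (hjl : j ≠ l) (hji : j ≠ i) {M : Mm}
    (hM : Φ.FacIn G j M) : ∀ Y ∈ ttGrp (Φ := Φ) G l i hli, fa j M * Y * fa j (Φ.adj1 M) ∈ ttGrp (Φ := Φ) G l i hli := by
  rintro Y ⟨hl, hi, ha, hz⟩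
  refine ⟨((cm_fa hjl _).mul hl).mul (cm_fa hjl _), ((cm_fa hji _).mul hi).mul (cm_fa hji _),
    sym_conj M ha, fun f e θ hf he hθ => ?_⟩
  have := (hz f e θ hf he hθ).conj hjl hM
  rwa [← mul_assoc (fa j M), ← (Φ.cm_W (Ne.symm hji) θ e M).eq, mul_assoc, mul_assoc,
    ← mul_assoc (fa j M)] at this

/-- An element trivial on the perpendicular of a slice maps no factor algebra to one. -/
theorem Ov.zs_not_maps {i j : Fin t} {e : Vk} (he0 : e ≠ 0) (he : Φ.β e e = 0) {T : MT}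
    (hc : Cm i T) (ha : Φ.adj T = -T) (hT : T ≠ 0) {g : GL (Fin t → Fin k) F}
    (hg : (g : MT) = 1 + Φ.P i e e * T) (hm : Maps g i j) : False := by
  obtain ⟨e', he', h⟩ := exists_pair Φ.sform he0 he
  have h' : Φ.β e' e = 1 := by rw [Φ.beta_symm e e', h]
  obtain ⟨Z, hZ⟩ := hm (Φ.rk e' e')
  have hinv : ((g⁻¹ : GL (Fin t → Fin k) F) : MT) = 1 - Φ.P i e e * T := by
    refine Units.inv_eq_of_mul_eq_one_left ?_
    rw [hg]; simp only [sub_mul, mul_add, one_mul, mul_one,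
      show Φ.P i e e * T * (Φ.P i e e * T) = 0 by
        rw [mul_assoc, ← mul_assoc T, hc.P_comm, mul_assoc, P_mul', he, zero_smul]]
    abel
  have e1 : (fa j Z : MT) = Φ.P i e' e' + Φ.P i e e' * T - Φ.P i e' e * T
      - Φ.P i e e * (T * T) := by
    rw [← hZ, Ad_apply, hg, hinv]
    show (1 + Φ.P i e e * T) * Φ.P i e' e' * (1 - Φ.P i e e * T) = _
    have a1 : Φ.P i e e * T * Φ.P i e' e' = Φ.P i e e' * T := by
      rw [mul_assoc, hc.P_comm, P_mul', h, one_smul]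
    rw [add_mul, one_mul, a1, add_mul, mul_sub, mul_one, mul_sub, mul_one, P_mul', h', one_smul,
      show Φ.P i e e' * T * (Φ.P i e e * T) = Φ.P i e e * (T * T) by
        rw [mul_assoc, ← mul_assoc T, hc.P_comm, mul_assoc, P_mul', h', one_smul]]
    abel
  have hT2 : Cm i (T * T) := hc.mul hc
  rcases eq_or_ne j i with rfl | hji
  · have e2 := congrArg (Φ.comp j e' e) e1
    rw [comp_fa, comp_sub, comp_sub, comp_add, comp_P, Φ.comp_P_mul hc, Φ.comp_P_mul hc,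
      Φ.comp_P_mul hT2, h', he'] at e2
    simp only [he, mul_zero, zero_mul, one_mul, zero_smul, one_smul, zero_add, sub_zero] at e2
    have e3 := congrArg Φ.adj e2
    rw [adj_smul, adj_one, ha, e2] at e3
    refine hT ((smul_eq_zero.1 (?_ : (2 : F) • T = 0)).resolve_left Φ.two)
    rw [two_smul, ← eq_neg_iff_add_eq_zero]
    exact e3
  · have e2 := congrArg (Φ.comp i e e) e1
    rw [Φ.comp_cm (cm_fa hji Z), comp_sub, comp_sub, comp_add, comp_P, Φ.comp_P_mul hc,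
      Φ.comp_P_mul hc, Φ.comp_P_mul hT2, he, h, h'] at e2
    simp only [he, mul_zero, zero_mul, one_mul, zero_smul, one_smul, add_zero, sub_zero] at e2
    haveI : Nonempty (Fin t → Fin k) := ⟨fun _ => ⟨0, by have := O.hk; omega⟩⟩
    exact zero_ne_one e2

/-- With two factors, the compressions in the second of an operator commuting with the first are
scalars. -/
theorem Ov.comp_scalar {m : Fin t} {D : Finset (Fin t)} {i : Fin t} (hm : m ∉ D) {T : MT}
    (hT : ∀ p ∈ D, Cm p T) (hi : i ∈ D) :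
    k = 4 → t ≤ 2 → ∀ x y, ∃ c : F, Φ.comp m x y T = c • 1 := fun _ ht x y => by
  refine scalar_of_commute fun p X => ?_
  have hmi : m ≠ i := fun h => hm (h ▸ hi)
  rcases eq_or_ne p m with rfl | hpm
  · exact Φ.cm_comp p x y T X
  · obtain rfl : p = i := by omega
    exact Cm.sum _ _ (fun r _ => ((cm_fa hmi _).mul (hT p hi)).mul (cm_fa hmi _)) X

variable [Finite F]

/-- A non-zero skew operator in an invariant group gives a decomposed one. -/
theorem Ov.exists_dec {i₀ : Fin t} : ∀ (n : ℕ) (D : Finset (Fin t)) (𝒳 : AddSubgroup MT),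
    i₀ ∈ D → (Finset.univ \ D).card ≤ n → (∀ T ∈ 𝒳, T ∈ Φ.cmGrp D (-1)) →
    (∀ m ∉ D, ∀ M, Φ.FacIn G m M → ∀ Y ∈ 𝒳, fa m M * Y * fa m (Φ.adj1 M) ∈ 𝒳) →
    ∀ T ∈ 𝒳, T ≠ 0 → ∃ (l : Fin t) (θ f : Vk) (R : MT), l ∉ D ∧ f ≠ 0 ∧ Φ.β f f = 0 ∧
      Φ.β θ f = 0 ∧ Φ.β θ θ ≠ 0 ∧ R ≠ 0 ∧ R ∈ Φ.cmGrp (insert l D) 1 ∧ Φ.W l θ f * R ∈ 𝒳 := by
  intro n
  induction n with
  | zero =>
    intro D 𝒳 _ hD h𝒳 _ T hT hT0
    obtain ⟨hc, ha⟩ := h𝒳 T hT
    have hD' : ∀ l, l ∈ D := fun l => by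
      by_contra hl
      have : (Finset.univ \ D).Nonempty := ⟨l, by simp [hl]⟩
      exact this.card_pos.ne' (Nat.le_zero.1 hD)
    obtain ⟨c, rfl⟩ := scalar_of_commute fun l X => hc l (hD' l) X
    rw [neg_one_smul, adj_smul, adj_one, eq_neg_iff_add_eq_zero, ← two_smul F] at ha
    exact absurd ((smul_eq_zero.1 ha).resolve_left Φ.two) hT0
  | succ n ih =>
    intro D 𝒳 hi₀ hD h𝒳 hinv T hT hT0
    by_cases hm : ∃ m, m ∉ D
    swap
    · push Not at hm
      obtain ⟨hc, ha⟩ := h𝒳 T hT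
      obtain ⟨c, rfl⟩ := scalar_of_commute fun l X => hc l (hm l) X
      rw [neg_one_smul, adj_smul, adj_one, eq_neg_iff_add_eq_zero, ← two_smul F] at ha
      exact absurd ((smul_eq_zero.1 ha).resolve_left Φ.two) hT0
    obtain ⟨m, hm⟩ := hm
    have hcard : (Finset.univ \ insert m D).card ≤ n := by
      have h1 : (Finset.univ \ insert m D).card < (Finset.univ \ D).card :=
        Finset.card_lt_card ⟨Finset.sdiff_subset_sdiff (le_refl _) (Finset.subset_insert m D),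
          fun h => by simpa [hm] using h (show m ∈ Finset.univ \ D by simp [hm])⟩
      omega
    have hinv' : ∀ l ∉ insert m D, ∀ M, Φ.FacIn G l M → ∀ (ε : F), ∀ Y ∈ Φ.cmGrp (insert m D) ε,
        fa l M * Y * fa l (Φ.adj1 M) ∈ Φ.cmGrp (insert m D) ε := by
      intro l hl M hM ε Y hY
      refine ⟨fun p hp => ?_, by rw [adj_conj, hY.2, Matrix.mul_smul, Matrix.smul_mul]⟩
      have hne : l ≠ p := fun h => hl (h ▸ hp)
      exact ((cm_fa hne _).mul (hY.1 p hp)).mul (cm_fa hne _)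
    by_cases hcm : Cm m T
    · obtain ⟨l, θ, f, R, hl, h1, h2, h3, h4, h5, h6, h7⟩ := ih (insert m D)
        (𝒳 ⊓ Φ.cmGrp (insert m D) (-1)) (Finset.mem_insert_of_mem hi₀) hcard (fun Y hY => hY.2)
        (fun l hl M hM Y hY => ⟨hinv l (fun h => hl (Finset.mem_insert_of_mem h)) M hM Y hY.1,
          hinv' l hl M hM _ Y hY.2⟩) T
        ⟨hT, fun p hp => (Finset.mem_insert.1 hp).elim (fun h => h ▸ hcm) ((h𝒳 T hT).1 p),
          (h𝒳 T hT).2⟩ hT0
      exact ⟨l, θ, f, R, fun h => hl (Finset.mem_insert_of_mem h), h1, h2, h3, h4, h5,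
        ⟨fun p hp => h6.1 p (Finset.insert_subset_insert l (Finset.subset_insert m D) hp), h6.2⟩,
        h7.1⟩
    have hI : Φ.InvSet c₀ m 𝒳 := O.conj_mem (hinv m hm)
    by_cases hsing : ∀ f, f ≠ 0 → Φ.β f f = 0 → Φ.comp m f f T = 0
    · obtain ⟨f, θ, x, c, hf0, hf, hθf, hθθ, -, hc, hR, hswap, hmem⟩ :=
        hI.split_skew O.hk O.hq O.c₀_ne O.minus (O.comp_scalar hm (h𝒳 T hT).1 hi₀) hT hsing hcm
      refine ⟨m, θ, f, c • Φ.comp m f x T, hm, hf0, hf, hθf, hθθ,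
        fun h => hR ((smul_eq_zero.1 h).resolve_left hc), ⟨?_, ?_⟩, hmem⟩
      · intro p hp
        rcases Finset.mem_insert.1 hp with rfl | hp
        · exact (Φ.cm_comp _ _ _ _).smul _
        · have hne : m ≠ p := fun h => hm (h ▸ hp)
          exact Cm.smul (Cm.sum _ _ fun r _ => ((cm_fa hne _).mul ((h𝒳 T hT).1 p hp)).mul
            (cm_fa hne _)) _
      · rw [adj_smul, adj_comp, (h𝒳 T hT).2, neg_one_smul, comp_neg, hswap, neg_neg, one_smul]
    push Not at hsing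
    obtain ⟨f, hf0, hf, hne⟩ := hsing
    obtain ⟨c, hc, hcm'⟩ := hI.split_sandwich O.hk O.hq hf hT
    rw [PXP, ← Matrix.mul_smul] at hcm'
    let 𝒳' : AddSubgroup MT := (𝒳.comap (AddMonoidHom.mulLeft (Φ.P m f f))) ⊓
      Φ.cmGrp (insert m D) (-1)
    have hclose : ∀ l ∉ insert m D, ∀ M, Φ.FacIn G l M → ∀ Y ∈ 𝒳',
        fa l M * Y * fa l (Φ.adj1 M) ∈ 𝒳' := by
      intro l hl M hM Y hY
      refine ⟨?_, hinv' l hl M hM _ Y hY.2⟩
      show Φ.P m f f * _ ∈ 𝒳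
      have hml : m ≠ l := fun h => hl (h ▸ Finset.mem_insert_self m D)
      have h9 := hinv l (fun h => hl (Finset.mem_insert_of_mem h)) M hM _ hY.1
      change fa l M * (Φ.P m f f * Y) * fa l (Φ.adj1 M) ∈ 𝒳 at h9
      rwa [← mul_assoc (fa l M), ← (Φ.cm_P hml f f M).eq, mul_assoc (Φ.P m f f),
        mul_assoc (Φ.P m f f)] at h9
    have hseed : c • Φ.comp m f f T ∈ 𝒳' := by
      refine ⟨hcm', fun p hp => ?_, ?_⟩
      · rcases Finset.mem_insert.1 hp with rfl | hp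
        · exact (Φ.cm_comp _ _ _ _).smul _
        · have hne : m ≠ p := fun h => hm (h ▸ hp)
          exact Cm.smul (Cm.sum _ _ fun r _ => ((cm_fa hne _).mul ((h𝒳 T hT).1 p hp)).mul
            (cm_fa hne _)) _
      · rw [adj_smul, adj_comp, (h𝒳 T hT).2, neg_one_smul, neg_one_smul, comp_neg, smul_neg]
    obtain ⟨l, θ, g, R, hl, h1, h2, h3, h4, h5, h6, h7⟩ := ih (insert m D) 𝒳' (Finset.mem_insert_of_mem hi₀) hcard
      (fun Y hY => hY.2) hclose _ hseed (fun h => hne ((smul_eq_zero.1 h).resolve_left hc))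
    have hlm : m ≠ l := fun h => hl (h ▸ Finset.mem_insert_self m D)
    refine ⟨l, θ, g, Φ.P m f f * R, fun h => hl (Finset.mem_insert_of_mem h), h1, h2, h3, h4,
      Φ.P_mul_cm_ne_zero hf0 (h6.1 m (by simp)) h5, ⟨fun p hp => ?_, ?_⟩, ?_⟩
    · have hpm : m ≠ p := by
        rcases Finset.mem_insert.1 hp with rfl | hp
        · exact hlm
        · exact fun h => hm (h ▸ hp)
      exact (Φ.cm_P hpm f f).mul (h6.1 p (Finset.insert_subset_insert l
        (Finset.subset_insert m D) hp))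
    · rw [adj_mul, adj_P, h6.2, one_smul, one_smul, (h6.1 m (by simp)).P_comm]
    · have h8 : Φ.P m f f * (Φ.W l θ g * R) ∈ 𝒳 := h7.1
      rwa [← mul_assoc, ← (Φ.cm_W (Ne.symm hlm) θ g).P_comm, mul_assoc] at h8

/-- A commutator of two decomposed elements, spread over a pair of factors. -/
theorem Ov.tt_of_pair {i l : Fin t} (hil : l ≠ i) {e θ f : Vk} (he0 : e ≠ 0) (he : Φ.β e e = 0)
    (hf0 : f ≠ 0) (hf : Φ.β f f = 0) (hθ : Φ.β θ f = 0) (hθθ : Φ.β θ θ ≠ 0) {R R' : MT}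
    (hR : R ∈ Φ.cmGrp {i, l} 1) (hR' : R' ∈ Φ.cmGrp {i, l} 1)
    (hz : Φ.ZS G i e (Φ.W l θ f * R)) (hz' : Φ.ZS G i e (Φ.W l θ f * R')) :
    Φ.TT G l i (R * R' + R' * R) := by
  obtain ⟨hRc, hRa⟩ := hR
  obtain ⟨hR'c, hR'a⟩ := hR'
  rw [one_smul] at hRa hR'a
  obtain ⟨e', a, he', hee', ha, haa⟩ := Φ.exists_orth_aniso O.hk he0 he
  obtain ⟨ha1, ha2⟩ := (mem_pairPerp Φ.sform).1 ha
  have hM := O.facIn_E (i := i) he' ha2
  set y := Φ.E1 e' a *ᵥ e with hy
  have hyy : Φ.β y y = 0 := by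
    rw [hy, E1_mulVec]
    exact (CfsgLib.MaxSub.TensorOO.eich_isom Φ.sform he' (Φ.sform.symm0 ha2) e e).trans he
  set b := Φ.β e y with hb
  have hb0 : b ≠ 0 := by
    rw [hb, hy, E1_mulVec, eich_apply]
    simp only [Φ.sform.add_right, Φ.sform.sub_right, Φ.sform.smul_right, he, hee',
      Φ.sform.symm a e, ha1]
    simp [haa, Φ.two]
  set n := Φ.β θ θ with hn
  have key : ∀ {A B : MT}, A ∈ Φ.cmGrp {i, l} 1 → B ∈ Φ.cmGrp {i, l} 1 →
      Φ.ZS G i e (Φ.W l θ f * A) → Φ.ZS G i y (Φ.W l θ f * B) →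
      Φ.ZS G l f ((-n * b) • (Φ.P i e y * (A * B) - Φ.P i y e * (B * A))) := by
    intro A B hA hB hzA hzB
    have hA' := hA.2; have hB' := hB.2
    rw [one_smul] at hA' hB'
    have hAi : Cm i A := hA.1 i (by simp)
    have hBi : Cm i B := hB.1 i (by simp)
    have hAl : Cm l A := hA.1 l (by simp)
    have hBl : Cm l B := hB.1 l (by simp)
    obtain ⟨-, -, g, hg, hgv⟩ := hzA
    obtain ⟨-, -, g', hg', hgv'⟩ := hzB
    set X := Φ.P i e e * (Φ.W l θ f * A) with hX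
    set X' := Φ.P i y y * (Φ.W l θ f * B) with hX'
    set K : MT := Φ.W l θ f
    have hKi : Cm i K := Φ.cm_W hil θ f
    have hprod : ∀ {u v : Vk} {C C' : MT}, Cm i C → Cm l C →
        Φ.P i u u * (K * C) * (Φ.P i v v * (K * C')) =
          Φ.β u v • (Φ.P i u v * ((-n) • (Φ.P l f f) * (C * C'))) := by
      intro u v C C' hC hC'
      rw [mul_assoc, ← mul_assoc (K * C), (hKi.mul hC).P_comm, mul_assoc, P_mul',
        ← mul_assoc (K * C), mul_assoc K C, show C * K = K * C by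
          simp only [K, W, mul_sub, sub_mul, hC'.P_comm],
        ← mul_assoc K K, mul_assoc (K * K) C, Φ.W_sq hf hθ]
    have hK3 : ∀ Z : MT, K * (Φ.P l f f * Z) = 0 := fun Z => by
      rw [← mul_assoc]
      simp only [K, W, sub_mul, P_mul, hθ, hf, zero_smul, sub_zero, zero_mul]
    have hXX : X * X = 0 := by rw [hX, hprod hAi hAl, he, zero_smul]
    have hX'X' : X' * X' = 0 := by rw [hX', hprod hBi hBl, hyy, zero_smul]
    have htri : ∀ {u v w : Vk} {C C' C'' : MT}, Cm i C → Cm l C → Cm i C' → Cm l C' →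
        Φ.P i u u * (K * C) * (Φ.P i v v * (K * C') * (Φ.P i w w * (K * C''))) = 0 := by
      intro u v w C C' C'' h1 h2 h3 h4
      have hC : C * Φ.P l f f = Φ.P l f f * C := (h2 _).eq
      have hP : Φ.P i v w * ((-n) • Φ.P l f f * (C' * C'')) =
          (-n) • (Φ.P i v w * (Φ.P l f f * (C' * C''))) := by
        rw [Matrix.smul_mul, Matrix.mul_smul]
      rw [hprod h3 h4, hP, Matrix.mul_smul, Matrix.mul_smul, mul_assoc, ← mul_assoc (K * C),
        (hKi.mul h1).P_comm, mul_assoc (Φ.P i v w), mul_assoc K C, ← mul_assoc C, hC,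
        mul_assoc (Φ.P l f f) C, hK3]
      simp
    have hinv : ((g⁻¹ : GL (Fin t → Fin k) F) : MT) = 1 - X := by
      refine Units.inv_eq_of_mul_eq_one_left ?_
      rw [hgv]; simp only [sub_mul, mul_add, one_mul, mul_one, hXX]; abel
    have hinv' : ((g'⁻¹ : GL (Fin t → Fin k) F) : MT) = 1 - X' := by
      refine Units.inv_eq_of_mul_eq_one_left ?_
      rw [hgv']; simp only [sub_mul, mul_add, one_mul, mul_one, hX'X']; abel
    have t1 : X * (X' * X) = 0 := htri hAi hAl hBi hBl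
    have t2 : X * (X' * X') = 0 := by rw [hX'X', mul_zero]
    have t3 : X' * (X * X') = 0 := htri hBi hBl hAi hAl
    refine ⟨?_, ?_, g * g' * g⁻¹ * g'⁻¹,
      mul_mem (mul_mem (mul_mem hg hg') (inv_mem hg)) (inv_mem hg'), ?_⟩
    · exact (((Φ.cm_P (Ne.symm hil) e y).mul (hAl.mul hBl)).sub
        ((Φ.cm_P (Ne.symm hil) y e).mul (hBl.mul hAl))).smul _
    · rw [adj_smul, ← smul_neg, adj_sub, adj_mul, adj_mul, adj_mul, adj_mul, adj_P, adj_P, hA', hB',
        ← (hBi.mul hAi).P_comm, ← (hAi.mul hBi).P_comm, neg_sub]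
    · rw [Units.val_mul, Units.val_mul, Units.val_mul, hgv, hgv', hinv, hinv']
      have main : (1 + X) * (1 + X') * (1 - X) * (1 - X') = 1 + (X * X' - X' * X) := by
        have t4 : ∀ Z, X * (X * Z) = 0 := fun Z => by rw [← mul_assoc, hXX, zero_mul]
        have t5 : ∀ Z, X' * (X' * Z) = 0 := fun Z => by rw [← mul_assoc, hX'X', zero_mul]
        simp only [add_mul, mul_add, sub_mul, mul_sub, one_mul, mul_one, mul_assoc, hXX, hX'X', t1,
          t2, t3, t4, t5, mul_zero, zero_mul]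
        abel
      rw [main, hX, hX', hprod hAi hAl, hprod hBi hBl, ← hb, Φ.beta_symm e y, ← hb]
      rw [Matrix.mul_smul, mul_sub, ← mul_assoc (Φ.P l f f) (Φ.P i e y),
        ← mul_assoc (Φ.P l f f) (Φ.P i y e), (Φ.cm_P hil f f).P_comm, (Φ.cm_P hil f f).P_comm,
        mul_assoc, mul_assoc]
      simp only [Matrix.smul_mul, Matrix.mul_smul, neg_mul, mul_neg, smul_sub, smul_smul, neg_smul]
      module
  have hm : Φ.ZS G i y (Φ.W l θ f * R) := hz.move hM
  have hm' : Φ.ZS G i y (Φ.W l θ f * R') := hz'.move hM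
  set N := R * R' + R' * R with hN
  have hNl : Cm l N := ((hRc l (by simp)).mul (hR'c l (by simp))).add
    ((hR'c l (by simp)).mul (hRc l (by simp)))
  have hNi : Cm i N := ((hRc i (by simp)).mul (hR'c i (by simp))).add
    ((hR'c i (by simp)).mul (hRc i (by simp)))
  have hNa : Φ.adj N = N := by rw [hN, adj_add, adj_mul, adj_mul, hRa, hR'a, add_comm]
  have hpair : Φ.ZS G l f ((-n * b) • (Φ.W i e y * N)) := by
    have := (key ⟨hRc, by rw [hRa, one_smul]⟩ ⟨hR'c, by rw [hR'a, one_smul]⟩ hz hm').add hf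
      (key ⟨hR'c, by rw [hR'a, one_smul]⟩ ⟨hRc, by rw [hRa, one_smul]⟩ hz' hm)
    convert this using 1
    simp only [W, hN, sub_mul, mul_add]
    module
  have hline : ∀ η, Φ.β η e = 0 → Φ.ZS G l f (Φ.W i η e * N) := by
    intro η hη
    have hm1 : ∀ ζ, Φ.β ζ e = 0 →
        Φ.ZS G l f ((-n * b) • (Φ.W i e (Φ.E1 e ζ *ᵥ y) * N)) := fun ζ hζ => by
      have := hpair.conj (Ne.symm hil) (O.facIn_E he hζ)
      rw [Matrix.mul_smul, Matrix.smul_mul, conj_dec hNi, W, mul_sub, sub_mul, conj_P, conj_P,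
        adj1_adj1, E1_mulVec (e := e) (x := e),
        CfsgLib.MaxSub.TensorOO.eich_fix Φ.sform he (Φ.sform.symm0 hζ)] at this
      exact this
    set s := -(1 / (2 * b * (-n * b))) with hs
    have hsη : Φ.β (s • η) e = 0 := by rw [Φ.sform.smul_left, hη, mul_zero]
    have hnη : Φ.β (-(s • η)) e = 0 := by rw [Φ.sform.neg_left, hsη, neg_zero]
    have := (hm1 _ hsη).add hf ((hm1 _ hnη).neg hf)
    convert this using 1
    rw [E1_mulVec, E1_mulVec, eich_apply, eich_apply, Φ.sform.neg_left, Φ.sform.neg_right,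
      Φ.sform.neg_right, neg_neg, Φ.beta_symm e y, ← hb]
    simp only [Φ.sform.smul_left, Φ.sform.smul_right, W, P_add_left, P_add_right, P_sub_left,
      P_sub_right, P_smul_left, P_smul_right, P_neg_left, P_neg_right, sub_mul, add_mul,
      Matrix.smul_mul, neg_mul, hs]
    have := Φ.two
    have hn0 : n ≠ 0 := hθθ
    match_scalars <;> field_simp <;> ring
  refine ⟨hNl, hNi, hNa, fun f₁ e₁ η hf₁ he₁ hη => ?_⟩
  have hstep : ∀ e₁ η, Φ.β e₁ e₁ = 0 → Φ.β η e₁ = 0 → Φ.ZS G l f (Φ.W i η e₁ * N) := by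
    intro e₁ η he₁ hη
    rcases eq_or_ne e₁ 0 with rfl | he₁0
    · rw [W_zero_right, zero_mul]; exact zs_zero l f
    obtain ⟨M, hMI, s, hs, hMe⟩ := O.facIn_move (i := i) he0 he he₁0 he₁
    have hiso : ∀ x z, Φ.β (M *ᵥ x) (M *ᵥ z) = Φ.β x z := fun x z => Φ.isometry_beta hMI.1 x z
    set η' := s⁻¹ • (Φ.adj1 M *ᵥ η) with hη'
    have hMη : M *ᵥ η' = s⁻¹ • η := by
      rw [hη', Matrix.mulVec_smul, Matrix.mulVec_mulVec, mul_eq_one_comm.1 hMI.1, Matrix.one_mulVec]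
    have h0 : Φ.β η' e = 0 := by
      rw [← hiso η' e, hMη, hMe, Φ.sform.smul_left, Φ.sform.smul_right, hη]; ring
    have := (hline η' h0).conj (Ne.symm hil) hMI
    rwa [conj_dec hNi, W, mul_sub, sub_mul, conj_P, conj_P, adj1_adj1, hMη, hMe, ← W,
      W_smul_left, W_smul_right, smul_smul, inv_mul_cancel₀ hs, one_smul] at this
  rcases eq_or_ne f₁ 0 with rfl | hf₁0
  · refine zs_degenerate l ((Φ.cm_W (Ne.symm hil) η e₁).mul hNl) ?_
    rw [adj_mul, adj_W, hNa, mul_neg]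
    congr 1
    exact ((hNi _).sub_right (hNi _)).eq
  obtain ⟨M, hMI, s, hs, hMf⟩ := O.facIn_move (i := l) hf0 hf hf₁0 hf₁
  have h1 := (hstep e₁ ((s ^ 2)⁻¹ • η) he₁
    (by rw [Φ.sform.smul_left, hη, mul_zero])).move hMI
  rw [hMf] at h1
  have h2 := h1.of_smul
  rwa [W_smul_left, Matrix.smul_mul, smul_smul, mul_inv_cancel₀ (pow_ne_zero 2 hs), one_smul] at h2

end OForm

end CfsgLib.MaxSub.TensorPowOrth
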